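import Mathlib

/-!
The group of order 216 on 28 points and the involutions extending it: a finite search.
Points `0, …, 26` are the elements `a ^ i * b ^ j * z ^ k` (numbered `9 i + 3 j + k`) of the
extraspecial group of order 27 and exponent 3, point `27` is the fixed one.
-/

set_option autoImplicit false
set_option maxRecDepth 20000

namespace Cfsg.Agent.Recog.U33U.Model

/-- left multiplication by `u` -/
def mul (u v : ℕ) : ℕ :=
  bif Nat.ble 27 v then v else
    9 * ((u / 9 + v / 9) % 3) + 3 * ((u / 3 % 3 + v / 3 % 3) % 3) +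
      (u % 3 + v % 3 + (u / 3 % 3) * (v / 9)) % 3

/-- the inverse -/
def inv (u : ℕ) : ℕ :=
  9 * ((3 - u / 9) % 3) + 3 * ((3 - u / 3 % 3) % 3) + (3 - u % 3 + (u / 9) * (u / 3 % 3)) % 3

/-- a packed table -/
def get (t i : ℕ) : ℕ := Nat.land (Nat.shiftRight t (5 * i)) 31

/-- powers of the element of order eight -/
def hTab : List ℕ := [1212501494925312236363414443023805295200288, 1202752467898550736371094212466332585657408,
  1187211045800642956061233247049425477208096, 1205566139418463283868084794550867124159552,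
  1195641266995102696927173904434570220242976, 1191385424597534185417503617855175163315264,
  1181595404419744551682371078124668694464544, 1199814616789334831889429592315947969184832]

def hp (m i : ℕ) : ℕ := get (hTab.getD (m % 8) 0) i

def rep (i : ℕ) : ℕ := get 1181594841729396642502658557050676714767392 i

def ex (i : ℕ) : ℕ := get 2810202372084370557692037761229280773120 i

/-- the permutation given by the multiplier and the images of 1, 3, 4, 5 -/
def perm (k a1 a3 a4 a5 i : ℕ) : ℕ :=
  bif Nat.beq i 27 then 0 else bif Nat.beq i 0 then 27 else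
    hp (k * ex i) (bif Nat.beq (rep i) 1 then a1 else bif Nat.beq (rep i) 3 then a3 else
      bif Nat.beq (rep i) 4 then a4 else a5)

/-- the automorphism of the extraspecial group is read off at two generators -/
def inStab (f : ℕ → ℕ) : Bool :=
  (List.range 8).any fun m => Nat.beq (f 3) (mul (f 0) (hp m 3)) && Nat.beq (f 9) (mul (f 0) (hp m 9))

/-- the element fixing 27 obtained from a translation -/
def comp (W : ℕ → ℕ) (r i : ℕ) : ℕ := W (mul (inv (W r)) (W (mul r (W i))))

def closedAt (W : ℕ → ℕ) (r : ℕ) : Bool := inStab (comp W r)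

def closed (W : ℕ → ℕ) : Bool :=
  closedAt W 1 && closedAt W 3 && closedAt W 4 && closedAt W 5

/-- first level of the search -/
def pass1 (k a1 : ℕ) : Bool :=
  Nat.beq (hp (2 * k) a1) a1 && (!Nat.beq (rep a1) 1 || Nat.beq (perm k a1 0 0 0 a1) 1)

/-- second level of the search -/
def pass3 (k a1 a3 : ℕ) : Bool := !Nat.ble (rep a3) 3 || Nat.beq (perm k a1 a3 0 0 a3) 3

/-- third level of the search -/
def pass4 (k a1 a3 a4 : ℕ) : Bool :=
  (!Nat.ble (rep a3) 4 || Nat.beq (perm k a1 a3 a4 0 a3) 3) &&
    (!Nat.ble (rep a4) 4 || Nat.beq (perm k a1 a3 a4 0 a4) 4)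

/-- last level of the search -/
def pass5 (k a1 a3 a4 a5 : ℕ) : Bool :=
  Nat.beq (perm k a1 a3 a4 a5 a3) 3 && Nat.beq (perm k a1 a3 a4 a5 a4) 4 &&
    Nat.beq (perm k a1 a3 a4 a5 a5) 5 && closed (perm k a1 a3 a4 a5)

def isSol (k a1 a3 a4 a5 : ℕ) : Bool :=
  Nat.beq k 5 && Nat.beq a1 2 &&
    ((Nat.beq a3 16 && Nat.beq a4 8 && Nat.beq a5 20) || (Nat.beq a3 23 && Nat.beq a4 4 && Nat.beq a5 9))

def search (k : ℕ) : Bool :=
  (List.range 26).all fun a1 => !pass1 k (a1 + 1) || (List.range 26).all fun a3 =>
    !pass3 k (a1 + 1) (a3 + 1) || (List.range 26).all fun a4 =>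
      !pass4 k (a1 + 1) (a3 + 1) (a4 + 1) || (List.range 26).all fun a5 =>
        !pass5 k (a1 + 1) (a3 + 1) (a4 + 1) (a5 + 1) || isSol k (a1 + 1) (a3 + 1) (a4 + 1) (a5 + 1)

theorem search_one : search 1 = true := by decide +kernel
theorem search_three : search 3 = true := by decide +kernel
theorem search_five : search 5 = true := by decide +kernel
theorem search_seven : search 7 = true := by decide +kernel

/-- the model involution -/
def w0 (i : ℕ) : ℕ := perm 5 2 16 8 20 i

theorem sol_table : ((List.range 28).all fun i =>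
    Nat.beq (perm 5 2 23 4 9 i) (w0 (hp 4 i))) = true := by decide +kernel

theorem orbit_table : ((List.range 26).all fun i =>
    (Nat.beq (rep (i + 1)) 1 || Nat.beq (rep (i + 1)) 3 || Nat.beq (rep (i + 1)) 4 || Nat.beq (rep (i + 1)) 5) &&
      Nat.beq (hp (ex (i + 1)) (rep (i + 1))) (i + 1) && Nat.blt (ex (i + 1)) 8) = true := by
  decide +kernel

theorem fixed_one : hp 2 1 = 1 := by decide +kernel

theorem hp_table : ((List.range 8).all fun m => Nat.beq (hp m 27) 27 && Nat.beq (hp m 0) 0 &&
    (List.range 28).all fun i => Nat.beq (hp (m + 1) i) (hp 1 (hp m i))) = true := by decide +kernel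

theorem hp_zero : ((List.range 28).all fun i => Nat.beq (hp 0 i) i) = true := by decide +kernel

theorem mul_table : ((List.range 27).all fun u => Nat.blt (inv u) 27 && Nat.beq (mul (inv u) u) 0 &&
    Nat.beq (mul u 0) u && Nat.beq (mul 0 u) u && Nat.beq (mul u 27) 27) = true := by decide +kernel

/-- the element of order eight: powers of `a`, `b`, `z` and their images -/
theorem hp_gen : hp 1 9 = 3 ∧ hp 1 3 = mul 9 (mul 3 3) ∧ hp 1 1 = 2 := by decide +kernel

/-- automorphisms normalising the group of order eight -/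
def autPairs : List (ℕ × ℕ) :=
  ((List.range 27).product [1, 3, 5, 7]).filter fun x =>
    !Nat.ble x.1 2 && Nat.beq (hp (2 * x.2) x.1) (mul x.1 (mul (hp x.2 x.1) (hp x.2 x.1)))

theorem autPairs_length : autPairs.length = 16 := by decide +kernel

end Cfsg.Agent.Recog.U33U.Model
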