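import Mathlib
import Cfsg.Agent.Lib.Recog.U33U.Model

/-!
Groups generated as the extraspecial group of order 27 and exponent 3, written in the normal form
`a ^ i * b ^ j * z ^ k` of the model.
-/

set_option autoImplicit false

namespace Cfsg.Agent.Recog.U33U

open Model

variable {G : Type*} [Group G]

/-- The relations of the extraspecial group of order 27 and exponent 3. -/
structure Heis (a b z : G) : Prop where
  za : Commute z a
  zb : Commute z b
  ba : b * a = a * b * z
  a3 : a ^ 3 = 1
  b3 : b ^ 3 = 1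
  z3 : z ^ 3 = 1

/-- The element with number `u`. -/
def word (a b z : G) (u : ℕ) : G := a ^ (u / 9) * b ^ (u / 3 % 3) * z ^ (u % 3)

variable {a b z : G}

theorem Heis.b_pow_a (H : Heis a b z) (j : ℕ) : b ^ j * a = a * b ^ j * z ^ j := by
  induction j with
  | zero => simp
  | succ j ih =>
    calc b ^ (j + 1) * a = b * (b ^ j * a) := by rw [pow_succ', mul_assoc]
      _ = b * a * b ^ j * z ^ j := by rw [ih]; group
      _ = a * b * (z * b ^ j) * z ^ j := by rw [H.ba]; group
      _ = a * b * (b ^ j * z) * z ^ j := by rw [(H.zb.pow_right j).eq]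
      _ = a * b ^ (j + 1) * z ^ (j + 1) := by rw [pow_succ', pow_succ' z]; group

theorem Heis.b_pow_a_pow (H : Heis a b z) (j i : ℕ) :
    b ^ j * a ^ i = a ^ i * b ^ j * z ^ (j * i) := by
  induction i with
  | zero => simp
  | succ i ih =>
    calc b ^ j * a ^ (i + 1) = b ^ j * a ^ i * a := by rw [pow_succ, mul_assoc]
      _ = a ^ i * b ^ j * (z ^ (j * i) * a) := by rw [ih, mul_assoc]
      _ = a ^ i * (b ^ j * a) * z ^ (j * i) := by
          rw [(H.za.pow_left (j * i)).eq]; group
      _ = a ^ i * (a * b ^ j * z ^ j) * z ^ (j * i) := by rw [H.b_pow_a]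
      _ = a ^ (i + 1) * b ^ j * z ^ (j * (i + 1)) := by
          rw [pow_succ, show j * (i + 1) = j + j * i by ring, pow_add]; group

theorem word_mk (a b z : G) {i j k : ℕ} (hi : i < 3) (hj : j < 3) (hk : k < 3) :
    word a b z (9 * i + 3 * j + k) = a ^ i * b ^ j * z ^ k := by
  unfold word
  rw [show (9 * i + 3 * j + k) / 9 = i by omega, show (9 * i + 3 * j + k) / 3 % 3 = j by omega,
    show (9 * i + 3 * j + k) % 3 = k by omega]

theorem word_zero (a b z : G) : word a b z 0 = 1 := by simp [word]
theorem word_nine (a b z : G) : word a b z 9 = a := by simp [word]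
theorem word_three (a b z : G) : word a b z 3 = b := by simp [word]
theorem word_one (a b z : G) : word a b z 1 = z := by simp [word]

theorem pow_mod_three {g : G} (hg : g ^ 3 = 1) (n : ℕ) : g ^ (n % 3) = g ^ n := by
  conv_rhs => rw [← Nat.div_add_mod n 3, pow_add, pow_mul, hg, one_pow, one_mul]

theorem Heis.word_mul (H : Heis a b z) {u v : ℕ} (hv : v < 27) :
    word a b z u * word a b z v = word a b z (Model.mul u v) := by
  have h27 : Nat.ble 27 v = false := by
    rw [Bool.eq_false_iff]
    simp only [ne_eq, Nat.ble_eq]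
    omega
  rw [show Model.mul u v = 9 * ((u / 9 + v / 9) % 3) + 3 * ((u / 3 % 3 + v / 3 % 3) % 3) +
      (u % 3 + v % 3 + (u / 3 % 3) * (v / 9)) % 3 by rw [Model.mul, h27, cond_false],
    word_mk a b z (Nat.mod_lt _ (by norm_num)) (Nat.mod_lt _ (by norm_num))
      (Nat.mod_lt _ (by norm_num)), pow_mod_three H.a3, pow_mod_three H.b3, pow_mod_three H.z3]
  unfold word
  set i := u / 9
  set j := u / 3 % 3
  set k := u % 3
  set i' := v / 9
  set j' := v / 3 % 3
  set k' := v % 3
  calc a ^ i * b ^ j * z ^ k * (a ^ i' * b ^ j' * z ^ k')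
      = a ^ i * b ^ j * (z ^ k * a ^ i') * b ^ j' * z ^ k' := by group
    _ = a ^ i * (b ^ j * a ^ i') * (z ^ k * b ^ j') * z ^ k' := by
        rw [((H.za.pow_left k).pow_right i').eq]; group
    _ = a ^ i * (a ^ i' * b ^ j * z ^ (j * i')) * (b ^ j' * z ^ k) * z ^ k' := by
        rw [H.b_pow_a_pow, ((H.zb.pow_left k).pow_right j').eq]
    _ = a ^ i * a ^ i' * b ^ j * (z ^ (j * i') * b ^ j') * z ^ k * z ^ k' := by group
    _ = a ^ i * a ^ i' * (b ^ j * b ^ j') * (z ^ k * z ^ k' * z ^ (j * i')) := by
        rw [((H.zb.pow_left (j * i')).pow_right j').eq,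
          show z ^ k * z ^ k' * z ^ (j * i') = z ^ (j * i') * z ^ k * z ^ k' by
            simp only [← pow_add]; congr 1; ring]
        group
    _ = _ := by simp only [← pow_add]

end Cfsg.Agent.Recog.U33U
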