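import Mathlib
import Cfsg.Agent.Lib.Invol.Order7920Local
import Cfsg.Agent.Lib.Block.SmallOrd.Middle
import Cfsg.Agent.Lib.Char.DefectOneValues

/-!
Simple groups of order 6048: the characters of the principal 7-block and the elements of order three.
-/

set_option autoImplicit false
set_option linter.style.haveILetI false
set_option linter.unusedSectionVars false

namespace Cfsg.Agent.Recog.U33U

open scoped ComplexConjugate
open Cfsg Cfsg.Agent.Block Cfsg.Agent.Char
open Cfsg.Agent.Invol.M11Ord (dg dg_trivial value_one_nat int_value hyp_of_sylow pair_sum)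

universe u

variable {G : Type u} [Group G] [Finite G] [IsSimpleGroup G]

theorem not_comm (hG : Nat.card G = 6048) : ¬ IsMulCommutative G := fun h => by
  have h1 := card_prime_of_simple_of_comm (G := G) fun a b => h.1.1 a b
  rw [hG] at h1
  norm_num at h1

theorem exists_seven (hG : Nat.card G = 6048) : ∃ x : G, SCP.Hyp 7 x ∧ SCP.e x = 3 := by
  haveI : Fact (Nat.Prime 7) := ⟨by norm_num⟩
  obtain ⟨P⟩ : Nonempty (Sylow 7 G) := inferInstance
  obtain ⟨e, c, hL, hP, he, -, -, hC, -⟩ := SmallOrd.configs (not_comm hG) (p := 7) (B := 78) hG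
    [(288, 3, 1)] (by decide +kernel) P
  simp only [List.mem_cons, List.not_mem_nil, or_false, Prod.mk.injEq] at hL
  obtain ⟨-, rfl, rfl⟩ := hL
  obtain ⟨x, hx, hxe⟩ := hyp_of_sylow P hP (by rw [hC])
  exact ⟨x, hx, hxe.trans he⟩

omit [IsSimpleGroup G] in
theorem sum_sq (hG : Nat.card G = 6048) : ∑ χ : IrrCharacter G, dg χ ^ 2 = 6048 := by
  apply Nat.cast_injective (R := ℂ)
  push_cast
  rw [show (6048 : ℂ) = (Nat.card G : ℂ) by rw [hG]; norm_num, ← sum_degree_sq (G := G)]
  refine Finset.sum_congr (by ext; simp) fun χ _ => ?_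
  rw [charDeg_spec']

theorem deg_bounds (hG : Nat.card G = 6048) {χ : IrrCharacter G} (h : χ ≠ trivialIrr G) :
    2 ≤ dg χ ∧ dg χ ∣ 6048 ∧ dg χ ≤ 77 := by
  classical
  refine ⟨OrdP.two_le_deg (not_comm hG) h, hG ▸ charDeg_dvd χ, ?_⟩
  have h1 := sum_sq (G := G) hG
  rw [← Finset.add_sum_erase _ _ (Finset.mem_univ χ)] at h1
  by_contra hgt
  have h2 : 78 ^ 2 ≤ dg χ ^ 2 := Nat.pow_le_pow_left (by omega) 2
  omega

/-- The sum of a character over a subgroup is a natural multiple of its order. -/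
theorem sum_subgroup (χ : IrrCharacter G) (P : Subgroup G) [Fintype P] :
    ∃ m : ℕ, ∑ g : P, (χ : G → ℂ) g = (Nat.card P : ℂ) * m := by
  obtain ⟨n, ρ, hρ, hχ, hn, -⟩ := IsIrr.exists_rep χ.2
  have hP : (Nat.card P : ℂ) ≠ 0 := Nat.cast_ne_zero.2 Nat.card_pos.ne'
  haveI : Invertible (Nat.card P : ℂ) := invertibleOfNonzero hP
  let σ : Representation ℂ P (Fin n → ℂ) := MonoidHom.comp ρ P.subtype
  refine ⟨Module.finrank ℂ σ.invariants, ?_⟩
  rw [← σ.card_inv_mul_sum_char_eq_finrank, ← mul_assoc, mul_inv_cancel₀ hP, one_mul]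
  exact Finset.sum_congr rfl fun g _ => by rw [← hχ]; rfl

/-- The characters of degree 6, 27 and 32 and the others. -/
structure Tab (G : Type u) [Group G] [Finite G] where
  a : IrrCharacter G
  b : IrrCharacter G
  Y : Finset (IrrCharacter G)
  O : Finset (IrrCharacter G)
  da : dg a = 6
  db : dg b = 27
  dY : ∀ χ ∈ Y, dg χ = 32
  cY : Y.card = 2
  uniq_a : ∀ χ, dg χ = 6 → χ = a
  hsum : ∀ F : IrrCharacter G → ℂ, ∑ χ, F χ =
    F (trivialIrr G) + F a + F b + ∑ χ ∈ Y, F χ + ∑ χ ∈ O, F χ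
  seven : ∀ g : G, orderOf g = 7 → (a : G → ℂ) g = -1 ∧ (b : G → ℂ) g = -1 ∧
    ∀ χ ∈ O, (χ : G → ℂ) g = 0
  rel : ∀ ψ ∈ Y, ∀ g : G, ¬ 7 ∣ orderOf g → (ψ : G → ℂ) g = (a : G → ℂ) g + (b : G → ℂ) g - 1

/-- No element of order seven is conjugate to its inverse. -/
theorem no_pair_seven (hG : Nat.card G = 6048) {x t : G} (hx : orderOf x = 7) (ht : orderOf t = 2)
    (k : G) : ¬ IsConj (t * (k * t * k⁻¹)) x := by
  intro hc
  haveI : Fact (Nat.Prime 7) := ⟨by norm_num⟩
  obtain ⟨x₀, hx₀, he₀⟩ := exists_seven hG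
  set z := t * (k * t * k⁻¹) with hzd
  obtain ⟨d, hd⟩ := isConj_iff.1 hc
  have hz : orderOf z = 7 := by
    rw [← hx, ← hd]
    exact ((MulAut.conj d).orderOf_eq z).symm
  have h := SCP.hyp_of_ord hx₀ hz
  have htt : t⁻¹ = t := by
    rw [inv_eq_iff_mul_eq_one, ← sq, ← ht]
    exact pow_orderOf_eq_one t
  have hinv : t * z * t⁻¹ = z⁻¹ := by
    simp only [hzd, mul_inv_rev, inv_inv, htt, mul_assoc]
    rw [← mul_assoc t t, show t * t = 1 by rw [mul_eq_one_iff_eq_inv, htt], one_mul]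
  have hN : t ∈ SCP.N z := SCP.mem_N_of_conj h (Subgroup.mem_zpowers z) (SCP.ne_one h)
    (by rw [hinv]; exact inv_mem (Subgroup.mem_zpowers z))
  have h1 := Subgroup.orderOf_dvd_natCard _ hN
  have e1 := SCP.classes_mul_e h
  have e2 := SCP.classes_mul_e hx₀
  rw [he₀] at e2
  rw [show Nat.card {C : ConjClasses G // ∃ g ∈ C.carrier, orderOf g = 7} = 2 by omega] at e1
  rw [SCP.card_N h, show SCP.e z = 3 by omega, ht] at h1
  norm_num at h1

theorem sylow_three (hG : Nat.card G = 6048) (P : Sylow 3 G) : Nat.card P = 27 := by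
  rw [Sylow.card_eq_multiplicity, hG, show (6048 : ℕ) = 3 ^ 3 * 224 by norm_num,
    Nat.factorization_mul (by norm_num) (by norm_num), Finsupp.add_apply,
    Nat.prime_three.factorization_pow, Finsupp.single_eq_same,
    Nat.factorization_eq_zero_of_not_dvd (by norm_num : ¬ 3 ∣ 224)]
  norm_num

omit [IsSimpleGroup G] in
theorem order_three_of_mem (h9 : ∀ g : G, orderOf g ≠ 9) {P : Subgroup G} (hP : Nat.card P = 27)
    {g : G} (hg : g ∈ P) (hg1 : g ≠ 1) : orderOf g = 3 := by
  have hd := Subgroup.orderOf_dvd_natCard P hg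
  rw [hP, show (27 : ℕ) = 3 ^ 3 by norm_num, Nat.dvd_prime_pow Nat.prime_three] at hd
  obtain ⟨i, hi, hi'⟩ := hd
  interval_cases i
  · exact absurd (orderOf_eq_one_iff.1 (by rw [hi', pow_zero])) hg1
  · rw [hi', pow_one]
  · exact absurd hi' (h9 g)
  · exfalso
    refine h9 (g ^ 3) ?_
    rw [orderOf_pow' g (by norm_num : 3 ≠ 0), hi']
    norm_num

theorem exists_tab (hG : Nat.card G = 6048) (h9 : ∀ g : G, orderOf g ≠ 9) : Nonempty (Tab G) := by
  classical
  haveI := Fintype.ofFinite G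
  haveI : Fact (Nat.Prime 7) := ⟨by norm_num⟩
  obtain ⟨x, hx, hxe⟩ := exists_seven hG
  have hxo : orderOf x = 7 := hx.ord
  obtain ⟨X, Y, c, ε, hc⟩ := SCP.exists_chars hx
  rw [hxe] at hc
  have hY2 : Y.card = 2 := by have := hc.card_Y; omega
  have htY : trivialIrr G ∉ Y := fun h => by
    have h1 := hc.deg_Y _ h
    rw [show charDegree ((trivialIrr G : IrrCharacter G) : G → ℂ) = 1 from dg_trivial,
      Int.ModEq] at h1
    rcases hc.ε_sign with e | e <;> rw [e] at h1 <;> norm_num at h1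
  have htX : trivialIrr G ∈ X := (Finset.mem_union.1 hc.trivial_mem).resolve_right htY
  have hct : c (trivialIrr G) = -1 := by
    have h1 := hc.deg_X _ htX
    rw [show charDegree ((trivialIrr G : IrrCharacter G) : G → ℂ) = 1 from dg_trivial,
      Int.ModEq] at h1
    rcases hc.c_sign _ htX with e | e <;> rw [e] at h1 ⊢
    norm_num at h1
  have hkT : ∀ χ ∈ X, χ ≠ trivialIrr G →
      (c χ = 1 ∧ (dg χ = 6 ∨ dg χ = 27 ∨ dg χ = 48)) ∨ (c χ = -1 ∧ (dg χ = 8 ∨ dg χ = 36)) := by
    intro χ hχX hne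
    obtain ⟨h2, hdv, hle⟩ := deg_bounds hG hne
    have h1 := hc.deg_X χ hχX
    rw [Int.ModEq] at h1
    rcases hc.c_sign χ hχX with e | e <;> rw [e] at h1 ⊢
    · refine Or.inl ⟨rfl, ?_⟩
      obtain ⟨q, hq⟩ : ∃ q, dg χ = 7 * q + 6 := ⟨dg χ / 7, by unfold dg; omega⟩
      have hq7 : q ≤ 10 := by omega
      interval_cases q <;> first | omega | (rw [hq] at hdv; norm_num at hdv)
    · refine Or.inr ⟨rfl, ?_⟩
      obtain ⟨q, hq⟩ : ∃ q, dg χ = 7 * q + 1 := ⟨dg χ / 7, by unfold dg; omega⟩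
      have hq7 : q ≤ 10 := by omega
      interval_cases q <;> first | omega | (rw [hq] at hdv; norm_num at hdv)
  have hkY : ∀ χ ∈ Y, (ε = 1 ∧ (dg χ = 3 ∨ dg χ = 24)) ∨
      (ε = -1 ∧ (dg χ = 4 ∨ dg χ = 18 ∨ dg χ = 32)) := by
    intro χ hχ
    obtain ⟨h2, hdv, hle⟩ := deg_bounds hG (χ := χ) fun e => htY (e ▸ hχ)
    have h1 := hc.deg_Y χ hχ
    rw [Int.ModEq] at h1
    rcases hc.ε_sign with e | e <;> rw [e] at h1 ⊢
    · refine Or.inl ⟨rfl, ?_⟩
      obtain ⟨q, hq⟩ : ∃ q, dg χ = 7 * q + 3 := ⟨dg χ / 7, by unfold dg; omega⟩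
      have hq7 : q ≤ 10 := by omega
      interval_cases q <;> first | omega | (rw [hq] at hdv; norm_num at hdv)
    · refine Or.inr ⟨rfl, ?_⟩
      obtain ⟨q, hq⟩ : ∃ q, dg χ = 7 * q + 4 := ⟨dg χ / 7, by unfold dg; omega⟩
      have hq7 : q ≤ 10 := by omega
      interval_cases q <;> first | omega | (rw [hq] at hdv; norm_num at hdv)
  obtain ⟨u, v, huv, he⟩ := Finset.card_eq_two.1 (show (X.erase (trivialIrr G)).card = 2 by
    rw [Finset.card_erase_of_mem htX, hc.card_X])
  have huX : u ≠ trivialIrr G ∧ u ∈ X := Finset.mem_erase.1 (by rw [he]; simp)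
  have hvX : v ≠ trivialIrr G ∧ v ∈ X := Finset.mem_erase.1 (by rw [he]; simp)
  have hone : ∀ ψ ∈ Y, -1 + c u * (dg u : ℤ) + c v * (dg v : ℤ) + ε * (dg ψ : ℤ) = 0 := by
    intro ψ hψ
    have h1 := hc.regular ψ hψ 1 (by rw [orderOf_one]; norm_num)
    rw [← Finset.add_sum_erase X _ htX, hct, he, Finset.sum_pair huv] at h1
    apply Int.cast_injective (α := ℂ)
    push_cast
    rw [← h1]
    simp only [charDeg_spec', dg]
    rw [show charDegree ((trivialIrr G : IrrCharacter G) : G → ℂ) = 1 from dg_trivial]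
    push_cast
    ring
  obtain ⟨ψ₀, hψ₀⟩ : Y.Nonempty := Finset.card_pos.1 (by omega)
  -- the three possible sets of degrees
  obtain ⟨a, b, haX, hbX, hca, heab, hcases⟩ : ∃ a b : IrrCharacter G, a ∈ X ∧ b ∈ X ∧
      c a = 1 ∧ X.erase (trivialIrr G) = {a, b} ∧
      ((dg a = 6 ∧ c b = 1 ∧ dg b = 27 ∧ ε = -1 ∧ dg ψ₀ = 32) ∨
       (dg a = 6 ∧ c b = -1 ∧ dg b = 8 ∧ ε = 1 ∧ dg ψ₀ = 3) ∨
       (dg a = 27 ∧ c b = -1 ∧ dg b = 8 ∧ ε = -1 ∧ dg ψ₀ = 18)) := by
    have h0 := hone ψ₀ hψ₀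
    rcases hkT u huX.2 huX.1 with ⟨cu, du⟩ | ⟨cu, du⟩ <;>
      rcases hkT v hvX.2 hvX.1 with ⟨cv, dv⟩ | ⟨cv, dv⟩ <;>
      rcases hkY ψ₀ hψ₀ with ⟨e, d⟩ | ⟨e, d⟩ <;> rw [cu, cv, e] at h0
    · exfalso; omega
    · rcases du with du | du | du <;> rcases dv with dv | dv | dv <;> rcases d with d | d | d <;>
        first
          | exact ⟨u, v, huX.2, hvX.2, cu, he, Or.inl ⟨du, cv, dv, e, d⟩⟩
          | exact ⟨v, u, hvX.2, huX.2, cv, by rw [he, Finset.pair_comm], Or.inl ⟨dv, cu, du, e, d⟩⟩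
          | (exfalso; rw [du, dv, d] at h0; norm_num at h0)
    · rcases du with du | du | du <;> rcases dv with dv | dv <;> rcases d with d | d <;>
        first
          | exact ⟨u, v, huX.2, hvX.2, cu, he, Or.inr (Or.inl ⟨du, cv, dv, e, d⟩)⟩
          | (exfalso; rw [du, dv, d] at h0; norm_num at h0)
    · rcases du with du | du | du <;> rcases dv with dv | dv <;> rcases d with d | d | d <;>
        first
          | exact ⟨u, v, huX.2, hvX.2, cu, he, Or.inr (Or.inr ⟨du, cv, dv, e, d⟩)⟩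
          | (exfalso; rw [du, dv, d] at h0; norm_num at h0)
    · rcases du with du | du <;> rcases dv with dv | dv | dv <;> rcases d with d | d <;>
        first
          | exact ⟨v, u, hvX.2, huX.2, cv, by rw [he, Finset.pair_comm],
              Or.inr (Or.inl ⟨dv, cu, du, e, d⟩)⟩
          | (exfalso; rw [du, dv, d] at h0; norm_num at h0)
    · rcases du with du | du <;> rcases dv with dv | dv | dv <;> rcases d with d | d | d <;>
        first
          | exact ⟨v, u, hvX.2, huX.2, cv, by rw [he, Finset.pair_comm],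
              Or.inr (Or.inr ⟨dv, cu, du, e, d⟩)⟩
          | (exfalso; rw [du, dv, d] at h0; norm_num at h0)
    · exfalso; omega
    · exfalso; omega
  have hab : a ≠ b := fun e => by
    rcases hcases with ⟨d1, c1, d2, -⟩ | ⟨d1, c1, d2, -⟩ | ⟨d1, c1, d2, -⟩ <;>
      (rw [e] at d1; omega)
  have hat : a ≠ trivialIrr G := fun e => by
    rcases hcases with ⟨d1, -⟩ | ⟨d1, -⟩ | ⟨d1, -⟩ <;> (rw [e, dg_trivial] at d1; omega)
  have hbt : b ≠ trivialIrr G := fun e => by
    rcases hcases with ⟨-, -, d1, -⟩ | ⟨-, -, d1, -⟩ | ⟨-, -, d1, -⟩ <;>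
      (rw [e, dg_trivial] at d1; omega)
  have hXeq : X = {trivialIrr G, a, b} := by rw [← Finset.insert_erase htX, heab]
  have hdY : ∀ ψ ∈ Y, dg ψ = dg ψ₀ := by
    intro ψ hψ
    have h1 := hone ψ hψ
    have h2 := hone ψ₀ hψ₀
    rcases hc.ε_sign with e | e <;> rw [e] at h1 h2 <;> omega
  have hrel : ∀ ψ ∈ Y, ∀ g : G, ¬ 7 ∣ orderOf g →
      (ε : ℂ) * (ψ : G → ℂ) g = 1 - (a : G → ℂ) g - (c b : ℂ) * (b : G → ℂ) g := by
    intro ψ hψ g hg
    have h1 := hc.regular ψ hψ g hg
    rw [← Finset.add_sum_erase X _ htX, hct, heab, Finset.sum_pair hab, hca,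
      show ((trivialIrr G : IrrCharacter G) : G → ℂ) g = 1 from rfl] at h1
    push_cast at h1
    linear_combination h1
  have huniq : ∀ (χ : IrrCharacter G) (d : ℕ), dg χ = d → ¬ 7 ∣ d → d ≠ 1 → d ≠ dg ψ₀ →
      χ = a ∨ χ = b := by
    intro χ d hd h7 h1 hY
    by_cases hm : χ ∈ X ∪ Y
    · rcases Finset.mem_union.1 hm with h | h
      · rw [hXeq, Finset.mem_insert, Finset.mem_insert, Finset.mem_singleton] at h
        rcases h with rfl | h | h
        · exact absurd (hd.symm.trans dg_trivial) h1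
        exacts [Or.inl h, Or.inr h]
      · exact absurd (hd.symm.trans (hdY χ h)) hY
    · exact absurd (hd ▸ hc.dvd_deg χ hm) h7
  rcases hcases with ⟨hda, hcb, hdb, hε, hd0⟩ | ⟨hda, hcb, hdb, hε, hd0⟩ | ⟨hda, hcb, hdb, hε, hd0⟩
  · refine ⟨⟨a, b, Y, (X ∪ Y)ᶜ, hda, hdb, fun χ hχ => (hdY χ hχ).trans hd0, hY2, ?_, ?_, ?_, ?_⟩⟩
    · intro χ hχ
      rcases huniq χ 6 hχ (by norm_num) (by norm_num) (by rw [hd0]; norm_num) with h | h
      · exact h
      · rw [h, hdb] at hχ; omega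
    · intro F
      rw [← Finset.sum_add_sum_compl (X ∪ Y), Finset.sum_union hc.disj, hXeq,
        Finset.sum_insert (by simp [hat.symm, hbt.symm]), Finset.sum_pair hab]
      ring
    · intro g hg
      refine ⟨?_, ?_, fun χ hχ => hc.vanish χ (Finset.mem_compl.1 hχ) g hg⟩
      · rw [hc.value a haX g hg, hca]; norm_num
      · rw [hc.value b hbX g hg, hcb]; norm_num
    · intro ψ hψ g hg
      have h1 := hrel ψ hψ g hg
      rw [hcb, hε] at h1
      push_cast at h1
      linear_combination -h1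
  · -- a character of degree three is impossible
    exfalso
    haveI : Fact (Nat.Prime 3) := ⟨Nat.prime_three⟩
    obtain ⟨M, hM⟩ := exists_isPModular 3 Nat.prime_three
    obtain ⟨S⟩ : Nonempty (Sylow 3 G) := inferInstance
    have hS : Nat.card (S : Subgroup G) = 27 := sylow_three hG S
    haveI := Fintype.ofFinite (S : Subgroup G)
    have hval : ∀ g : G, orderOf g = 3 → ∃ m : ℤ,
        (ψ₀ : G → ℂ) g = m ∧ (3 : ℤ) ∣ m ∧ -3 ≤ m ∧ m ≤ 0 := by
      intro g hg
      have h7 : ¬ 7 ∣ orderOf g := by rw [hg]; norm_num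
      obtain ⟨ma, hma⟩ := int_value a g fun ψ hψ => by
        rcases huniq ψ 6 (hψ.trans hda) (by norm_num) (by norm_num) (by rw [hd0]; norm_num)
          with h | h
        · rw [h]
        · rw [h, hdb, hda] at hψ; omega
      obtain ⟨mb, hmb⟩ := int_value b g fun ψ hψ => by
        rcases huniq ψ 8 (hψ.trans hdb) (by norm_num) (by norm_num) (by rw [hd0]; norm_num)
          with h | h
        · rw [h, hdb, hda] at hψ; omega
        · rw [h]
      have h1 := hrel ψ₀ hψ₀ g h7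
      rw [hcb, hε, hma, hmb] at h1
      refine ⟨1 - ma + mb, by push_cast at h1 ⊢; linear_combination h1, ?_⟩
      have hv : (ψ₀ : G → ℂ) g = ((1 - ma + mb : ℤ) : ℂ) := by
        push_cast at h1 ⊢; linear_combination h1
      have hd := DefectOne.degree_congr hM ψ₀ (x := g) (z := 1 - ma + mb)
        (by rw [← hg, pow_orderOf_eq_one]) (by rw [hv, sub_self]; exact ideal_zero hM)
      rw [show charDegree (ψ₀ : G → ℂ) = 3 from hd0, Int.ModEq] at hd
      have hne : ψ₀ ≠ trivialIrr G := fun e => by rw [e, dg_trivial] at hd0; omega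
      have hn := OrdP.norm_value_le ψ₀ g
      rw [hv, Complex.norm_intCast, show charDegree (ψ₀ : G → ℂ) = 3 from hd0] at hn
      have hn' : |1 - ma + mb| ≤ 3 := by exact_mod_cast hn
      rw [abs_le] at hn'
      have h3 : (1 - ma + mb) ≠ 3 := fun e => by
        have := OrdP.eq_one_of_value hne (g := g)
          (by rw [hv, e, value_one_nat, hd0]; norm_num)
        rw [this, orderOf_one] at hg
        omega
      push_cast at hd
      omega
    choose m hm hm3 hlo hhi using hval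
    let f : ↥(S : Subgroup G) → ℤ := fun g =>
      if h : orderOf (g : G) = 3 then m g h else 3
    obtain ⟨k, hk⟩ := sum_subgroup ψ₀ (S : Subgroup G)
    have hf : ∀ g : (S : Subgroup G), (ψ₀ : G → ℂ) g = f g := by
      intro g
      by_cases h : orderOf (g : G) = 3
      · simp only [f, dif_pos h]
        exact hm g h
      · have hg1 : (g : G) = 1 := by
          by_contra hne
          exact h (order_three_of_mem h9 hS g.2 hne)
        simp only [f, dif_neg h]
        rw [hg1, value_one_nat, hd0]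
        norm_num
    simp only [hf] at hk
    have hsum : (∑ g : (S : Subgroup G), f g) = 27 * (k : ℤ) := by
      apply Int.cast_injective (α := ℂ)
      push_cast
      rw [hk, hS]
      norm_num
    rw [← Finset.add_sum_erase _ _ (Finset.mem_univ 1), show f 1 = 3 by
      simp only [f, OneMemClass.coe_one, orderOf_one]; norm_num] at hsum
    set R := (Finset.univ.erase (1 : (S : Subgroup G))) with hR
    have hne : ∀ g ∈ R, orderOf (g : G) = 3 := fun g hg => order_three_of_mem h9 hS g.2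
      fun e => Finset.ne_of_mem_erase hg (Subtype.ext e)
    have hneg : ∑ g ∈ R, f g ≤ 0 := Finset.sum_nonpos fun g hg => by
      simp only [f, dif_pos (hne g hg)]; exact hhi _ _
    have hval' : ∀ g ∈ R, f g = 0 ∨ f g = -3 := fun g hg => by
      simp only [f, dif_pos (hne g hg)]
      have h1 := hm3 g (hne g hg)
      have h2 := hlo g (hne g hg)
      have h3 := hhi g (hne g hg)
      omega
    have hsum' : ∑ g ∈ R, f g = -3 := by omega
    obtain ⟨g, hg, hg0⟩ := Finset.exists_ne_zero_of_sum_ne_zero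
      (s := R) (f := f) (by rw [hsum']; norm_num)
    have hgi : g⁻¹ ∈ R := Finset.mem_erase.2
      ⟨fun e => Finset.ne_of_mem_erase hg (inv_eq_one.1 e), Finset.mem_univ _⟩
    have hgne : g⁻¹ ≠ g := fun e => by
      have h2 : (g : G) ^ 2 = 1 := by
        rw [sq]
        nth_rw 1 [show (g : G) = ((g⁻¹ : (S : Subgroup G)) : G) by rw [e]]
        simp
      have := orderOf_dvd_of_pow_eq_one h2
      rw [hne g hg] at this
      norm_num at this
    have hfi : f g⁻¹ = f g := by
      apply Int.cast_injective (α := ℂ)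
      rw [← hf, ← hf, Subgroup.coe_inv, IsIrr.apply_inv ψ₀.2, hf, map_intCast]
    rw [← Finset.add_sum_erase R _ hg, ← Finset.add_sum_erase (R.erase g) _
      (Finset.mem_erase.2 ⟨hgne, hgi⟩), hfi] at hsum'
    have hrest : ∑ i ∈ (R.erase g).erase g⁻¹, f i ≤ 0 := Finset.sum_nonpos fun i hi => by
      rcases hval' i (Finset.mem_of_mem_erase (Finset.mem_of_mem_erase hi)) with h | h <;> omega
    rcases hval' g hg with h | h
    · exact hg0 h
    · omega
  · -- degrees 27, 8, 18 are impossible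
    exfalso
    obtain ⟨t, ht⟩ : ∃ t : G, orderOf t = 2 := by
      haveI : Fact (Nat.Prime 2) := ⟨Nat.prime_two⟩
      exact exists_prime_orderOf_dvd_card' 2 (by rw [hG]; norm_num)
    have ht1 : t ≠ 1 := fun e => by rw [e, orderOf_one] at ht; omega
    have ht2 : t ^ 2 = 1 := by rw [← ht]; exact pow_orderOf_eq_one t
    obtain ⟨ma, hma, -⟩ := OrdP.involution_value (not_comm hG) a ht2
    obtain ⟨mb, hmb, -⟩ := OrdP.involution_value (not_comm hG) b ht2
    have h7 : ¬ 7 ∣ orderOf t := by rw [ht]; norm_num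
    have hYt : ∀ ψ ∈ Y, (ψ : G → ℂ) t = ((ma - mb - 1 : ℤ) : ℂ) := by
      intro ψ hψ
      have h1 := hrel ψ hψ t h7
      rw [hcb, hε, hma, hmb] at h1
      push_cast at h1 ⊢
      linear_combination -h1
    have hp := pair_sum (x := x) (t := t) (fun k => no_pair_seven hG hxo ht k)
    have hO : ∀ χ ∉ X ∪ Y, (χ : G → ℂ) x = 0 := fun χ hχ => hc.vanish χ hχ x hxo
    have hsY : ∑ χ ∈ Y, conj ((χ : G → ℂ) x) = 1 := by
      have h := sum_irr_mul_conj (1 : G) x
      rw [if_neg (fun hc' => SCP.ne_one hx (isConj_one_right.1 hc')),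
        ← Finset.sum_add_sum_compl (X ∪ Y), Finset.sum_eq_zero (s := (X ∪ Y)ᶜ) fun χ hχ => by
          rw [hO χ (Finset.mem_compl.1 hχ), map_zero, mul_zero],
        Finset.sum_union hc.disj, hXeq, Finset.sum_insert (by simp [hat.symm, hbt.symm]),
        Finset.sum_pair hab, show ((trivialIrr G : IrrCharacter G) : G → ℂ) x = 1 from rfl,
        hc.value a haX x hxo, hc.value b hbX x hxo, hca, hcb] at h
      simp only [value_one_nat, dg_trivial, hda, hdb] at h
      rw [show ∑ χ ∈ Y, (dg χ : ℂ) * conj ((χ : G → ℂ) x) = 18 * ∑ χ ∈ Y, conj ((χ : G → ℂ) x) by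
        rw [Finset.mul_sum]
        exact Finset.sum_congr rfl fun χ hχ => by rw [hdY χ hχ, hd0]; norm_num] at h
      simp only [map_neg, map_one, Int.cast_one, Int.cast_neg] at h
      push_cast at h
      linear_combination (1 / 18 : ℂ) * h
    rw [← Finset.sum_add_sum_compl (X ∪ Y), Finset.sum_eq_zero (s := (X ∪ Y)ᶜ) fun χ hχ => by
        rw [hO χ (Finset.mem_compl.1 hχ), map_zero, zero_mul],
      Finset.sum_union hc.disj, hXeq, Finset.sum_insert (by simp [hat.symm, hbt.symm]),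
      Finset.sum_pair hab,
      show ∀ y : G, ((trivialIrr G : IrrCharacter G) : G → ℂ) y = 1 from fun _ => rfl,
      hc.value a haX x hxo, hc.value b hbX x hxo, hca, hcb, hma, hmb,
      show ∑ χ ∈ Y, conj ((χ : G → ℂ) x) * ((χ : G → ℂ) t * (χ : G → ℂ) t / (χ : G → ℂ) 1) =
        (∑ χ ∈ Y, conj ((χ : G → ℂ) x)) *
          (((ma - mb - 1 : ℤ) : ℂ) * ((ma - mb - 1 : ℤ) : ℂ) / 18) by
        rw [Finset.sum_mul]
        exact Finset.sum_congr rfl fun χ hχ => by
          rw [hYt χ hχ, value_one_nat, hdY χ hχ, hd0]; norm_num, hsY] at hp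
    simp only [value_one_nat, hda, hdb, dg_trivial,
      show ∀ y : G, ((trivialIrr G : IrrCharacter G) : G → ℂ) y = 1 from fun _ => rfl,
      map_neg, map_one, Int.cast_one, Int.cast_neg] at hp
    push_cast at hp
    have heq : 216 - 8 * (ma * ma) + 27 * (mb * mb) + 12 * ((ma - mb - 1) * (ma - mb - 1)) = 0 := by
      apply Int.cast_injective (α := ℂ)
      push_cast
      linear_combination (216 : ℂ) * hp
    have hb8 : mb = 8 := by
      have hle : (mb - 8) ^ 2 ≤ 0 := by nlinarith [sq_nonneg (ma - 3 * mb - 3)]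
      nlinarith [sq_nonneg (mb - 8)]
    exact ht1 (OrdP.eq_one_of_value hbt (g := t) (by rw [hmb, hb8, value_one_nat, hdb]; norm_num))

end Cfsg.Agent.Recog.U33U
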