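import Mathlib
import Cfsg.Agent.Lib.Recog.U33U.Chars

/-!
Simple groups of order 6048 without elements of order nine: the elements of order three.
-/

set_option autoImplicit false
set_option linter.style.haveILetI false
set_option linter.unusedSectionVars false

namespace Cfsg.Agent.Recog.U33U

open scoped ComplexConjugate
open Cfsg Cfsg.Agent.Block Cfsg.Agent.Char
open Cfsg.Agent.Invol.M11Ord (dg dg_trivial value_one_nat int_value hyp_of_sylow pair_sum)

universe u

variable {G : Type u} [Group G] [Finite G] [IsSimpleGroup G]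

/-- The two possible values of the character of degree six at an element of order three. -/
theorem three_value (hG : Nat.card G = 6048) (K : Tab G) {y : G} (hy : orderOf y = 3) :
    (K.b : G → ℂ) y = 0 ∧
    (((K.a : G → ℂ) y = 0 ∧ Nat.card (Subgroup.centralizer ({y} : Set G)) ∣ 27) ∨
     ((K.a : G → ℂ) y = -3 ∧ Nat.card (Subgroup.centralizer ({y} : Set G)) = 108)) := by
  classical
  haveI := Fintype.ofFinite G
  haveI : Fact (Nat.Prime 3) := ⟨Nat.prime_three⟩
  haveI : Fact (Nat.Prime 7) := ⟨by norm_num⟩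
  obtain ⟨x, hx⟩ := exists_prime_orderOf_dvd_card' (G := G) 7 (by rw [hG]; norm_num)
  obtain ⟨x₀, hx₀, -⟩ := exists_seven hG
  have hxh := SCP.hyp_of_ord hx₀ hx
  obtain ⟨M, hM⟩ := exists_isPModular 3 Nat.prime_three
  have hy1 : y ≠ 1 := fun e => by rw [e, orderOf_one] at hy; omega
  have hb0 : ∀ s : G, orderOf s = 3 → (K.b : G → ℂ) s = 0 := fun s hs =>
    defectZero_vanish hM K.b (by
      rw [show charDegree (K.b : G → ℂ) = 27 from K.db, hG, show (27 : ℕ) = 3 ^ 3 by norm_num,
        show (6048 : ℕ) = 3 ^ 3 * 224 by norm_num, Nat.factorization_mul (by norm_num) (by norm_num),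
        Finsupp.add_apply, Nat.factorization_eq_zero_of_not_dvd (by norm_num : ¬ 3 ∣ 224), add_zero])
      (by rw [hs])
  have hy' : orderOf y⁻¹ = 3 := by rw [orderOf_inv, hy]
  obtain ⟨a, ha⟩ := int_value K.a y fun ψ hψ => by rw [K.uniq_a ψ (hψ.trans K.da)]
  have ha' : (K.a : G → ℂ) y⁻¹ = a := by rw [IsIrr.apply_inv K.a.2, ha, map_intCast]
  have hη : ∀ s : G, orderOf s = 3 → (K.a : G → ℂ) s = a → ∀ χ ∈ K.Y, (χ : G → ℂ) s = (a : ℂ) - 1 :=
    fun s hs hsa χ hχ => by rw [K.rel χ hχ s (by rw [hs]; norm_num), hb0 s hs, hsa, add_zero]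
  refine ⟨hb0 y hy, ?_⟩
  -- the column sum at an element of order seven
  have hsY : ∑ χ ∈ K.Y, conj ((χ : G → ℂ) x) = 1 := by
    have h := sum_irr_mul_conj (1 : G) x
    rw [if_neg (fun hc => SCP.ne_one hxh (isConj_one_right.1 hc)), K.hsum] at h
    obtain ⟨xa, xb, xo⟩ := K.seven x hx
    rw [show ((trivialIrr G : IrrCharacter G) : G → ℂ) x = 1 from rfl, xa, xb,
      Finset.sum_eq_zero (s := K.O) fun χ hχ => by rw [xo χ hχ, map_zero, mul_zero]] at h
    simp only [value_one_nat, dg_trivial, K.da, K.db, map_neg, map_one] at h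
    rw [show ∑ χ ∈ K.Y, (dg χ : ℂ) * conj ((χ : G → ℂ) x) = 32 * ∑ χ ∈ K.Y, conj ((χ : G → ℂ) x) by
      rw [Finset.mul_sum]
      exact Finset.sum_congr rfl fun χ hχ => by rw [K.dY χ hχ]; norm_num] at h
    push_cast at h
    linear_combination (1 / 32 : ℂ) * h
  have hineq : 0 ≤ 96 - 16 * (a * a) + 3 * ((a - 1) * (a - 1)) := by
    have hterm : ∀ k : G, ∃ N : ℕ, ∑ χ : IrrCharacter G,
        (χ : G → ℂ) (y * (k * y⁻¹ * k⁻¹)) * conj ((χ : G → ℂ) x) = N := fun k => by
      rw [sum_irr_mul_conj]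
      split_ifs
      exacts [⟨_, rfl⟩, ⟨0, Nat.cast_zero.symm⟩]
    choose N hN using hterm
    have h1 : ((∑ k : G, N k : ℕ) : ℂ) = (Nat.card G : ℂ) * (∑ χ : IrrCharacter G,
        conj ((χ : G → ℂ) x) * ((χ : G → ℂ) y * (χ : G → ℂ) y⁻¹ / (χ : G → ℂ) 1)) := by
      push_cast
      simp only [← hN]
      rw [Finset.sum_comm, Finset.mul_sum]
      refine Finset.sum_congr rfl fun χ _ => ?_
      rw [← Finset.sum_mul, sum_mul_conj]
      ring
    obtain ⟨xa, xb, xo⟩ := K.seven x hx
    rw [K.hsum, Finset.sum_eq_zero (s := K.O) fun χ hχ => by rw [xo χ hχ, map_zero, zero_mul],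
      show ∑ χ ∈ K.Y, conj ((χ : G → ℂ) x) * ((χ : G → ℂ) y * (χ : G → ℂ) y⁻¹ / (χ : G → ℂ) 1) =
        (∑ χ ∈ K.Y, conj ((χ : G → ℂ) x)) * (((a : ℂ) - 1) * ((a : ℂ) - 1) / 32) by
          rw [Finset.sum_mul]
          exact Finset.sum_congr rfl fun χ hχ => by
            rw [hη y hy ha χ hχ, hη y⁻¹ hy' ha' χ hχ, value_one_nat, K.dY χ hχ]; norm_num,
      hsY, xa, xb, hb0 y hy, ha, ha', hG] at h1
    simp only [value_one_nat, dg_trivial, K.da,
      show ∀ z : G, ((trivialIrr G : IrrCharacter G) : G → ℂ) z = 1 from fun _ => rfl,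
      map_neg, map_one] at h1
    have h2 : ((∑ k : G, N k : ℕ) : ℤ) = 63 * (96 - 16 * (a * a) + 3 * ((a - 1) * (a - 1))) := by
      apply Int.cast_injective (α := ℂ)
      rw [Int.cast_natCast, h1]
      push_cast
      ring
    omega
  have hmod := DefectOne.degree_congr hM K.a (x := y) (z := a) (by rw [← hy, pow_orderOf_eq_one])
    (by rw [ha, sub_self]; exact ideal_zero hM)
  rw [show charDegree (K.a : G → ℂ) = 6 from K.da, Int.ModEq] at hmod
  have h03 : a = 0 ∨ a = -3 := by
    have : -4 ≤ a := by nlinarith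
    have : a ≤ 3 := by nlinarith
    interval_cases a <;> first | (left; rfl) | (right; rfl) | omega
  -- the centralizer
  set n := Nat.card (Subgroup.centralizer ({y} : Set G)) with hn
  have h7n : ¬ 7 ∣ n := fun hd => by
    obtain ⟨z, hz⟩ := exists_prime_orderOf_dvd_card' 7 hd
    rw [← Subgroup.orderOf_coe] at hz
    have h := SCP.hyp_of_ord hx₀ hz
    have h1 := Subgroup.orderOf_dvd_natCard _
      (SCP.mem_P_of_comm h (Subgroup.mem_centralizer_singleton_iff.1 z.2).symm)
    rw [SCP.card_P h, hy] at h1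
    norm_num at h1
  obtain ⟨ψ, hψ⟩ : K.Y.Nonempty := Finset.card_pos.1 (by rw [K.cY]; norm_num)
  have hi := OrdP.index_dvd ψ (g := y) (z := a - 1) (by rw [hη y hy ha ψ hψ]; push_cast; ring)
  rw [show charDegree (ψ : G → ℂ) = 32 from K.dY ψ hψ] at hi
  have hm := Subgroup.card_mul_index (Subgroup.centralizer ({y} : Set G))
  rw [hG, ← hn] at hm
  have h3 : 3 ∣ n := by
    have := Subgroup.orderOf_dvd_natCard (Subgroup.centralizer ({y} : Set G))
      (Subgroup.mem_centralizer_singleton_iff.2 rfl : y ∈ Subgroup.centralizer ({y} : Set G))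
    rwa [hy] at this
  rcases h03 with rfl | rfl
  · refine Or.inl ⟨by rw [ha]; norm_num, ?_⟩
    obtain ⟨i, hi'⟩ : 32 ∣ (Subgroup.centralizer ({y} : Set G)).index := by
      obtain ⟨j, hj⟩ := hi
      push_cast at hj
      have hz : (32 : ℤ) ∣ ((Subgroup.centralizer ({y} : Set G)).index : ℤ) := ⟨-j, by omega⟩
      exact_mod_cast hz
    rw [hi'] at hm
    have h189 : n ∣ 27 * 7 := ⟨i, by nlinarith⟩
    exact (Nat.Coprime.dvd_of_dvd_mul_right ((Nat.Prime.coprime_iff_not_dvd (by norm_num)).2 h7n).symm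
      h189)
  · refine Or.inr ⟨by rw [ha]; norm_num, ?_⟩
    obtain ⟨i, hi'⟩ : 8 ∣ (Subgroup.centralizer ({y} : Set G)).index := by
      obtain ⟨j, hj⟩ := hi
      push_cast at hj
      have hz : (8 : ℤ) ∣ ((Subgroup.centralizer ({y} : Set G)).index : ℤ) := ⟨-j, by omega⟩
      exact_mod_cast hz
    rw [hi'] at hm
    have h756 : n ∣ 108 * 7 := ⟨i, by nlinarith⟩
    have h108 : n ∣ 108 := Nat.Coprime.dvd_of_dvd_mul_right
      ((Nat.Prime.coprime_iff_not_dvd (by norm_num)).2 h7n).symm h756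
    -- the characters outside the block
    have hy3 : conj ((K.a : G → ℂ) y) = -3 := by rw [ha, map_intCast]; norm_num
    have hO2 : ∑ χ ∈ K.O, (dg χ : ℂ) * (dg χ : ℂ) = 3234 := by
      have h := sum_irr_mul_conj (1 : G) 1
      rw [if_pos (IsConj.refl 1), K.hsum] at h
      simp only [value_one_nat, dg_trivial, K.da, K.db, map_natCast] at h
      rw [Finset.sum_congr rfl (g := fun _ => (1024 : ℂ)) fun χ hχ => by rw [K.dY χ hχ]; norm_num,
        Finset.sum_const, K.cY, show (Nat.card (Subgroup.centralizer ({(1 : G)} : Set G)) : ℂ) = 6048 by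
          rw [show Subgroup.centralizer ({(1 : G)} : Set G) = ⊤ by
            ext g; simp [Subgroup.mem_centralizer_singleton_iff], Subgroup.card_top, hG]; norm_num] at h
      simp only [nsmul_eq_mul] at h
      push_cast at h
      linear_combination h
    have hOy : ∑ χ ∈ K.O, (dg χ : ℂ) * conj ((χ : G → ℂ) y) = 273 := by
      have h := sum_irr_mul_conj (1 : G) y
      rw [if_neg (fun hc => hy1 (isConj_one_right.1 hc)), K.hsum] at h
      simp only [value_one_nat, dg_trivial, K.da, K.db, hb0 y hy, hy3, map_zero, map_one,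
        show ((trivialIrr G : IrrCharacter G) : G → ℂ) y = 1 from rfl] at h
      rw [Finset.sum_congr (s₁ := K.Y) rfl (g := fun _ => (-128 : ℂ)) fun χ hχ => by
        rw [K.dY χ hχ, hη y hy ha χ hχ, map_sub, map_one, map_intCast]; norm_num,
        Finset.sum_const, K.cY] at h
      simp only [nsmul_eq_mul] at h
      push_cast at h
      linear_combination h
    have hcent : (n : ℂ) = 42 + ∑ χ ∈ K.O, (χ : G → ℂ) y * conj ((χ : G → ℂ) y) := by
      have h := sum_irr_mul_conj y y
      rw [if_pos (IsConj.refl y), K.hsum] at h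
      simp only [hb0 y hy, ha, map_intCast, map_zero, map_one,
        show ((trivialIrr G : IrrCharacter G) : G → ℂ) y = 1 from rfl] at h
      rw [Finset.sum_congr (s₁ := K.Y) rfl (g := fun _ => (16 : ℂ)) fun χ hχ => by
        rw [hη y hy ha χ hχ, map_sub, map_one, map_intCast]; norm_num,
        Finset.sum_const, K.cY] at h
      simp only [nsmul_eq_mul] at h
      push_cast at h
      linear_combination -h
    have hpos : (0 : ℝ) ≤ ∑ χ ∈ K.O, Complex.normSq ((χ : G → ℂ) y - (dg χ : ℂ) / 12) :=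
      Finset.sum_nonneg fun χ _ => Complex.normSq_nonneg _
    have heq : ∑ χ ∈ K.O, Complex.normSq ((χ : G → ℂ) y - (dg χ : ℂ) / 12) =
        (n : ℝ) - 42 - 273 / 6 + 3234 / 144 := by
      apply Complex.ofReal_injective
      push_cast
      rw [show ∑ χ ∈ K.O, ((Complex.normSq ((χ : G → ℂ) y - (dg χ : ℂ) / 12) : ℝ) : ℂ) =
        ∑ χ ∈ K.O, ((χ : G → ℂ) y * conj ((χ : G → ℂ) y)
          - (1 / 12 : ℂ) * ((dg χ : ℂ) * conj ((χ : G → ℂ) y))
          - (1 / 12 : ℂ) * conj ((dg χ : ℂ) * conj ((χ : G → ℂ) y))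
          + (1 / 144 : ℂ) * ((dg χ : ℂ) * (dg χ : ℂ))) from Finset.sum_congr rfl fun χ _ => by
          rw [← Complex.mul_conj, map_sub, map_div₀, map_natCast, map_ofNat, map_mul, map_natCast,
            Complex.conj_conj]
          ring,
        Finset.sum_add_distrib, Finset.sum_sub_distrib, Finset.sum_sub_distrib, ← Finset.mul_sum,
        ← Finset.mul_sum, ← Finset.mul_sum, ← map_sum, hOy, hO2, map_ofNat, hcent]
      ring
    rw [heq] at hpos
    have h66 : 66 ≤ n := by
      by_contra hlt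
      have : (n : ℝ) ≤ 65 := by exact_mod_cast (show n ≤ 65 by omega)
      linarith
    obtain ⟨j, hj⟩ := h108
    rcases Nat.lt_or_ge j 2 with h | h
    · interval_cases j <;> omega
    · exfalso; nlinarith

end Cfsg.Agent.Recog.U33U
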