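import Mathlib
import Cfsg.Agent.Lib.Recog.U33U.Three
import Cfsg.Agent.Lib.Recog.U33U.Model
import Cfsg.Agent.Lib.Fus.SmallSimple

/-!
Simple groups of order 6048 without elements of order nine: Sylow 3-subgroups are trivial
intersection subgroups and the normalizer acts on 28 points.
-/

set_option autoImplicit false
set_option linter.style.haveILetI false
set_option linter.unusedSectionVars false

namespace Cfsg.Agent.Recog.U33U

open Cfsg Cfsg.Agent.Block Cfsg.Agent.Char
open Cfsg.Agent.Invol.M11Ord (dg dg_trivial value_one_nat int_value hyp_of_sylow pair_sum)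
open scoped Pointwise

universe u

variable {G : Type u} [Group G] [Finite G] [IsSimpleGroup G]

/-- An element of order three at which the character of degree six takes the value `-3`. -/
def Sp (K : Tab G) (y : G) : Prop := orderOf y = 3 ∧ (K.a : G → ℂ) y = -3

theorem irr_conj_eq (χ : IrrCharacter G) (c g : G) :
    (χ : G → ℂ) (c * g * c⁻¹) = (χ : G → ℂ) g := by
  obtain ⟨n, ρ, hρ, hχ, hn, -⟩ := IsIrr.exists_rep χ.2
  rw [← hχ]
  exact ρ.char_conj g c

theorem orderOf_conj_eq (c g : G) : orderOf (c * g * c⁻¹) = orderOf g :=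
  (MulAut.conj c).orderOf_eq g

theorem Sp.conj {K : Tab G} {y : G} (h : Sp K y) (c : G) : Sp K (c * y * c⁻¹) :=
  ⟨(orderOf_conj_eq c y).trans h.1, (irr_conj_eq K.a c y).trans h.2⟩

theorem Sp.inv {K : Tab G} {y : G} (h : Sp K y) : Sp K y⁻¹ :=
  ⟨(orderOf_inv y).trans h.1, by rw [IsIrr.apply_inv K.a.2, h.2, map_neg, map_ofNat]⟩

theorem Sp.ne_one {K : Tab G} {y : G} (h : Sp K y) : y ≠ 1 := fun e => by
  have := h.1
  rw [e, orderOf_one] at this
  omega

theorem inv_ne_self {y : G} (h : orderOf y = 3) : y⁻¹ ≠ y := fun e => by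
  have h2 : y ^ 2 = 1 := by
    rw [sq]
    nth_rw 1 [← e]
    exact inv_mul_cancel y
  have := orderOf_dvd_of_pow_eq_one h2
  rw [h] at this
  norm_num at this

theorem cent_nonspecial (hG : Nat.card G = 6048) (K : Tab G) {g : G} (hg : orderOf g = 3)
    (hn : ¬ Sp K g) : Nat.card (Subgroup.centralizer ({g} : Set G)) ∣ 27 := by
  rcases (three_value hG K hg).2 with ⟨-, h⟩ | ⟨h, -⟩
  · exact h
  · exact absurd ⟨hg, h⟩ hn

theorem cent_special (hG : Nat.card G = 6048) (K : Tab G) {y : G} (h : Sp K y) :
    Nat.card (Subgroup.centralizer ({y} : Set G)) = 108 := by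
  rcases (three_value hG K h.1).2 with ⟨e, -⟩ | ⟨-, e⟩
  · rw [h.2] at e; norm_num at e
  · exact e

/-- A subgroup of order at least nine of a Sylow 3-subgroup contains exactly two special elements. -/
theorem special_in (hG : Nat.card G = 6048) (h9 : ∀ g : G, orderOf g ≠ 9) (K : Tab G)
    {P : Subgroup G} (hP : Nat.card P = 27) {D : Subgroup G} (hD : D ≤ P) (hD9 : 9 ≤ Nat.card D) :
    ∃ y ∈ D, Sp K y ∧ ∀ g ∈ D, Sp K g → g = y ∨ g = y⁻¹ := by
  classical
  haveI := Fintype.ofFinite D
  obtain ⟨m, hm⟩ := sum_subgroup K.a D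
  set S := Finset.univ.filter (fun g : D => Sp K (g : G)) with hS
  have hval : ∀ g : D, (K.a : G → ℂ) g =
      (((if g = 1 then 6 else 0) - (if Sp K (g : G) then 3 else 0) : ℤ) : ℂ) := by
    intro g
    by_cases h1 : g = 1
    · have hns : ¬ Sp K (g : G) := fun h => h.ne_one (by rw [h1]; rfl)
      rw [if_pos h1, if_neg hns, show (g : G) = 1 by rw [h1]; rfl, value_one_nat, K.da]
      norm_num
    · have ho := order_three_of_mem h9 hP (hD g.2) fun e => h1 (Subtype.ext e)
      rw [if_neg h1]
      rcases (three_value hG K ho).2 with ⟨e, -⟩ | ⟨e, -⟩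
      · rw [if_neg (fun h : Sp K (g : G) => by have := h.2; rw [e] at this; norm_num at this), e]
        norm_num
      · rw [if_pos ⟨ho, e⟩, e]; norm_num
  have hsum : (6 : ℤ) - 3 * S.card = (Nat.card D : ℤ) * m := by
    apply Int.cast_injective (α := ℂ)
    push_cast
    rw [← hm, Finset.sum_congr rfl fun g _ => hval g]
    push_cast
    rw [Finset.sum_sub_distrib, ← Finset.sum_filter, ← Finset.sum_filter, Finset.sum_const,
      Finset.sum_const, ← hS, Finset.filter_eq', if_pos (Finset.mem_univ _)]
    simp only [Finset.card_singleton, nsmul_eq_mul]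
    push_cast
    ring
  have hm0 : m = 0 := by
    by_contra hne
    have : 1 ≤ m := Nat.pos_of_ne_zero hne
    nlinarith
  have hcard : S.card = 2 := by rw [hm0] at hsum; omega
  obtain ⟨y, hy⟩ : S.Nonempty := Finset.card_pos.1 (by omega)
  have hys : Sp K (y : G) := (Finset.mem_filter.1 hy).2
  refine ⟨y, y.2, hys, fun g hg hgs => ?_⟩
  by_contra hne
  push Not at hne
  have h3 : ({y, y⁻¹, ⟨g, hg⟩} : Finset D) ⊆ S := by
    intro z hz
    simp only [Finset.mem_insert, Finset.mem_singleton] at hz
    refine Finset.mem_filter.2 ⟨Finset.mem_univ _, ?_⟩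
    rcases hz with rfl | rfl | rfl
    exacts [hys, hys.inv, hgs]
  have h3c := Finset.card_le_card h3
  rw [Finset.card_insert_of_notMem (by
      simp only [Finset.mem_insert, Finset.mem_singleton, not_or]
      exact ⟨fun e => inv_ne_self hys.1 (congrArg Subtype.val e).symm,
        fun e => hne.1 (congrArg Subtype.val e).symm⟩),
    Finset.card_insert_of_notMem (by
      simp only [Finset.mem_singleton]
      exact fun e => hne.2 (congrArg Subtype.val e).symm), Finset.card_singleton, hcard] at h3c
  omega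

theorem special_central (hG : Nat.card G = 6048) (h9 : ∀ g : G, orderOf g ≠ 9) (K : Tab G)
    (P : Sylow 3 G) {y : G} (hy : Sp K y) (hyP : y ∈ P) :
    (P : Subgroup G) ≤ Subgroup.centralizer ({y} : Set G) := by
  intro g hg
  have hP := sylow_three hG P
  obtain ⟨y₀, -, -, huni⟩ := special_in hG h9 K hP le_rfl (by rw [hP]; norm_num)
  have hc : g * y * g⁻¹ ∈ (P : Subgroup G) := mul_mem (mul_mem hg hyP) (inv_mem hg)
  have h1 := huni y hyP hy
  have h2 := huni _ hc (hy.conj g)
  have h3 : g * y * g⁻¹ = y ∨ g * y * g⁻¹ = y⁻¹ := by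
    rcases h1 with rfl | rfl <;> rcases h2 with h | h <;> simp [h]
  rw [Subgroup.mem_centralizer_singleton_iff]
  rcases h3 with h | h
  · exact mul_inv_eq_iff_eq_mul.1 h
  · exfalso
    rcases eq_or_ne g 1 with rfl | hg1
    · rw [one_mul, inv_one, mul_one] at h
      exact inv_ne_self hy.1 h.symm
    have hg3 : g ^ 3 = 1 := by rw [← order_three_of_mem h9 hP hg hg1]; exact pow_orderOf_eq_one g
    have h2 : g ^ 2 * y * (g ^ 2)⁻¹ = y := by
      rw [show g ^ 2 * y * (g ^ 2)⁻¹ = g * (g * y * g⁻¹) * g⁻¹ by rw [sq]; group, h,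
        show g * y⁻¹ * g⁻¹ = (g * y * g⁻¹)⁻¹ by group, h, inv_inv]
    have h3' : g ^ 3 * y * (g ^ 3)⁻¹ = y⁻¹ := by
      rw [show g ^ 3 * y * (g ^ 3)⁻¹ = g * (g ^ 2 * y * (g ^ 2)⁻¹) * g⁻¹ by
        rw [pow_succ' g 2]; group, h2, h]
    rw [hg3, one_mul, inv_one, mul_one] at h3'
    exact inv_ne_self hy.1 h3'.symm

/-- A special element lies in one Sylow 3-subgroup only. -/
theorem special_unique (hG : Nat.card G = 6048) (h9 : ∀ g : G, orderOf g ≠ 9) (K : Tab G)
    (P Q : Sylow 3 G) {y : G} (hy : Sp K y) (hyP : y ∈ P) (hyQ : y ∈ Q) : P = Q := by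
  classical
  set C := Subgroup.centralizer ({y} : Set G) with hC
  have hPC := special_central hG h9 K P hy hyP
  have hQC := special_central hG h9 K Q hy hyQ
  have hP := sylow_three hG P
  have hQ := sylow_three hG Q
  have hCc : Nat.card C = 108 := cent_special hG K hy
  have hQCi : (Q : Subgroup G).relIndex C = 4 := by
    have := Subgroup.relIndex_mul_index hQC
    have e1 := (Q : Subgroup G).card_mul_index
    have e2 := C.card_mul_index
    rw [hQ, hG] at e1
    rw [hCc, hG] at e2
    have hQi : (Q : Subgroup G).index = 224 := by omega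
    have hCi : C.index = 56 := by omega
    rw [hQi, hCi] at this
    exact Nat.eq_of_mul_eq_mul_right (by norm_num : 0 < 56) (by rw [this])
  set D := (P : Subgroup G) ⊓ (Q : Subgroup G) with hD
  have hle : (Q : Subgroup G).relIndex (P : Subgroup G) ≤ 4 := by
    rw [← hQCi]
    exact Subgroup.relIndex_le_of_le_right hPC (by rw [hQCi]; norm_num)
  have hDP : Nat.card D * (Q : Subgroup G).relIndex (P : Subgroup G) = 27 := by
    rw [← hP, ← Subgroup.inf_relIndex_right (Q : Subgroup G) (P : Subgroup G), Subgroup.relIndex,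
      inf_comm (Q : Subgroup G), ← hD,
      ← Nat.card_congr (Subgroup.subgroupOfEquivOfLe (inf_le_left : D ≤ (P : Subgroup G))).toEquiv]
    exact Subgroup.card_mul_index _
  have hd : (Q : Subgroup G).relIndex (P : Subgroup G) ∣ 3 ^ 3 := ⟨Nat.card D, by rw [mul_comm, hDP]; norm_num⟩
  obtain ⟨i, hi, hi'⟩ := (Nat.dvd_prime_pow Nat.prime_three).1 hd
  have hi1 : i = 0 ∨ i = 1 := by
    rw [hi'] at hle
    interval_cases i <;> first | omega | (norm_num at hle)
  rcases hi1 with rfl | rfl
  · refine Sylow.ext (Subgroup.eq_of_le_of_card_ge ?_ (by rw [hP, hQ]))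
    exact Subgroup.relIndex_eq_one.1 (by rw [hi', pow_zero])
  exfalso
  have hD9 : Nat.card D = 9 := by rw [hi'] at hDP; omega
  have hyD : y ∈ D := ⟨hyP, hyQ⟩
  -- the centralizer of y normalises D
  have hnorm : ∀ R : Subgroup G, Nat.card R = 27 → D ≤ R → R ≤ Subgroup.normalizer (D : Set G) := by
    intro R hR hDR
    haveI : Fact (Nat.Prime 3) := ⟨Nat.prime_three⟩
    haveI hn : (D.subgroupOf R).Normal := Subgroup.normal_of_index_eq_minFac_card (by
      have h2 : Nat.card (D.subgroupOf R) * (D.subgroupOf R).index = 27 := by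
        rw [Subgroup.card_mul_index, hR]
      rw [Nat.card_congr (Subgroup.subgroupOfEquivOfLe hDR).toEquiv, hD9] at h2
      rw [show (D.subgroupOf R).index = 3 by omega, hR]
      norm_num [Nat.minFac_eq])
    exact Subgroup.normal_subgroupOf_iff_le_normalizer hDR |>.1 hn
  have hPN := hnorm _ hP inf_le_left
  have hQN := hnorm _ hQ inf_le_right
  have hCN : C ≤ Subgroup.normalizer (D : Set G) := by
    set X := C ⊓ Subgroup.normalizer (D : Set G) with hX
    have hXP : (P : Subgroup G) ≤ X := le_inf hPC hPN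
    have hXQ : (Q : Subgroup G) ≤ X := le_inf hQC hQN
    have hXd : Nat.card X ∣ 108 := hCc ▸ Subgroup.card_dvd_of_le inf_le_left
    have h27 : 27 ∣ Nat.card X := hP ▸ Subgroup.card_dvd_of_le hXP
    have h3 : 3 ≤ (Q : Subgroup G).relIndex X := by
      have h := Subgroup.relIndex_le_of_le_right (H := (Q : Subgroup G)) hXP
        Subgroup.index_ne_zero_of_finite
      rw [hi', pow_one] at h
      exact h
    have hXc : Nat.card X = 27 * (Q : Subgroup G).relIndex X := by
      rw [← hQ, Subgroup.relIndex, ← Nat.card_congr (Subgroup.subgroupOfEquivOfLe hXQ).toEquiv,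
        Subgroup.card_mul_index]
    have hXC : X = C := Subgroup.eq_of_le_of_card_ge inf_le_left (by
      rw [hCc]
      rw [hXc] at hXd ⊢
      have : (Q : Subgroup G).relIndex X ∣ 4 :=
        Nat.dvd_of_mul_dvd_mul_left (by norm_num : 0 < 27) hXd
      have h4 := Nat.le_of_dvd (by norm_num) this
      interval_cases ((Q : Subgroup G).relIndex X) <;> first | omega | norm_num at this)
    rw [← hXC]
    exact inf_le_right
  obtain ⟨d, hdD, hd1⟩ : ∃ d ∈ D, d ∉ Subgroup.zpowers y := by
    by_contra hno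
    push Not at hno
    have := Subgroup.card_le_of_le (show D ≤ Subgroup.zpowers y from hno)
    rw [hD9, Nat.card_zpowers, hy.1] at this
    omega
  have hdne : d ≠ 1 := fun e => hd1 (e ▸ one_mem _)
  have hdo := order_three_of_mem h9 hP hdD.1 hdne
  have hdns : ¬ Sp K d := fun hs => by
    obtain ⟨y₀, -, -, huni⟩ := special_in hG h9 K hP (inf_le_left : D ≤ (P : Subgroup G)) hD9.ge
    rcases huni y hyD hy with rfl | rfl <;> rcases huni d hdD hs with rfl | rfl <;>
      exact hd1 (by simp [Subgroup.mem_zpowers])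
  set R := C ⊓ Subgroup.centralizer ({d} : Set G) with hR
  have hR27 : Nat.card R ∣ 27 :=
    dvd_trans (Subgroup.card_dvd_of_le inf_le_right) (cent_nonspecial hG K hdo hdns)
  have hDgen : Subgroup.closure ({y, d} : Set G) = D := by
    have hle : Subgroup.closure ({y, d} : Set G) ≤ D := by
      rw [Subgroup.closure_le]
      rintro z (rfl | rfl)
      exacts [hyD, hdD]
    refine Subgroup.eq_of_le_of_card_ge hle ?_
    have hy' : Subgroup.zpowers y ≤ Subgroup.closure ({y, d} : Set G) :=
      Subgroup.zpowers_le.2 (Subgroup.subset_closure (by simp))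
    have h1 := Subgroup.card_dvd_of_le hle
    rw [hD9, show (9 : ℕ) = 3 ^ 2 by norm_num, Nat.dvd_prime_pow Nat.prime_three] at h1
    obtain ⟨j, hj, hj'⟩ := h1
    rw [hD9, hj']
    interval_cases j
    · exfalso
      have := Subgroup.card_le_of_le hy'
      rw [hj', Nat.card_zpowers, hy.1] at this
      norm_num at this
    · exfalso
      refine hd1 ?_
      have e := Subgroup.eq_of_le_of_card_ge hy' (by rw [hj', Nat.card_zpowers, hy.1]; norm_num)
      rw [e]
      exact Subgroup.subset_closure (by simp)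
    · norm_num
  -- R is normal in C
  have hRn : C ≤ Subgroup.normalizer (R : Set G) := by
    intro c hc
    have hfix : ∀ c ∈ C, ∀ r ∈ R, c * r * c⁻¹ ∈ R := by
      intro c hc r hr
      refine ⟨C.mul_mem (C.mul_mem hc hr.1) (C.inv_mem hc), Subgroup.mem_centralizer_singleton_iff.2 ?_⟩
      have hcom : ∀ z ∈ D, r * z = z * r := by
        intro z hz
        rw [← hDgen] at hz
        have : Subgroup.closure ({y, d} : Set G) ≤ Subgroup.centralizer ({r} : Set G) := by
          rw [Subgroup.closure_le]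
          rintro w (rfl | rfl)
          · exact Subgroup.mem_centralizer_singleton_iff.2 (Subgroup.mem_centralizer_singleton_iff.1 hr.1).symm
          · exact Subgroup.mem_centralizer_singleton_iff.2 (Subgroup.mem_centralizer_singleton_iff.1 hr.2).symm
        exact (Subgroup.mem_centralizer_singleton_iff.1 (this hz)).symm
      have hd' : c⁻¹ * d * c ∈ D := by
        have := (Subgroup.mem_normalizer_iff.1 (hCN (C.inv_mem hc)) d).1 hdD
        rwa [inv_inv] at this
      have := hcom _ hd'
      calc c * r * c⁻¹ * d = c * (r * (c⁻¹ * d * c)) * c⁻¹ := by group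
        _ = c * ((c⁻¹ * d * c) * r) * c⁻¹ := by rw [this]
        _ = d * (c * r * c⁻¹) := by group
    rw [Subgroup.mem_normalizer_iff]
    intro r
    refine ⟨hfix c hc r, fun h => ?_⟩
    have := hfix c⁻¹ (C.inv_mem hc) _ h
    simpa [mul_assoc] using this
  -- its index is at most six
  have hidx : R.relIndex C ≤ 6 := by
    haveI := Fintype.ofFinite D
    let f : C ⧸ R.subgroupOf C → {z : D // (z : G) ∉ Subgroup.zpowers y} :=
      Quotient.lift (fun c : C => ⟨⟨(c : G) * d * (c : G)⁻¹,
          (Subgroup.mem_normalizer_iff.1 (hCN c.2) d).1 hdD⟩, fun h => hd1 (by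
            obtain ⟨j, hj⟩ := Subgroup.mem_zpowers_iff.1 h
            have hcy : (c : G) * y = y * c := Subgroup.mem_centralizer_singleton_iff.1 c.2
            have : d = y ^ j := by
              calc d = (c : G)⁻¹ * ((c : G) * d * (c : G)⁻¹) * c := by group
                _ = (c : G)⁻¹ * (y ^ j * c) := by
                    rw [show (c : G) * d * (c : G)⁻¹ = y ^ j from hj.symm, mul_assoc]
                _ = y ^ j := by
                    rw [((show Commute (c : G) y from hcy).zpow_right j).symm.eq, inv_mul_cancel_left]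
            rw [this]
            exact Subgroup.zpow_mem_zpowers y j)⟩)
        (fun c c' h => by
          have h' := QuotientGroup.leftRel_apply.1 h
          rw [Subgroup.mem_subgroupOf] at h'
          have hc := Subgroup.mem_centralizer_singleton_iff.1 h'.2
          refine Subtype.ext (Subtype.ext ?_)
          simp only [Subgroup.coe_mul, InvMemClass.coe_inv] at hc ⊢
          calc (c : G) * d * (c : G)⁻¹ = c * (d * ((c : G)⁻¹ * c')) * (c' : G)⁻¹ := by group
            _ = c * (((c : G)⁻¹ * c') * d) * (c' : G)⁻¹ := by rw [hc]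
            _ = (c' : G) * d * (c' : G)⁻¹ := by group)
    have hf : Function.Injective f := by
      rintro ⟨c⟩ ⟨c'⟩ h
      refine Quotient.sound (QuotientGroup.leftRel_apply.2 ?_)
      have h' : (c : G) * d * (c : G)⁻¹ = c' * d * (c' : G)⁻¹ :=
        congrArg (fun z : {z : D // (z : G) ∉ Subgroup.zpowers y} => (z.1 : G)) h
      rw [Subgroup.mem_subgroupOf]
      refine ⟨(c⁻¹ * c').2, Subgroup.mem_centralizer_singleton_iff.2 ?_⟩
      simp only [Subgroup.coe_mul, InvMemClass.coe_inv]
      calc (c : G)⁻¹ * c' * d = (c : G)⁻¹ * (c' * d * (c' : G)⁻¹) * c' := by group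
        _ = (c : G)⁻¹ * (c * d * (c : G)⁻¹) * c' := by rw [h']
        _ = d * ((c : G)⁻¹ * c') := by group
    have hcard : Nat.card {z : D // (z : G) ∉ Subgroup.zpowers y} ≤ 6 := by
      have hsub : Subgroup.zpowers y ≤ D := Subgroup.zpowers_le.2 hyD
      have h1 : Nat.card {z : D // (z : G) ∈ Subgroup.zpowers y} = 3 := by
        rw [← hy.1, ← Nat.card_zpowers]
        exact Nat.card_congr (Subgroup.subgroupOfEquivOfLe hsub).toEquiv
      rw [Nat.card_eq_fintype_card] at h1 ⊢
      rw [Fintype.card_subtype_compl, h1, ← Nat.card_eq_fintype_card, hD9]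
    calc R.relIndex C = Nat.card (C ⧸ R.subgroupOf C) := rfl
      _ ≤ _ := Nat.card_le_card_of_injective f hf
      _ ≤ 6 := hcard
  have hRc : Nat.card R = 27 := by
    have h : Nat.card R * R.relIndex C = 108 := by
      rw [← hCc, Subgroup.relIndex, ← Nat.card_congr (Subgroup.subgroupOfEquivOfLe
        (inf_le_left : R ≤ C)).toEquiv, Subgroup.card_mul_index]
    rw [show (27 : ℕ) = 3 ^ 3 by norm_num, Nat.dvd_prime_pow Nat.prime_three] at hR27
    obtain ⟨j, hj, hj'⟩ := hR27
    rw [hj'] at h ⊢
    interval_cases j <;> first | rfl | omega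
  -- the only Sylow 3-subgroup of C
  have hsub : ∀ S : Sylow 3 G, (S : Subgroup G) ≤ C → (S : Subgroup G) = R := by
    intro S hSC
    haveI : Fact (Nat.Prime 3) := ⟨Nat.prime_three⟩
    haveI : (R.subgroupOf C).Normal :=
      (Subgroup.normal_subgroupOf_iff_le_normalizer (inf_le_left : R ≤ C)).2 hRn
    have hp : IsPGroup 3 ((S : Subgroup G) ⊔ R : Subgroup G) :=
      IsPGroup.to_sup_of_normal_right' S.2
        (IsPGroup.of_card (n := 3) (by rw [hRc]; norm_num)) (hSC.trans hRn)
    have e := S.3 hp le_sup_left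
    exact (Subgroup.eq_of_le_of_card_ge (e ▸ le_sup_right) (by rw [sylow_three hG S, hRc])).symm
  have hPQ : (P : Subgroup G) = Q := by rw [hsub P hPC, hsub Q hQC]
  have h1 : (Q : Subgroup G).relIndex (P : Subgroup G) = 1 := by rw [hPQ, Subgroup.relIndex_self]
  rw [hi'] at h1
  norm_num at h1

end Cfsg.Agent.Recog.U33U
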