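import Mathlib
import Cfsg.Agent.Lib.Recog.U33U.Local
import Cfsg.Agent.Lib.Recog.U33U.Heis

/-!
Simple groups of order 6048 without elements of order nine: the Sylow 3-normalizer.
-/

set_option autoImplicit false
set_option linter.style.haveILetI false
set_option linter.unusedSectionVars false

namespace Cfsg.Agent.Recog.U33U

open Cfsg Cfsg.Agent.Block Cfsg.Agent.Char
open scoped Pointwise

universe u

variable {G : Type u} [Group G] [Finite G] [IsSimpleGroup G]

/-- A Sylow normalizer with the generators of the model. -/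
structure Frame (G : Type u) [Group G] where
  P : Sylow 3 G
  Q : Sylow 3 G
  a : G
  b : G
  z : G
  h : G
  ne : P ≠ Q
  heis : Heis a b z
  ha : h * a * h⁻¹ = b
  hb : h * b * h⁻¹ = a * b * b
  hz : h * z * h⁻¹ = z⁻¹
  h8 : h ^ 8 = 1
  surj : ∀ p ∈ (P : Subgroup G), ∃ u < 27, word a b z u = p
  inj : ∀ u < 27, ∀ v < 27, word a b z u = word a b z v → u = v
  wmem : ∀ u, word a b z u ∈ (P : Subgroup G)
  hP : h • P = P
  hQ : h • Q = Q
  stab : ∀ g : G, g • P = P → g • Q = Q → ∃ m < 8, g = h ^ m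
  card : Nat.card (Sylow 3 G) = 28
  rinj : ∀ p ∈ (P : Subgroup G), ∀ q ∈ (P : Subgroup G), p • Q = q • Q → p = q
  rsurj : ∀ R : Sylow 3 G, R ≠ P → ∃ p ∈ (P : Subgroup G), p • Q = R

theorem smul_iff_norm (P : Sylow 3 G) (g : G) :
    g • P = P ↔ g ∈ Subgroup.normalizer ((P : Subgroup G) : Set G) :=
  Sylow.smul_eq_iff_mem_normalizer

theorem special_mem (hG : Nat.card G = 6048) (h9 : ∀ g : G, orderOf g ≠ 9) (K : Tab G)
    (P : Sylow 3 G) :
    ∃ y ∈ (P : Subgroup G), Sp K y ∧ ∀ g ∈ (P : Subgroup G), Sp K g → g = y ∨ g = y⁻¹ :=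
  special_in hG h9 K (sylow_three hG P) le_rfl (by rw [sylow_three hG P]; norm_num)

theorem norm_card (hG : Nat.card G = 6048) (h9 : ∀ g : G, orderOf g ≠ 9) (K : Tab G)
    (P : Sylow 3 G) :
    Nat.card (Subgroup.normalizer ((P : Subgroup G) : Set G)) = 216 ∧
      Nat.card (Sylow 3 G) = 28 := by
  haveI : Fact (Nat.Prime 3) := ⟨Nat.prime_three⟩
  set N := Subgroup.normalizer ((P : Subgroup G) : Set G) with hN
  obtain ⟨y, hyP, hy, -⟩ := special_mem hG h9 K P
  have hCN : Subgroup.centralizer ({y} : Set G) ≤ N := by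
    intro c hc
    refine (smul_iff_norm P c).1 (special_unique hG h9 K (c • P) P hy ?_ hyP)
    have hcy := Subgroup.mem_centralizer_singleton_iff.1 hc
    have : c * y * c⁻¹ ∈ ((c • P : Sylow 3 G) : Subgroup G) := by
      rw [Sylow.coe_subgroup_smul]
      exact Subgroup.mem_pointwise_smul_iff_inv_smul_mem.2 (by
        simpa [MulAut.smul_def, mul_assoc] using hyP)
    rwa [hcy, mul_inv_cancel_right] at this
  have h108 : 108 ∣ Nat.card N := cent_special hG K hy ▸ Subgroup.card_dvd_of_le hCN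
  have hm := N.card_mul_index
  rw [hG] at hm
  have hn : Nat.card (Sylow 3 G) = N.index := Sylow.card_eq_index_normalizer P
  have hmod := card_sylow_modEq_one 3 G
  rw [hn, Nat.ModEq] at hmod
  obtain ⟨j, hj⟩ := h108
  have h56 : N.index ∣ 56 := ⟨j, by rw [hj] at hm; nlinarith⟩
  have hNtop : N ≠ ⊤ := by
    intro hNt
    haveI : (P : Subgroup G).Normal := Subgroup.normalizer_eq_top_iff.1 hNt
    rcases IsSimpleGroup.eq_bot_or_eq_top_of_normal (P : Subgroup G) inferInstance with h | h <;>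
      · have := sylow_three hG P
        rw [h] at this
        first
          | (rw [Subgroup.card_bot] at this; norm_num at this)
          | (rw [Subgroup.card_top, hG] at this; norm_num at this)
  have hfac : 6048 ∣ N.index.factorial := hG ▸ Fus.card_dvd_factorial_index hNtop
  have h28 : N.index = 28 := by
    have hle := Nat.le_of_dvd (by norm_num) h56
    generalize N.index = i at hle hmod hfac h56
    interval_cases i <;> first | rfl | omega | (norm_num [Nat.factorial] at hfac)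
  refine ⟨?_, hn.trans h28⟩
  rw [h28] at hm
  omega

/-- Different Sylow 3-subgroups meet trivially. -/
theorem sylow_inter (hG : Nat.card G = 6048) (h9 : ∀ g : G, orderOf g ≠ 9) (K : Tab G)
    {P Q : Sylow 3 G} {g : G} (hgP : g ∈ (P : Subgroup G)) (hgQ : g ∈ (Q : Subgroup G))
    (hg : g ≠ 1) : P = Q := by
  haveI : Fact (Nat.Prime 3) := ⟨Nat.prime_three⟩
  by_cases hs : Sp K g
  · exact special_unique hG h9 K P Q hs hgP hgQ
  have hgo := order_three_of_mem h9 (sylow_three hG P) hgP hg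
  obtain ⟨yP, hyP, hyPs, -⟩ := special_mem hG h9 K P
  obtain ⟨yQ, hyQ, hyQs, -⟩ := special_mem hG h9 K Q
  have hd := cent_nonspecial hG K hgo hs
  have hp : IsPGroup 3 (Subgroup.centralizer ({g} : Set G)) := by
    rw [show (27 : ℕ) = 3 ^ 3 by norm_num] at hd
    obtain ⟨i, -, hi⟩ := (Nat.dvd_prime_pow Nat.prime_three).1 hd
    exact IsPGroup.of_card hi
  obtain ⟨R, hR⟩ := hp.exists_le_sylow
  have key : ∀ (S : Sylow 3 G) (y : G), g ∈ (S : Subgroup G) → y ∈ (S : Subgroup G) → Sp K y →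
      S = R := by
    intro S y hgS hyS hys
    refine special_unique hG h9 K S R hys hyS (hR (Subgroup.mem_centralizer_singleton_iff.2 ?_))
    exact (Subgroup.mem_centralizer_singleton_iff.1
      (special_central hG h9 K S hys hyS hgS)).symm
  rw [key P yP hgP hyP hyPs, key Q yQ hgQ hyQ hyQs]

theorem reg_inj (hG : Nat.card G = 6048) (h9 : ∀ g : G, orderOf g ≠ 9) (K : Tab G)
    {P Q : Sylow 3 G} (hne : P ≠ Q) {p q : G} (hp : p ∈ (P : Subgroup G))
    (hq : q ∈ (P : Subgroup G)) (h : p • Q = q • Q) : p = q := by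
  by_contra hpq
  have hr : q⁻¹ * p ∈ (P : Subgroup G) ⊓ Subgroup.normalizer ((Q : Subgroup G) : Set G) :=
    ⟨(P : Subgroup G).mul_mem ((P : Subgroup G).inv_mem hq) hp,
      (smul_iff_norm Q _).1 (by rw [mul_smul, h, inv_smul_smul])⟩
  have hr' := (IsPGroup.inf_normalizer_sylow P.2 Q).le hr
  exact hne (sylow_inter hG h9 K hr'.1 hr'.2 fun e => hpq (inv_mul_eq_one.1 e).symm)

theorem reg_surj (hG : Nat.card G = 6048) (h9 : ∀ g : G, orderOf g ≠ 9) (K : Tab G)
    {P Q : Sylow 3 G} (hne : P ≠ Q) {R : Sylow 3 G} (hR : R ≠ P) :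
    ∃ p ∈ (P : Subgroup G), p • Q = R := by
  classical
  haveI := Fintype.ofFinite (Sylow 3 G)
  haveI := Fintype.ofFinite (P : Subgroup G)
  let f : ↥(P : Subgroup G) → {S : Sylow 3 G // S ≠ P} := fun p => ⟨(p : G) • Q, fun e => hne (by
    have hpP : (p : G)⁻¹ • P = P :=
      (smul_iff_norm P _).2 (Subgroup.le_normalizer ((P : Subgroup G).inv_mem p.2))
    calc P = (p : G)⁻¹ • P := hpP.symm
      _ = (p : G)⁻¹ • ((p : G) • Q) := by rw [e]
      _ = Q := inv_smul_smul _ _)⟩
  have hinj : Function.Injective f := fun p q h =>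
    Subtype.ext (reg_inj hG h9 K hne p.2 q.2 (congrArg Subtype.val h))
  have hcard : Fintype.card (P : Subgroup G) = Fintype.card {S : Sylow 3 G // S ≠ P} := by
    have h1 := sylow_three hG P
    have h2 := (norm_card hG h9 K P).2
    rw [Nat.card_eq_fintype_card] at h1 h2
    rw [Fintype.card_subtype_compl, Fintype.card_subtype_eq, h2, h1]
  obtain ⟨p, hp⟩ := ((Fintype.bijective_iff_injective_and_card f).2 ⟨hinj, hcard⟩).2 ⟨R, hR⟩
  exact ⟨p, p.2, congrArg Subtype.val hp⟩

variable (hG : Nat.card G = 6048) (h9 : ∀ g : G, orderOf g ≠ 9) (K : Tab G)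
  (P : Sylow 3 G) {y : G} (hyP : y ∈ (P : Subgroup G)) (hy : Sp K y)

include hG h9 hyP hy

theorem special_zpowers {g : G} (hg : g ∈ (P : Subgroup G)) (hs : Sp K g) :
    g ∈ Subgroup.zpowers y := by
  obtain ⟨y₀, -, -, huni⟩ := special_mem hG h9 K P
  rcases huni y hyP hy with rfl | rfl <;> rcases huni g hg hs with rfl | rfl <;> simp

theorem y_comm {g : G} (hg : g ∈ (P : Subgroup G)) : Commute g y :=
  Subgroup.mem_centralizer_singleton_iff.1 (special_central hG h9 K P hy hyP hg)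

theorem comm_mem {g g' : G} (hg : g ∈ (P : Subgroup G)) (hg' : g' ∈ (P : Subgroup G)) :
    (g * g')⁻¹ * (g' * g) ∈ Subgroup.zpowers y := by
  haveI : Fact (Nat.Prime 3) := ⟨Nat.prime_three⟩
  set Y := (Subgroup.zpowers y).subgroupOf (P : Subgroup G) with hY
  haveI hn : Y.Normal := ⟨fun a ha p => by
    rw [hY, Subgroup.mem_subgroupOf] at ha ⊢
    obtain ⟨i, hi⟩ := Subgroup.mem_zpowers_iff.1 ha
    simp only [Subgroup.coe_mul, InvMemClass.coe_inv]
    rw [← hi, ((y_comm hG h9 K P hyP hy p.2).zpow_right i).eq, mul_inv_cancel_right]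
    exact Subgroup.zpow_mem_zpowers y i⟩
  have hcard : Nat.card ((P : Subgroup G) ⧸ Y) = 3 ^ 2 := by
    have h := Y.card_mul_index
    rw [sylow_three hG P, hY,
      Nat.card_congr (Subgroup.subgroupOfEquivOfLe (Subgroup.zpowers_le.2 hyP)).toEquiv,
      Nat.card_zpowers, hy.1, ← hY, Subgroup.index_eq_card] at h
    omega
  have h := IsPGroup.commutative_of_card_eq_prime_sq (p := 3) hcard
    (QuotientGroup.mk (⟨g, hg⟩ : (P : Subgroup G))) (QuotientGroup.mk ⟨g', hg'⟩)
  rw [← QuotientGroup.mk_mul, ← QuotientGroup.mk_mul, QuotientGroup.eq, hY,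
    Subgroup.mem_subgroupOf] at h
  exact h

theorem indep_not_comm {a b : G} (ha : a ∈ (P : Subgroup G)) (hb : b ∈ (P : Subgroup G))
    (haY : a ∉ Subgroup.zpowers y) (hi : ∀ i : ℤ, (a ^ i)⁻¹ * b ∉ Subgroup.zpowers y) :
    a * b ≠ b * a := by
  intro hc
  have hcom : Commute a b := hc
  let A : Subgroup G :=
    { carrier := {g | ∃ i j : ℤ, g = a ^ i * b ^ j}
      one_mem' := ⟨0, 0, by simp⟩
      mul_mem' := by
        rintro _ _ ⟨i, j, rfl⟩ ⟨k, l, rfl⟩
        refine ⟨i + k, j + l, ?_⟩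
        rw [zpow_add, zpow_add, mul_assoc, ← mul_assoc (b ^ j), (hcom.zpow_zpow k j).symm.eq]
        group
      inv_mem' := by
        rintro _ ⟨i, j, rfl⟩
        exact ⟨-i, -j, by rw [mul_inv_rev, ← zpow_neg, ← zpow_neg, (hcom.zpow_zpow (-i) (-j)).eq]⟩ }
  have hA : ∀ g, g ∈ A ↔ ∃ i j : ℤ, g = a ^ i * b ^ j := fun g => Iff.rfl
  have hAP : A ≤ (P : Subgroup G) := fun g hg => by
    obtain ⟨i, j, rfl⟩ := (hA g).1 hg
    exact mul_mem (zpow_mem ha i) (zpow_mem hb j)
  have ha1 : a ≠ 1 := fun e => haY (e ▸ one_mem _)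
  have hb1 : b ≠ 1 := fun e => hi 0 (by simp [e])
  have h3a : orderOf a = 3 := order_three_of_mem h9 (sylow_three hG P) ha ha1
  have h3b : orderOf b = 3 := order_three_of_mem h9 (sylow_three hG P) hb hb1
  have h9A : 9 ≤ Nat.card A := by
    have h1 : Subgroup.zpowers a < A := lt_of_le_of_ne
      (Subgroup.zpowers_le.2 ((hA a).2 ⟨1, 0, by simp⟩)) fun e => by
        have : b ∈ Subgroup.zpowers a := e ▸ (hA b).2 ⟨0, 1, by simp⟩
        obtain ⟨i, hi'⟩ := Subgroup.mem_zpowers_iff.1 this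
        exact hi i (by rw [hi', inv_mul_cancel]; exact one_mem _)
    have h2 := Subgroup.card_dvd_of_le hAP
    rw [sylow_three hG P, show (27 : ℕ) = 3 ^ 3 by norm_num, Nat.dvd_prime_pow Nat.prime_three] at h2
    obtain ⟨k, hk, hk'⟩ := h2
    have h3 : 3 < Nat.card A := by
      by_contra hle
      refine h1.ne (Subgroup.eq_of_le_of_card_ge h1.le ?_)
      rw [Nat.card_zpowers, h3a]
      omega
    rw [hk'] at h3 ⊢
    interval_cases k <;> omega
  obtain ⟨y', hy', hys, -⟩ := special_in hG h9 K (sylow_three hG P) hAP h9A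
  have hyY := special_zpowers hG h9 K P hyP hy (hAP hy') hys
  obtain ⟨i, j, hij⟩ := (hA y').1 hy'
  have hb3 : b ^ (3 : ℤ) = 1 := by
    rw [show (3 : ℤ) = ((3 : ℕ) : ℤ) by rfl, zpow_natCast, ← h3b, pow_orderOf_eq_one]
  have ha3 : a ^ (3 : ℤ) = 1 := by
    rw [show (3 : ℤ) = ((3 : ℕ) : ℤ) by rfl, zpow_natCast, ← h3a, pow_orderOf_eq_one]
  rw [hij] at hyY hys
  by_cases hj : (3 : ℤ) ∣ j
  · obtain ⟨q, rfl⟩ := hj
    rw [zpow_mul, hb3, one_zpow, mul_one] at hys hyY
    by_cases hi3 : (3 : ℤ) ∣ i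
    · obtain ⟨r, rfl⟩ := hi3
      rw [zpow_mul, ha3, one_zpow] at hys
      exact hys.ne_one rfl
    · refine haY ?_
      rcases (show i % 3 = 1 ∨ i % 3 = 2 by omega) with h | h
      · have := hyY
        rw [← Int.emod_add_mul_ediv i 3, zpow_add, zpow_mul, ha3, one_zpow, mul_one, h, zpow_one] at this
        exact this
      · have := inv_mem hyY
        rw [← Int.emod_add_mul_ediv i 3, zpow_add, zpow_mul, ha3, one_zpow, mul_one, h,
          ← zpow_neg, show (-2 : ℤ) = 1 + 3 * (-1) by norm_num, zpow_add, zpow_mul, ha3,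
          one_zpow, mul_one, zpow_one] at this
        exact this
  · rcases (show j % 3 = 1 ∨ j % 3 = 2 by omega) with h | h
    · refine hi (-i) ?_
      rw [← Int.emod_add_mul_ediv j 3, zpow_add, zpow_mul, hb3, one_zpow, mul_one, h, zpow_one] at hyY
      rwa [zpow_neg, inv_inv]
    · refine hi i ?_
      rw [← Int.emod_add_mul_ediv j 3, zpow_add, zpow_mul, hb3, one_zpow, mul_one, h,
        show (2 : ℤ) = -1 + 3 * 1 by norm_num, zpow_add, zpow_mul, hb3, one_zpow, mul_one,
        zpow_neg_one] at hyY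
      have := inv_mem hyY
      rw [mul_inv_rev, inv_inv] at this
      rwa [((hcom.zpow_left i).inv_left).eq]

theorem conj_y {k : G} (hk : k • P = P) : k * y * k⁻¹ = y ∨ k * y * k⁻¹ = y⁻¹ := by
  obtain ⟨y₀, -, -, huni⟩ := special_mem hG h9 K P
  have hm := (Subgroup.mem_normalizer_iff.1 ((smul_iff_norm P k).1 hk) y).1 hyP
  rcases huni y hyP hy with rfl | rfl <;> rcases huni _ hm (hy.conj k) with h | h <;>
    simp only [h, inv_inv] <;> simp

/-- An element of the two-point stabilizer moves every nontrivial coset of the centre. -/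
theorem no_fix {k : G} (hk : k • P = P) (hk8 : k ^ 8 = 1) (hk1 : k ≠ 1) {g : G}
    (hg : g ∈ (P : Subgroup G)) (hgY : g ∉ Subgroup.zpowers y) :
    g⁻¹ * (k * g * k⁻¹) ∉ Subgroup.zpowers y := by
  intro hmem
  obtain ⟨i, hi⟩ := Subgroup.mem_zpowers_iff.1 hmem
  have hkg : k * g * k⁻¹ = g * y ^ i := by rw [hi, mul_inv_cancel_left]
  have hy3 : y ^ (3 : ℤ) = 1 := by
    rw [show (3 : ℤ) = ((3 : ℕ) : ℤ) by rfl, zpow_natCast, ← hy.1, pow_orderOf_eq_one]
  obtain ⟨g', hg', hgY', hc⟩ : ∃ g' ∈ (P : Subgroup G), g' ∉ Subgroup.zpowers y ∧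
      k * g' * k⁻¹ = g' := by
    rcases conj_y hG h9 K P hyP hy hk with h | h
    · have hn : ∀ n : ℕ, k ^ n * g * (k ^ n)⁻¹ = g * y ^ (i * n) := by
        intro n
        induction n with
        | zero => simp
        | succ n ih =>
          calc k ^ (n + 1) * g * (k ^ (n + 1))⁻¹ = k * (k ^ n * g * (k ^ n)⁻¹) * k⁻¹ := by
                rw [pow_succ']; group
            _ = (k * g * k⁻¹) * (k * y * k⁻¹) ^ (i * n) := by rw [ih, conj_zpow]; group
            _ = g * y ^ (i * (n + 1 : ℕ)) := by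
                rw [hkg, h, mul_assoc, ← zpow_add]
                congr 2
                push_cast
                ring
      have h8 := hn 8
      rw [hk8, one_mul, inv_one, mul_one, left_eq_mul, ← orderOf_dvd_iff_zpow_eq_one, hy.1] at h8
      have h3 : (3 : ℤ) ∣ i := by push_cast at h8; omega
      obtain ⟨q, rfl⟩ := h3
      refine ⟨g, hg, hgY, ?_⟩
      rw [hkg, zpow_mul, hy3, one_zpow, mul_one]
    · refine ⟨g * y ^ (2 * i), mul_mem hg (zpow_mem hyP _), fun hm => hgY ?_, ?_⟩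
      · have := mul_mem hm (Subgroup.zpow_mem_zpowers y (-(2 * i)))
        rwa [mul_assoc, ← zpow_add, add_neg_cancel, zpow_zero, mul_one] at this
      · calc k * (g * y ^ (2 * i)) * k⁻¹ = (k * g * k⁻¹) * (k * y * k⁻¹) ^ (2 * i) := by
              rw [conj_zpow]; group
          _ = g * (y ^ i * (y⁻¹) ^ (2 * i)) := by rw [hkg, h, mul_assoc]
          _ = g * y ^ (2 * i) := by
              rw [inv_zpow, ← zpow_neg, ← zpow_add,
                show i + -(2 * i) = 2 * i + 3 * (-i) by ring, zpow_add, zpow_mul y 3, hy3, one_zpow,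
                mul_one]
  have hg1 : g' ≠ 1 := fun e => hgY' (e ▸ one_mem _)
  have hgo := order_three_of_mem h9 (sylow_three hG P) hg' hg1
  have hns : ¬ Sp K g' := fun hs => hgY' (special_zpowers hG h9 K P hyP hy hg' hs)
  have hkC : k ∈ Subgroup.centralizer ({g'} : Set G) :=
    Subgroup.mem_centralizer_singleton_iff.2 (mul_inv_eq_iff_eq_mul.1 hc)
  have h1 : orderOf k ∣ 27 :=
    (Subgroup.orderOf_dvd_natCard _ hkC).trans (cent_nonspecial hG K hgo hns)
  have h2 : orderOf k ∣ 8 := orderOf_dvd_of_pow_eq_one hk8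
  have h3 := Nat.dvd_gcd h1 h2
  rw [show Nat.gcd 27 8 = 1 by norm_num, Nat.dvd_one, orderOf_eq_one_iff] at h3
  exact hk1 h3

end Cfsg.Agent.Recog.U33U
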