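import Mathlib
import Cfsg.Agent.Lib.Recog.U33U.Frame

/-!
Simple groups of order 6048 without elements of order nine: the two-point stabilizer is cyclic of
order eight and acts on the Sylow 3-subgroup as in the model.
-/

set_option autoImplicit false
set_option linter.style.haveILetI false
set_option linter.unusedSectionVars false

namespace Cfsg.Agent.Recog.U33U

open Cfsg Cfsg.Agent.Block Cfsg.Agent.Char
open scoped Pointwise

theorem Model.cancel_table : ((List.range 27).all fun u => (List.range 27).all fun v =>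
    Nat.blt (Model.mul u v) 27 &&
      (!Nat.beq (Model.mul (Model.inv u) v) 0 || Nat.beq u v)) = true := by decide +kernel

theorem Model.comm_table : ((List.range 27).all fun u =>
    !Nat.beq (Model.mul (Model.inv (Model.mul 3 u)) (Model.mul u 3)) 2 || Nat.beq (u / 9) 1) = true := by
  decide +kernel

theorem Model.six_table : ((List.range 27).all fun v =>
    !Nat.blt (Model.mul (Model.inv 6) v) 3 || Nat.beq v (6 + Model.mul (Model.inv 6) v)) = true := by
  decide +kernel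

theorem Model.flip_table : ((List.range 3).all fun r => (List.range 3).all fun s =>
    Nat.blt (Model.mul (Model.inv (Model.mul 9 (Model.mul (6 + s) (6 + s)))) (12 + r)) 3) = true := by
  decide +kernel

theorem Model.mul_lt {u v : ℕ} (hu : u < 27) (hv : v < 27) : Model.mul u v < 27 := by
  have h := Model.cancel_table
  simp only [List.all_eq_true, List.mem_range, Bool.and_eq_true] at h
  have h' := (h u hu v hv).1
  simpa [Nat.blt_eq] using h'

theorem Model.inv_spec {u : ℕ} (hu : u < 27) :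
    Model.inv u < 27 ∧ Model.mul (Model.inv u) u = 0 ∧ Model.mul u 0 = u ∧ Model.mul 0 u = u ∧
      Model.mul u 27 = 27 := by
  have h := Model.mul_table
  simp only [List.all_eq_true, List.mem_range, Bool.and_eq_true, Nat.blt_eq] at h
  obtain ⟨⟨⟨⟨h1, h2⟩, h3⟩, h4⟩, h5⟩ := h u hu
  exact ⟨h1, Nat.eq_of_beq_eq_true h2, Nat.eq_of_beq_eq_true h3, Nat.eq_of_beq_eq_true h4,
    Nat.eq_of_beq_eq_true h5⟩

section

variable {G : Type*} [Group G] {a b z : G}

theorem Heis.word_inv (H : Heis a b z) {u : ℕ} (hu : u < 27) :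
    word a b z (Model.inv u) = (word a b z u)⁻¹ := by
  refine eq_inv_of_mul_eq_one_left ?_
  rw [H.word_mul hu, (Model.inv_spec hu).2.1, word_zero]

end

universe u

variable {G : Type u} [Group G] [Finite G] [IsSimpleGroup G]
variable (hG : Nat.card G = 6048) (h9 : ∀ g : G, orderOf g ≠ 9) (K : Tab G)
  (P : Sylow 3 G) {y : G} (hyP : y ∈ (P : Subgroup G)) (hy : Sp K y)

include hG h9 hyP hy

theorem mem_conj {k : G} (hk : k • P = P) {g : G} (hg : g ∈ (P : Subgroup G)) :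
    k * g * k⁻¹ ∈ (P : Subgroup G) :=
  (Subgroup.mem_normalizer_iff.1 ((smul_iff_norm P k).1 hk) g).1 hg

theorem conj_mem_Y {k : G} (hk : k • P = P) {g : G} (hg : g ∈ Subgroup.zpowers y) :
    k * g * k⁻¹ ∈ Subgroup.zpowers y := by
  obtain ⟨i, rfl⟩ := Subgroup.mem_zpowers_iff.1 hg
  rw [← conj_zpow]
  rcases conj_y hG h9 K P hyP hy hk with h | h <;> rw [h]
  · exact Subgroup.zpow_mem_zpowers y i
  · exact zpow_mem (inv_mem (Subgroup.mem_zpowers y)) i

theorem mem_Y_of_conj {k : G} (hk : k • P = P) {g : G} (hg : k * g * k⁻¹ ∈ Subgroup.zpowers y) :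
    g ∈ Subgroup.zpowers y := by
  have h := conj_mem_Y hG h9 K P hyP hy (k := k⁻¹)
    (by conv_lhs => rw [← hk]
        exact inv_smul_smul k P) hg
  simpa [mul_assoc] using h

theorem inv_Y {k : G} (hk : k * y * k⁻¹ = y⁻¹) {g : G} (hg : g ∈ Subgroup.zpowers y) :
    k * g * k⁻¹ = g⁻¹ := by
  obtain ⟨i, rfl⟩ := Subgroup.mem_zpowers_iff.1 hg
  rw [← conj_zpow, hk, inv_zpow]

theorem central_Y {g c : G} (hg : g ∈ (P : Subgroup G)) (hc : c ∈ Subgroup.zpowers y) :
    Commute c g := by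
  obtain ⟨i, rfl⟩ := Subgroup.mem_zpowers_iff.1 hc
  exact ((y_comm hG h9 K P hyP hy hg).zpow_right i).symm

theorem Y_le {c : G} (hc : c ∈ Subgroup.zpowers y) : c ∈ (P : Subgroup G) :=
  Subgroup.zpowers_le.2 hyP hc

theorem invol_inverts {t : G} (ht : t • P = P) (ht2 : t ^ 2 = 1) (ht1 : t ≠ 1) {g : G}
    (hg : g ∈ (P : Subgroup G)) : g * (t * g * t⁻¹) ∈ Subgroup.zpowers y := by
  by_contra hn
  have hg' := mem_conj hG h9 K P hyP hy ht hg
  refine no_fix hG h9 K P hyP hy ht (by rw [show 8 = 2 * 4 by norm_num, pow_mul, ht2, one_pow]) ht1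
    (mul_mem hg hg') hn ?_
  have e : t * (g * (t * g * t⁻¹)) * t⁻¹ = (t * g * t⁻¹) * g := by
    calc t * (g * (t * g * t⁻¹)) * t⁻¹ = (t * g * t⁻¹) * (t ^ 2 * g * (t ^ 2)⁻¹) := by
          rw [sq]; group
      _ = (t * g * t⁻¹) * g := by rw [ht2]; group
  rw [e]
  exact comm_mem hG h9 K P hyP hy hg hg'

theorem indep_conj {k : G} (hk : k • P = P) (hk8 : k ^ 8 = 1) (hk2 : k ^ 2 ≠ 1) {a : G}
    (ha : a ∈ (P : Subgroup G)) (haY : a ∉ Subgroup.zpowers y) :
    ∀ i : ℤ, (a ^ i)⁻¹ * (k * a * k⁻¹) ∉ Subgroup.zpowers y := by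
  have hk1 : k ≠ 1 := fun e => hk2 (by rw [e, one_pow])
  have ha1 : a ≠ 1 := fun e => haY (e ▸ one_mem _)
  have ha3 : a ^ (3 : ℤ) = 1 := by
    rw [show (3 : ℤ) = ((3 : ℕ) : ℤ) by rfl, zpow_natCast,
      ← order_three_of_mem h9 (sylow_three hG P) ha ha1, pow_orderOf_eq_one]
  intro i hi
  rw [← Int.emod_add_mul_ediv i 3, zpow_add, zpow_mul, ha3, one_zpow, mul_one] at hi
  rcases (show i % 3 = 0 ∨ i % 3 = 1 ∨ i % 3 = 2 by omega) with h | h | h <;> rw [h] at hi
  · rw [zpow_zero, inv_one, one_mul] at hi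
    exact haY (mem_Y_of_conj hG h9 K P hyP hy hk hi)
  · rw [zpow_one] at hi
    exact no_fix hG h9 K P hyP hy hk hk8 hk1 ha haY hi
  · set c := (a ^ (2 : ℤ))⁻¹ * (k * a * k⁻¹) with hc
    have hb : k * a * k⁻¹ = a ^ (2 : ℤ) * c := by rw [hc, mul_inv_cancel_left]
    refine no_fix hG h9 K P hyP hy (k := k ^ 2) (by rw [sq, mul_smul, hk, hk])
      (by rw [← pow_mul, show 2 * 8 = 8 * 2 by norm_num, pow_mul, hk8, one_pow]) hk2 ha haY ?_
    have e : a⁻¹ * (k ^ 2 * a * (k ^ 2)⁻¹) = c * c * (k * c * k⁻¹) := by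
      have h2' : k ^ 2 * a * (k ^ 2)⁻¹ = k * (k * a * k⁻¹) * k⁻¹ := by rw [sq]; group
      have hconj : k * (a ^ (2 : ℤ) * c) * k⁻¹ = (k * a * k⁻¹) * (k * a * k⁻¹) * (k * c * k⁻¹) := by
        rw [zpow_two]; group
      rw [h2', hb, hconj, hb]
      calc a⁻¹ * (a ^ (2 : ℤ) * c * (a ^ (2 : ℤ) * c) * (k * c * k⁻¹))
          = a⁻¹ * (a ^ (2 : ℤ) * (c * a ^ (2 : ℤ)) * c) * (k * c * k⁻¹) := by
            simp only [mul_assoc]
        _ = a⁻¹ * (a ^ (2 : ℤ) * (a ^ (2 : ℤ) * c) * c) * (k * c * k⁻¹) := by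
            rw [(central_Y hG h9 K P hyP hy (zpow_mem ha 2) hi).eq]
        _ = a ^ (3 : ℤ) * (c * c * (k * c * k⁻¹)) := by group
        _ = _ := by rw [ha3, one_mul]
    rw [e]
    exact mul_mem (mul_mem hi hi) (conj_mem_Y hG h9 K P hyP hy hk hi)

theorem z_spec {a b : G} (ha : a ∈ (P : Subgroup G)) (hb : b ∈ (P : Subgroup G))
    (haY : a ∉ Subgroup.zpowers y) (hi : ∀ i : ℤ, (a ^ i)⁻¹ * b ∉ Subgroup.zpowers y) :
    (a * b)⁻¹ * (b * a) ∈ Subgroup.zpowers y ∧ orderOf ((a * b)⁻¹ * (b * a)) = 3 ∧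
      Heis a b ((a * b)⁻¹ * (b * a)) := by
  have hz := comm_mem hG h9 K P hyP hy ha hb
  have hz1 : (a * b)⁻¹ * (b * a) ≠ 1 := fun e =>
    indep_not_comm hG h9 K P hyP hy ha hb haY hi (inv_mul_eq_one.1 e)
  have h3 : ∀ g ∈ (P : Subgroup G), g ^ 3 = 1 := fun g hg => by
    rcases eq_or_ne g 1 with rfl | hg1
    · exact one_pow 3
    · rw [← order_three_of_mem h9 (sylow_three hG P) hg hg1, pow_orderOf_eq_one]
  exact ⟨hz, order_three_of_mem h9 (sylow_three hG P) (Y_le hG h9 K P hyP hy hz) hz1,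
    ⟨central_Y hG h9 K P hyP hy ha hz, central_Y hG h9 K P hyP hy hb hz,
      (mul_inv_cancel_left _ _).symm, h3 a ha, h3 b hb, h3 _ (Y_le hG h9 K P hyP hy hz)⟩⟩

theorem words {a b : G} (ha : a ∈ (P : Subgroup G)) (hb : b ∈ (P : Subgroup G))
    (haY : a ∉ Subgroup.zpowers y) (hi : ∀ i : ℤ, (a ^ i)⁻¹ * b ∉ Subgroup.zpowers y) :
    (∀ u, word a b ((a * b)⁻¹ * (b * a)) u ∈ (P : Subgroup G)) ∧
    (∀ u < 27, ∀ v < 27, word a b ((a * b)⁻¹ * (b * a)) u = word a b ((a * b)⁻¹ * (b * a)) v →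
      u = v) ∧
    (∀ p ∈ (P : Subgroup G), ∃ u < 27, word a b ((a * b)⁻¹ * (b * a)) u = p) ∧
    (∀ u < 27, word a b ((a * b)⁻¹ * (b * a)) u ∈ Subgroup.zpowers y → u < 3) := by
  classical
  obtain ⟨hzY, hzo, H⟩ := z_spec hG h9 K P hyP hy ha hb haY hi
  set z := (a * b)⁻¹ * (b * a) with hz
  have hmem : ∀ u, word a b z u ∈ (P : Subgroup G) := fun u =>
    mul_mem (mul_mem (pow_mem ha _) (pow_mem hb _)) (pow_mem (Y_le hG h9 K P hyP hy hzY) _)
  have hY : ∀ u < 27, word a b z u ∈ Subgroup.zpowers y → u < 3 := by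
    intro u hu hm
    have hij : a ^ (u / 9) * b ^ (u / 3 % 3) ∈ Subgroup.zpowers y :=
      ((Subgroup.zpowers y).mul_mem_cancel_right (pow_mem hzY _)).1 hm
    rcases (show u / 3 % 3 = 0 ∨ u / 3 % 3 = 1 ∨ u / 3 % 3 = 2 by omega) with h | h | h <;>
      rw [h] at hij
    · rw [pow_zero, mul_one] at hij
      rcases (show u / 9 = 0 ∨ u / 9 = 1 ∨ u / 9 = 2 by omega) with h' | h' | h' <;> rw [h'] at hij
      · omega
      · exact absurd (by simpa using hij) haY
      · refine absurd ?_ haY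
        have e : a = (a ^ 2)⁻¹ := eq_inv_of_mul_eq_one_left (by rw [← pow_succ', H.a3])
        rw [e]
        exact inv_mem hij
    · refine absurd ?_ (hi (-(u / 9 : ℕ)))
      rw [zpow_neg, inv_inv, zpow_natCast]
      rwa [pow_one] at hij
    · refine absurd ?_ (hi ((u / 9 : ℕ)))
      rw [zpow_natCast]
      have e : b ^ 2 = b⁻¹ := eq_inv_of_mul_eq_one_left (by rw [← pow_succ, H.b3])
      rw [e] at hij
      have h' := inv_mem hij
      rw [mul_inv_rev, inv_inv] at h'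
      have e' : (a ^ (u / 9))⁻¹ * b =
          (a ^ (u / 9))⁻¹ * ((b * (a ^ (u / 9))⁻¹) * a ^ (u / 9)) := by group
      rw [e', (central_Y hG h9 K P hyP hy (pow_mem ha _) h').eq, inv_mul_cancel_left]
      exact h'
  have hinj : ∀ u < 27, ∀ v < 27, word a b z u = word a b z v → u = v := by
    intro u hu v hv e
    have e1 : word a b z (Model.mul (Model.inv u) v) = 1 := by
      rw [← H.word_mul hv, H.word_inv hu, e, inv_mul_cancel]
    have h3 := hY _ (Model.mul_lt (Model.inv_spec hu).1 hv) (by rw [e1]; exact one_mem _)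
    have hm : Model.mul (Model.inv u) v = 0 := by
      set m := Model.mul (Model.inv u) v
      rw [word, show m / 9 = 0 by omega, show m / 3 % 3 = 0 by omega, pow_zero, pow_zero, one_mul,
        one_mul, Nat.mod_eq_of_lt h3] at e1
      have := orderOf_dvd_of_pow_eq_one e1
      rw [hzo] at this
      omega
    have h := Model.cancel_table
    simp only [List.all_eq_true, List.mem_range, Bool.and_eq_true] at h
    have h' := (h u hu v hv).2
    rw [hm] at h'
    simpa using h'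
  refine ⟨hmem, hinj, fun p hp => ?_, hY⟩
  haveI := Fintype.ofFinite (P : Subgroup G)
  let f : Fin 27 → ↥(P : Subgroup G) := fun i => ⟨word a b z i, hmem i⟩
  have hf : Function.Bijective f := (Fintype.bijective_iff_injective_and_card f).2
    ⟨fun i j h => Fin.ext (hinj i i.2 j j.2 (congrArg Subtype.val h)), by
      rw [Fintype.card_fin, ← Nat.card_eq_fintype_card, sylow_three hG P]⟩
  obtain ⟨i, hi'⟩ := hf.2 ⟨p, hp⟩
  exact ⟨i, i.2, congrArg Subtype.val hi'⟩

theorem exists_outside : ∃ a ∈ (P : Subgroup G), a ∉ Subgroup.zpowers y := by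
  by_contra hn
  push Not at hn
  have := Subgroup.card_le_of_le (show (P : Subgroup G) ≤ Subgroup.zpowers y from hn)
  rw [sylow_three hG P, Nat.card_zpowers, hy.1] at this
  omega

/-- Elements inverting the centre have order eight. -/
theorem inverting_pow_four {k : G} (hk : k • P = P) (hk8 : k ^ 8 = 1) (hky : k * y * k⁻¹ = y⁻¹) :
    k ^ 4 ≠ 1 := by
  classical
  intro h4
  have hk1 : k ≠ 1 := by
    rintro rfl
    rw [one_mul, inv_one, mul_one] at hky
    exact inv_ne_self hy.1 hky.symm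
  obtain ⟨a, ha, haY⟩ := exists_outside hG h9 K P hyP hy
  have key : ∀ b ∈ (P : Subgroup G), (∀ i : ℤ, (a ^ i)⁻¹ * b ∉ Subgroup.zpowers y) →
      k * ((a * b)⁻¹ * (b * a)) * k⁻¹ ≠ (a * b)⁻¹ * (b * a) := by
    intro b hb hi hc
    obtain ⟨hzY, hzo, -⟩ := z_spec hG h9 K P hyP hy ha hb haY hi
    exact inv_ne_self hzo ((inv_Y hG h9 K P hyP hy hky hzY).symm.trans hc)
  have hconj : ∀ b : G, k * ((a * b)⁻¹ * (b * a)) * k⁻¹ = ((k * a * k⁻¹) * (k * b * k⁻¹))⁻¹ *
      ((k * b * k⁻¹) * (k * a * k⁻¹)) := fun b => by group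
  by_cases hk2 : k ^ 2 = 1
  · obtain ⟨b, hb, hi⟩ : ∃ b ∈ (P : Subgroup G),
        ∀ i : ℤ, (a ^ i)⁻¹ * b ∉ Subgroup.zpowers y := by
      by_contra hn
      push Not at hn
      let f : Subgroup.zpowers a × Subgroup.zpowers y → G := fun x => (x.1 : G) * x.2
      have hsub : ((P : Subgroup G) : Set G) ⊆ Set.range f := fun b hb => by
        obtain ⟨i, hi⟩ := hn b hb
        exact ⟨(⟨a ^ i, Subgroup.zpow_mem_zpowers a i⟩, ⟨_, hi⟩), mul_inv_cancel_left _ _⟩
      have h1 := Nat.card_mono (Set.finite_range f) hsub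
      have h2 := Finite.card_range_le f
      have ha1 : a ≠ 1 := fun e => haY (e ▸ one_mem _)
      rw [Nat.card_prod, Nat.card_zpowers, Nat.card_zpowers, hy.1,
        order_three_of_mem h9 (sylow_three hG P) ha ha1] at h2
      rw [SetLike.coe_sort_coe, sylow_three hG P] at h1
      omega
    refine key b hb hi ?_
    obtain ⟨hzY, -, H⟩ := z_spec hG h9 K P hyP hy ha hb haY hi
    set c := a * (k * a * k⁻¹) with hc
    set d := b * (k * b * k⁻¹) with hd
    have hcY : c ∈ Subgroup.zpowers y := invol_inverts hG h9 K P hyP hy hk hk2 hk1 ha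
    have hdY : d ∈ Subgroup.zpowers y := invol_inverts hG h9 K P hyP hy hk hk2 hk1 hb
    rw [hconj, show k * a * k⁻¹ = a⁻¹ * c by rw [hc, inv_mul_cancel_left],
      show k * b * k⁻¹ = b⁻¹ * d by rw [hd, inv_mul_cancel_left]]
    have hca := central_Y hG h9 K P hyP hy (inv_mem ha) hcY
    have hcb := central_Y hG h9 K P hyP hy (inv_mem hb) hcY
    have hda := central_Y hG h9 K P hyP hy (inv_mem ha) hdY
    have hdb := central_Y hG h9 K P hyP hy (inv_mem hb) hdY
    have hdc := central_Y hG h9 K P hyP hy (Y_le hG h9 K P hyP hy hcY) hdY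
    have e1 : a⁻¹ * c * (b⁻¹ * d) = a⁻¹ * b⁻¹ * (c * d) := by
      rw [mul_assoc, ← mul_assoc c, hcb.eq]; group
    have e2 : b⁻¹ * d * (a⁻¹ * c) = b⁻¹ * a⁻¹ * (c * d) := by
      rw [mul_assoc, ← mul_assoc d, hda.eq, mul_assoc a⁻¹, hdc.eq]; group
    rw [e1, e2]
    have hcdP : c * d ∈ Subgroup.zpowers y := mul_mem hcY hdY
    calc (a⁻¹ * b⁻¹ * (c * d))⁻¹ * (b⁻¹ * a⁻¹ * (c * d))
        = (c * d)⁻¹ * ((b * a * b⁻¹ * a⁻¹) * (c * d)) := by group
      _ = (c * d)⁻¹ * (((a * b)⁻¹ * (b * a)) * (c * d)) := by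
          congr 2
          calc b * a * b⁻¹ * a⁻¹ = a * b * ((a * b)⁻¹ * (b * a)) * b⁻¹ * a⁻¹ := by group
            _ = a * (b * ((a * b)⁻¹ * (b * a))) * b⁻¹ * a⁻¹ := by group
            _ = a * (((a * b)⁻¹ * (b * a)) * b) * b⁻¹ * a⁻¹ := by rw [← H.zb.eq]
            _ = a * ((a * b)⁻¹ * (b * a)) * a⁻¹ := by group
            _ = _ := by rw [← H.za.eq, mul_inv_cancel_right]
      _ = _ := by
          rw [(central_Y hG h9 K P hyP hy (Y_le hG h9 K P hyP hy hcdP) hzY).eq, inv_mul_cancel_left]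
  · have hi := indep_conj hG h9 K P hyP hy hk hk8 hk2 ha haY
    set b := k * a * k⁻¹ with hbdef
    have hb : b ∈ (P : Subgroup G) := mem_conj hG h9 K P hyP hy hk ha
    refine key b hb hi ?_
    obtain ⟨hzY, -, H⟩ := z_spec hG h9 K P hyP hy ha hb haY hi
    set c := a * (k ^ 2 * a * (k ^ 2)⁻¹) with hc
    have hcY : c ∈ Subgroup.zpowers y := invol_inverts hG h9 K P hyP hy (by rw [sq, mul_smul, hk, hk])
      (by rw [← pow_mul]; exact h4) hk2 ha
    rw [hconj, show k * b * k⁻¹ = a⁻¹ * c by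
      rw [hc, inv_mul_cancel_left, hbdef, sq]; group]
    have hcb := central_Y hG h9 K P hyP hy hb hcY
    calc (b * (a⁻¹ * c))⁻¹ * (a⁻¹ * c * b) = c⁻¹ * (a * b⁻¹ * a⁻¹ * b) * c := by
          rw [mul_assoc a⁻¹ c b, hcb.eq]; group
      _ = c⁻¹ * (a * ((a * b)⁻¹ * (b * a)) * a⁻¹) * c := by group
      _ = c⁻¹ * ((a * b)⁻¹ * (b * a)) * c := by rw [← H.za.eq, mul_inv_cancel_right]
      _ = _ := by
          rw [mul_assoc, (central_Y hG h9 K P hyP hy (Y_le hG h9 K P hyP hy hcY) hzY).eq,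
            inv_mul_cancel_left]

omit hyP hy in
include K in
theorem stab_card {Q : Sylow 3 G} (hne : P ≠ Q) :
    Nat.card ↥(Subgroup.normalizer ((P : Subgroup G) : Set G) ⊓
      Subgroup.normalizer ((Q : Subgroup G) : Set G)) = 8 := by
  set N := Subgroup.normalizer ((P : Subgroup G) : Set G) with hN
  set H := N ⊓ Subgroup.normalizer ((Q : Subgroup G) : Set G) with hH
  let f : ↥(P : Subgroup G) × ↥H → ↥N := fun x =>
    ⟨(x.1 : G) * x.2, N.mul_mem (Subgroup.le_normalizer x.1.2) x.2.2.1⟩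
  have hQ : ∀ k : ↥H, (k : G) • Q = Q := fun k => (smul_iff_norm Q _).2 k.2.2
  have hf : Function.Bijective f := by
    constructor
    · rintro ⟨p, k⟩ ⟨q, l⟩ h
      have h' : (p : G) * k = q * l := congrArg Subtype.val h
      have e : (p : G) = q := reg_inj hG h9 K hne p.2 q.2 (by
        calc (p : G) • Q = ((p : G) * k) • Q := by rw [mul_smul, hQ k]
          _ = (q : G) • Q := by rw [h', mul_smul, hQ l])
      have e1 : p = q := Subtype.ext e
      rw [e, mul_right_inj] at h'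
      rw [e1, Subtype.ext h']
    · rintro ⟨g, hg⟩
      have hgQ : g • Q ≠ P := fun e => hne (by
        calc P = g⁻¹ • (g • P) := (inv_smul_smul g P).symm
          _ = g⁻¹ • P := by rw [(smul_iff_norm P g).2 hg]
          _ = g⁻¹ • (g • Q) := by rw [e]
          _ = Q := inv_smul_smul g Q)
      obtain ⟨p, hp, hpQ⟩ := reg_surj hG h9 K hne hgQ
      refine ⟨(⟨p, hp⟩, ⟨p⁻¹ * g, N.mul_mem (N.inv_mem (Subgroup.le_normalizer hp)) hg,
        (smul_iff_norm Q _).1 (by rw [mul_smul, ← hpQ, inv_smul_smul])⟩), Subtype.ext ?_⟩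
      exact mul_inv_cancel_left p g
  have h := Nat.card_congr (Equiv.ofBijective f hf)
  rw [Nat.card_prod, sylow_three hG P, (norm_card hG h9 K P).1] at h
  omega

omit hyP hy in
include K in
theorem stab_pow_eight {Q : Sylow 3 G} (hne : P ≠ Q) {k : G} (hk : k • P = P) (hkQ : k • Q = Q) :
    k ^ 8 = 1 := by
  apply orderOf_dvd_iff_pow_eq_one.1
  rw [← stab_card hG h9 K P hne]
  exact Subgroup.orderOf_dvd_natCard _ ⟨(smul_iff_norm P k).1 hk, (smul_iff_norm Q k).1 hkQ⟩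

theorem exists_inverting {Q : Sylow 3 G} (hne : P ≠ Q) :
    ∃ k : G, k • P = P ∧ k • Q = Q ∧ k * y * k⁻¹ = y⁻¹ := by
  by_contra hn
  push Not at hn
  have hle : Subgroup.normalizer ((P : Subgroup G) : Set G) ≤ Subgroup.centralizer ({y} : Set G) := by
    intro g hg
    have hgQ : g • Q ≠ P := fun e => hne (by
      calc P = g⁻¹ • (g • P) := (inv_smul_smul g P).symm
        _ = g⁻¹ • P := by rw [(smul_iff_norm P g).2 hg]
        _ = g⁻¹ • (g • Q) := by rw [e]
        _ = Q := inv_smul_smul g Q)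
    obtain ⟨p, hp, hpQ⟩ := reg_surj hG h9 K hne hgQ
    have hkP : (p⁻¹ * g) • P = P := by
      rw [mul_smul, (smul_iff_norm P g).2 hg]
      exact (smul_iff_norm P _).2 (Subgroup.le_normalizer ((P : Subgroup G).inv_mem hp))
    have hkQ : (p⁻¹ * g) • Q = Q := by rw [mul_smul, ← hpQ, inv_smul_smul]
    have hc := (conj_y hG h9 K P hyP hy hkP).resolve_right (hn _ hkP hkQ)
    rw [Subgroup.mem_centralizer_singleton_iff]
    refine mul_inv_eq_iff_eq_mul.1 ?_
    calc g * y * g⁻¹ = p * ((p⁻¹ * g) * y * (p⁻¹ * g)⁻¹) * p⁻¹ := by group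
      _ = y := by rw [hc, (y_comm hG h9 K P hyP hy hp).eq, mul_inv_cancel_right]
  have := Subgroup.card_le_of_le hle
  rw [(norm_card hG h9 K P).1, cent_special hG K hy] at this
  omega

/-- A generator and an element of the Sylow subgroup in normal form, up to the centre. -/
theorem exists_form {Q : Sylow 3 G} (hne : P ≠ Q) :
    ∃ h a : G, h • P = P ∧ h • Q = Q ∧ h * y * h⁻¹ = y⁻¹ ∧ a ∈ (P : Subgroup G) ∧
      a ∉ Subgroup.zpowers y ∧
      (a * (h * a * h⁻¹) * (h * a * h⁻¹))⁻¹ * (h * (h * a * h⁻¹) * h⁻¹) ∈ Subgroup.zpowers y := by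
  obtain ⟨h, hP, hQ, hhy⟩ := exists_inverting hG h9 K P hyP hy hne
  obtain ⟨a, ha, haY⟩ := exists_outside hG h9 K P hyP hy
  have h8 := stab_pow_eight hG h9 K P hne hP hQ
  have h4 := inverting_pow_four hG h9 K P hyP hy hP h8 hhy
  have h2 : h ^ 2 ≠ 1 := fun e => h4 (by rw [show 4 = 2 * 2 by norm_num, pow_mul, e, one_pow])
  have hh1 : h ≠ 1 := fun e => h2 (by rw [e, one_pow])
  have hi := indep_conj hG h9 K P hyP hy hP h8 h2 ha haY
  set b := h * a * h⁻¹ with hbdef
  have hb : b ∈ (P : Subgroup G) := mem_conj hG h9 K P hyP hy hP ha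
  obtain ⟨hmem, hinj, hsurj, hY⟩ := words hG h9 K P hyP hy ha hb haY hi
  obtain ⟨hzY, hzo, H⟩ := z_spec hG h9 K P hyP hy ha hb haY hi
  set z := (a * b)⁻¹ * (b * a) with hzdef
  obtain ⟨u, hu, hu'⟩ := hsurj _ (mem_conj hG h9 K P hyP hy hP hb)
  have h1 : u / 9 = 1 := by
    have e : word a b z (Model.mul (Model.inv (Model.mul 3 u)) (Model.mul u 3)) = word a b z 2 := by
      rw [← H.word_mul (Model.mul_lt hu (by norm_num)), H.word_inv (Model.mul_lt (by norm_num) hu),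
        ← H.word_mul hu, ← H.word_mul (show 3 < 27 by norm_num), word_three, hu',
        show word a b z 2 = z ^ 2 by simp [word],
        show z ^ 2 = z⁻¹ from eq_inv_of_mul_eq_one_left (by rw [← pow_succ, H.z3]),
        ← inv_Y hG h9 K P hyP hy hhy hzY, hzdef, hbdef]
      simp only [mul_inv_rev, inv_inv, mul_assoc, inv_mul_cancel_left, mul_inv_cancel_left]
    have e' := hinj _ (Model.mul_lt (Model.inv_spec (Model.mul_lt (by norm_num) hu)).1
      (Model.mul_lt hu (by norm_num))) _ (by norm_num) e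
    have h := Model.comm_table
    simp only [List.all_eq_true, List.mem_range] at h
    have h' := h u hu
    rw [e'] at h'
    simpa using h'
  have hq : u / 3 % 3 ≠ 0 := by
    intro hq
    refine no_fix hG h9 K P hyP hy (k := h ^ 2) (by rw [sq, mul_smul, hP, hP])
      (by rw [← pow_mul, show 2 * 8 = 8 * 2 by norm_num, pow_mul, h8, one_pow]) h2 ha haY ?_
    rw [show h ^ 2 * a * (h ^ 2)⁻¹ = h * b * h⁻¹ by rw [hbdef, sq]; group, ← hu', word, h1, hq,
      pow_one, pow_zero, mul_one, inv_mul_cancel_left]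
    exact pow_mem hzY _
  rcases (show u / 3 % 3 = 1 ∨ u / 3 % 3 = 2 by omega) with hq1 | hq2
  swap
  · refine ⟨h, a, hP, hQ, hhy, ha, haY, ?_⟩
    rw [← hbdef, ← hu', word, h1, hq2, pow_one, pow_two, ← mul_assoc a b b, inv_mul_cancel_left]
    exact pow_mem hzY _
  -- multiply the generator by the involution
  have h4P : h ^ 4 • P = P := by simp only [pow_succ, pow_zero, one_mul, mul_smul, hP]
  have hinv := invol_inverts hG h9 K P hyP hy h4P (by rw [← pow_mul]; exact h8) h4 hb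
  have hb' : h ^ 5 * a * (h ^ 5)⁻¹ = b⁻¹ * (b * (h ^ 4 * b * (h ^ 4)⁻¹)) := by
    rw [inv_mul_cancel_left, hbdef, pow_succ h 4]; group
  obtain ⟨s, hs, hs'⟩ : ∃ s < 3, word a b z (6 + s) = h ^ 5 * a * (h ^ 5)⁻¹ := by
    obtain ⟨v, hv, hv'⟩ := hsurj _ (mem_conj hG h9 K P hyP hy
      (by simp only [pow_succ, pow_zero, one_mul, mul_smul, hP] : h ^ 5 • P = P) ha)
    have hm : word a b z (Model.mul (Model.inv 6) v) ∈ Subgroup.zpowers y := by
      rw [← H.word_mul hv, H.word_inv (by norm_num : 6 < 27), hv', hb',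
        show word a b z 6 = b ^ 2 by simp [word],
        show b ^ 2 = b⁻¹ from eq_inv_of_mul_eq_one_left (by rw [← pow_succ, H.b3]),
        inv_mul_cancel_left]
      exact hinv
    have hlt := hY _ (Model.mul_lt (Model.inv_spec (by norm_num : 6 < 27)).1 hv) hm
    refine ⟨Model.mul (Model.inv 6) v, hlt, ?_⟩
    have h := Model.six_table
    simp only [List.all_eq_true, List.mem_range] at h
    have h' := h v hv
    simp only [Bool.or_eq_true, Bool.not_eq_true', Nat.beq_eq] at h'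
    rcases h' with h' | h'
    · rw [← Bool.not_eq_true, Nat.blt_eq] at h'
      omega
    · rw [← h', hv']
  refine ⟨h ^ 5, a, by simp only [pow_succ, pow_zero, one_mul, mul_smul, hP],
    by simp only [pow_succ, pow_zero, one_mul, mul_smul, hQ], ?_, ha, haY, ?_⟩
  · have e2 : h ^ 2 * y * (h ^ 2)⁻¹ = y := by
      calc h ^ 2 * y * (h ^ 2)⁻¹ = h * (h * y * h⁻¹) * h⁻¹ := by rw [sq]; group
        _ = y := by rw [hhy, ← conj_inv, hhy, inv_inv]
    calc h ^ 5 * y * (h ^ 5)⁻¹ = h ^ 2 * (h ^ 2 * (h * y * h⁻¹) * (h ^ 2)⁻¹) * (h ^ 2)⁻¹ := by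
          simp only [pow_succ, pow_zero]; group
      _ = y⁻¹ := by rw [hhy, ← conj_inv, e2, ← conj_inv, e2]
  · have e2 : h ^ 5 * (h ^ 5 * a * (h ^ 5)⁻¹) * (h ^ 5)⁻¹ = h * b * h⁻¹ := by
      calc h ^ 5 * (h ^ 5 * a * (h ^ 5)⁻¹) * (h ^ 5)⁻¹
          = h ^ 8 * (h * (h * a * h⁻¹) * h⁻¹) * (h ^ 8)⁻¹ := by
            simp only [pow_succ, pow_zero]; group
        _ = h * b * h⁻¹ := by rw [h8, one_mul, inv_one, mul_one, hbdef]
    obtain ⟨r, hr, rfl⟩ : ∃ r < 3, u = 12 + r := ⟨u - 12, by omega, by omega⟩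
    have e3 : a * word a b z (6 + s) * word a b z (6 + s) =
        word a b z (Model.mul 9 (Model.mul (6 + s) (6 + s))) := by
      rw [← H.word_mul (Model.mul_lt (by omega : 6 + s < 27) (by omega : 6 + s < 27)),
        ← H.word_mul (by omega : 6 + s < 27), word_nine, mul_assoc]
    rw [e2, ← hu', ← hs', e3,
      ← H.word_inv (Model.mul_lt (by norm_num) (Model.mul_lt (by omega) (by omega))),
      H.word_mul hu]
    have h := Model.flip_table
    simp only [List.all_eq_true, List.mem_range, Nat.blt_eq] at h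
    have h' := h r hr s hs
    rw [word, show _ / 9 = 0 from Nat.div_eq_of_lt (by omega), pow_zero, one_mul,
      show _ / 3 % 3 = 0 from by rw [Nat.div_eq_of_lt h'], pow_zero, one_mul]
    exact pow_mem hzY _

omit hyP hy in
include K in
theorem exists_frame : Nonempty (Frame G) := by
  classical
  obtain ⟨P⟩ : Nonempty (Sylow 3 G) := inferInstance
  haveI := Fintype.ofFinite (Sylow 3 G)
  obtain ⟨Q, hQ⟩ := Fintype.exists_ne_of_one_lt_card (by
    rw [← Nat.card_eq_fintype_card, (norm_card hG h9 K P).2]; norm_num) P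
  have hne : P ≠ Q := hQ.symm
  obtain ⟨y, hyP, hy, -⟩ := special_mem hG h9 K P
  obtain ⟨h, a₀, hP, hQ', hhy, ha₀, ha₀Y, hc⟩ := exists_form hG h9 K P hyP hy hne
  set b₀ := h * a₀ * h⁻¹ with hb₀
  set c := (a₀ * b₀ * b₀)⁻¹ * (h * b₀ * h⁻¹) with hcdef
  have hb₀P : b₀ ∈ (P : Subgroup G) := mem_conj hG h9 K P hyP hy hP ha₀
  have hcb : Commute c b₀ := central_Y hG h9 K P hyP hy hb₀P hc
  set a := a₀ * c with hadef
  set b := h * a * h⁻¹ with hbdef
  have haP : a ∈ (P : Subgroup G) := mul_mem ha₀ (Y_le hG h9 K P hyP hy hc)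
  have haY : a ∉ Subgroup.zpowers y := fun hm =>
    ha₀Y (((Subgroup.zpowers y).mul_mem_cancel_right hc).1 hm)
  have h8 := stab_pow_eight hG h9 K P hne hP hQ'
  have h4 := inverting_pow_four hG h9 K P hyP hy hP h8 hhy
  have h2 : h ^ 2 ≠ 1 := fun e => h4 (by rw [show 4 = 2 * 2 by norm_num, pow_mul, e, one_pow])
  have hbP : b ∈ (P : Subgroup G) := mem_conj hG h9 K P hyP hy hP haP
  have hi := indep_conj hG h9 K P hyP hy hP h8 h2 haP haY
  obtain ⟨hmem, hinj, hsurj, -⟩ := words hG h9 K P hyP hy haP hbP haY hi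
  obtain ⟨hzY, -, H⟩ := z_spec hG h9 K P hyP hy haP hbP haY hi
  have hc3 : c * c * c = 1 := by
    have hc1 := Y_le hG h9 K P hyP hy hc
    rcases eq_or_ne c 1 with e | e
    · rw [e, one_mul, one_mul]
    · have := pow_orderOf_eq_one c
      rw [order_three_of_mem h9 (sylow_three hG P) hc1 e, pow_succ, pow_succ, pow_one] at this
      exact this
  have hbb : b = b₀ * c⁻¹ := by
    rw [hbdef, hadef, hb₀, ← inv_Y hG h9 K P hyP hy hhy hc]; group
  have hord : orderOf h = 8 := orderOf_eq_prime_pow (p := 2) (n := 2) h4 h8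
  refine ⟨⟨P, Q, a, b, (a * b)⁻¹ * (b * a), h, hne, H, hbdef.symm, ?_,
    inv_Y hG h9 K P hyP hy hhy hzY, h8, hsurj, hinj, hmem, hP, hQ', ?_,
    (norm_card hG h9 K P).2, fun p hp q hq => reg_inj hG h9 K hne hp hq,
    fun R hR => reg_surj hG h9 K hne hR⟩⟩
  · have e1 : h * b * h⁻¹ = h * b₀ * h⁻¹ * c := by
      rw [hbb, show h * (b₀ * c⁻¹) * h⁻¹ = h * b₀ * h⁻¹ * (h * c * h⁻¹)⁻¹ by group,
        inv_Y hG h9 K P hyP hy hhy hc, inv_inv]
    have e0 : h * b₀ * h⁻¹ = a₀ * b₀ * b₀ * c := by rw [hcdef, mul_inv_cancel_left]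
    have hinv : c * c = c⁻¹ := eq_inv_of_mul_eq_one_left hc3
    calc h * b * h⁻¹ = a₀ * b₀ * b₀ * (c * c) := by rw [e1, e0, mul_assoc]
      _ = a₀ * b₀ * b₀ * c⁻¹ := by rw [hinv]
      _ = a₀ * (c * (b₀ * c⁻¹)) * (b₀ * c⁻¹) := by
          rw [← mul_assoc c, hcb.eq, mul_inv_cancel_right, mul_assoc (a₀ * b₀) b₀ c⁻¹]
      _ = a * b * b := by rw [hbb, hadef]; simp only [mul_assoc]
  · intro g hgP hgQ
    set H' := Subgroup.normalizer ((P : Subgroup G) : Set G) ⊓
      Subgroup.normalizer ((Q : Subgroup G) : Set G) with hH'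
    have hhH : h ∈ H' := ⟨(smul_iff_norm P h).1 hP, (smul_iff_norm Q h).1 hQ'⟩
    have heq : Subgroup.zpowers h = H' := Subgroup.eq_of_le_of_card_ge
      (Subgroup.zpowers_le.2 hhH) (by rw [stab_card hG h9 K P hne, Nat.card_zpowers, hord])
    have hg : g ∈ Subgroup.zpowers h :=
      heq ▸ ⟨(smul_iff_norm P g).1 hgP, (smul_iff_norm Q g).1 hgQ⟩
    rw [(isOfFinOrder_of_finite h).mem_zpowers_iff_mem_range_orderOf, hord, Finset.mem_image] at hg
    obtain ⟨m, hm, rfl⟩ := hg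
    exact ⟨m, Finset.mem_range.1 hm, rfl⟩

end Cfsg.Agent.Recog.U33U
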