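import Mathlib
import Cfsg.Agent.Lib.Recog.U33U.FrameExists

/-!
Simple groups of order 6048 without elements of order nine as permutations of the 28 points of
the model.
-/

set_option autoImplicit false
set_option linter.style.haveILetI false

namespace Cfsg.Agent.Recog.U33U

open scoped Pointwise

theorem Model.hom_table : ((List.range 27).all fun u => Nat.blt (Model.hp 1 u) 27 &&
    Nat.beq (Model.mul (Model.mul (9 * (u / 9)) (3 * (u / 3 % 3))) (u % 3)) u &&
    (List.range 27).all fun v =>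
      Nat.beq (Model.hp 1 (Model.mul u v)) (Model.mul (Model.hp 1 u) (Model.hp 1 v))) = true := by
  decide +kernel

theorem Model.hom_spec {u : ℕ} (hu : u < 27) : Model.hp 1 u < 27 ∧
    Model.mul (Model.mul (9 * (u / 9)) (3 * (u / 3 % 3))) (u % 3) = u ∧
    ∀ v < 27, Model.hp 1 (Model.mul u v) = Model.mul (Model.hp 1 u) (Model.hp 1 v) := by
  have h := Model.hom_table
  simp only [List.all_eq_true, List.mem_range, Bool.and_eq_true, Nat.blt_eq] at h
  obtain ⟨⟨h1, h2⟩, h3⟩ := h u hu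
  exact ⟨h1, Nat.eq_of_beq_eq_true h2, fun v hv => Nat.eq_of_beq_eq_true (h3 v hv)⟩

theorem Model.mul_lt_28 {u i : ℕ} (hu : u < 27) (hi : i < 28) : Model.mul u i < 28 := by
  rcases Nat.lt_or_ge i 27 with h | h
  · exact Nat.lt_succ_of_lt (Model.mul_lt hu h)
  · obtain rfl : i = 27 := by omega
    rw [(Model.inv_spec hu).2.2.2.2]
    norm_num

universe u

variable {G : Type u} [Group G] (F : Frame G)

namespace Frame

/-- The element with number `n`. -/
def w (n : ℕ) : G := word F.a F.b F.z n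

/-- The point with number `i`. -/
noncomputable def pt (i : ℕ) : Sylow 3 G := if i < 27 then F.w i • F.Q else F.P

theorem pt_last : F.pt 27 = F.P := by simp [pt]

theorem pt_zero : F.pt 0 = F.Q := by simp [pt, w, word_zero]

theorem pt_lt {i : ℕ} (hi : i < 27) : F.pt i = F.w i • F.Q := by simp [pt, hi]

theorem w_mul {u v : ℕ} (hv : v < 27) : F.w u * F.w v = F.w (Model.mul u v) := F.heis.word_mul hv

theorem w_fix (n : ℕ) : F.w n • F.P = F.P :=
  (smul_iff_norm' F.P (F.w n)).2 (Subgroup.le_normalizer (F.wmem n))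
where
  smul_iff_norm' (P : Sylow 3 G) (g : G) :
      g • P = P ↔ g ∈ Subgroup.normalizer ((P : Subgroup G) : Set G) :=
    Sylow.smul_eq_iff_mem_normalizer

theorem pt_ne {i : ℕ} (hi : i < 27) : F.pt i ≠ F.P := by
  rw [F.pt_lt hi]
  intro e
  refine F.ne ?_
  calc F.P = (F.w i)⁻¹ • (F.w i • F.P) := (inv_smul_smul _ _).symm
    _ = (F.w i)⁻¹ • (F.w i • F.Q) := by rw [F.w_fix, e]
    _ = F.Q := inv_smul_smul _ _

theorem pt_inj {i j : ℕ} (hi : i < 28) (hj : j < 28) (h : F.pt i = F.pt j) : i = j := by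
  rcases Nat.lt_or_ge i 27 with hi' | hi' <;> rcases Nat.lt_or_ge j 27 with hj' | hj'
  · rw [F.pt_lt hi', F.pt_lt hj'] at h
    exact F.inj i hi' j hj' (F.rinj _ (F.wmem i) _ (F.wmem j) h)
  · obtain rfl : j = 27 := by omega
    exact absurd (h.trans F.pt_last) (F.pt_ne hi')
  · obtain rfl : i = 27 := by omega
    exact absurd (h.symm.trans F.pt_last) (F.pt_ne hj')
  · omega

theorem pt_surj (R : Sylow 3 G) : ∃ i < 28, F.pt i = R := by
  by_cases h : R = F.P
  · exact ⟨27, by norm_num, F.pt_last.trans h.symm⟩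
  · obtain ⟨p, hp, hpR⟩ := F.rsurj R h
    obtain ⟨n, hn, rfl⟩ := F.surj p hp
    exact ⟨n, by omega, (F.pt_lt hn).trans hpR⟩

/-- The action on the numbers of the points. -/
noncomputable def act (g : G) (i : ℕ) : ℕ := (F.pt_surj (g • F.pt i)).choose

theorem act_lt (g : G) (i : ℕ) : F.act g i < 28 := (F.pt_surj (g • F.pt i)).choose_spec.1

theorem pt_act (g : G) (i : ℕ) : F.pt (F.act g i) = g • F.pt i :=
  (F.pt_surj (g • F.pt i)).choose_spec.2

theorem act_eq {g : G} {i j : ℕ} (hj : j < 28) (h : g • F.pt i = F.pt j) : F.act g i = j :=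
  F.pt_inj (F.act_lt g i) hj ((F.pt_act g i).trans h)

theorem act_mul (g g' : G) (i : ℕ) : F.act (g * g') i = F.act g (F.act g' i) :=
  F.act_eq (F.act_lt _ _) (by rw [pt_act, pt_act, mul_smul])

theorem act_one {i : ℕ} (hi : i < 28) : F.act 1 i = i := F.act_eq hi (one_smul _ _)

theorem act_word {n i : ℕ} (hn : n < 27) (hi : i < 28) : F.act (F.w n) i = Model.mul n i := by
  refine F.act_eq (Model.mul_lt_28 hn hi) ?_
  rcases Nat.lt_or_ge i 27 with hi' | hi'
  · rw [F.pt_lt hi', F.pt_lt (Model.mul_lt hn hi'), ← mul_smul, F.w_mul hi']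
  · obtain rfl : i = 27 := by omega
    rw [(Model.inv_spec hn).2.2.2.2, pt_last, w_fix]

theorem conj_h {n : ℕ} (hn : n < 27) : F.h * F.w n * F.h⁻¹ = F.w (Model.hp 1 n) := by
  have hm : ∀ u < 27, ∀ v < 27, F.h * F.w u * F.h⁻¹ = F.w (Model.hp 1 u) →
      F.h * F.w v * F.h⁻¹ = F.w (Model.hp 1 v) →
      F.h * F.w (Model.mul u v) * F.h⁻¹ = F.w (Model.hp 1 (Model.mul u v)) := by
    intro u hu v hv h1 h2
    rw [(Model.hom_spec hu).2.2 v hv, ← F.w_mul (Model.hom_spec hv).1, ← h1, ← h2, ← F.w_mul hv]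
    group
  have h0 : F.h * F.w 0 * F.h⁻¹ = F.w (Model.hp 1 0) := by
    rw [show Model.hp 1 0 = 0 by decide +kernel, w, word_zero, mul_one, mul_inv_cancel]
  have h9 : F.h * F.w 9 * F.h⁻¹ = F.w (Model.hp 1 9) := by
    rw [Model.hp_gen.1, w, w, word_nine, word_three, F.ha]
  have h3 : F.h * F.w 3 * F.h⁻¹ = F.w (Model.hp 1 3) := by
    rw [Model.hp_gen.2.1, ← F.w_mul (Model.mul_lt (by norm_num) (by norm_num)),
      ← F.w_mul (by norm_num), w, w, word_three, word_nine, F.hb, mul_assoc]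
  have h1 : F.h * F.w 1 * F.h⁻¹ = F.w (Model.hp 1 1) := by
    rw [Model.hp_gen.2.2, w, w, word_one, F.hz, show word F.a F.b F.z 2 = F.z ^ 2 by simp [word]]
    exact (eq_inv_of_mul_eq_one_left (by rw [← pow_succ, F.heis.z3])).symm
  have hd : ∀ k < 3, (k = 0 ∨ k = 1 ∨ k = 2) := fun k hk => by omega
  have hA : ∀ k < 3, F.h * F.w (9 * k) * F.h⁻¹ = F.w (Model.hp 1 (9 * k)) := fun k hk => by
    rcases hd k hk with rfl | rfl | rfl
    · exact h0
    · exact h9
    · have := hm 9 (by norm_num) 9 (by norm_num) h9 h9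
      rwa [show Model.mul 9 9 = 18 by decide +kernel] at this
  have hB : ∀ k < 3, F.h * F.w (3 * k) * F.h⁻¹ = F.w (Model.hp 1 (3 * k)) := fun k hk => by
    rcases hd k hk with rfl | rfl | rfl
    · exact h0
    · exact h3
    · have := hm 3 (by norm_num) 3 (by norm_num) h3 h3
      rwa [show Model.mul 3 3 = 6 by decide +kernel] at this
  have hC : ∀ k < 3, F.h * F.w k * F.h⁻¹ = F.w (Model.hp 1 k) := fun k hk => by
    rcases hd k hk with rfl | rfl | rfl
    · exact h0
    · exact h1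
    · have := hm 1 (by norm_num) 1 (by norm_num) h1 h1
      rwa [show Model.mul 1 1 = 2 by decide +kernel] at this
  have := hm _ (Model.mul_lt (u := 9 * (n / 9)) (v := 3 * (n / 3 % 3)) (by omega) (by omega)) _
    (by omega : n % 3 < 27)
    (hm _ (by omega) _ (by omega) (hA _ (by omega)) (hB _ (by omega))) (hC _ (by omega))
  rwa [(Model.hom_spec hn).2.1] at this

theorem act_h {i : ℕ} (hi : i < 28) : F.act F.h i = Model.hp 1 i := by
  rcases Nat.lt_or_ge i 27 with hi' | hi'
  · refine F.act_eq (Nat.lt_succ_of_lt (Model.hom_spec hi').1) ?_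
    rw [F.pt_lt hi', F.pt_lt (Model.hom_spec hi').1, ← mul_smul, ← F.conj_h hi', mul_smul (_ * _),
      inv_smul_eq_iff.2 F.hQ.symm]
  · obtain rfl : i = 27 := by omega
    rw [show Model.hp 1 27 = 27 by decide +kernel]
    exact F.act_eq (by norm_num) (by rw [pt_last, F.hP])

theorem act_pow (m : ℕ) {i : ℕ} (hi : i < 28) : F.act (F.h ^ m) i = Model.hp m i := by
  have key : ∀ m, m ≤ 7 → F.act (F.h ^ m) i = Model.hp m i := by
    intro m
    induction m with
    | zero =>
      intro _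
      have h := Model.hp_zero
      simp only [List.all_eq_true, List.mem_range] at h
      rw [pow_zero, F.act_one hi, Nat.eq_of_beq_eq_true (h i hi)]
    | succ m ih =>
      intro hm
      have h := Model.hp_table
      simp only [List.all_eq_true, List.mem_range, Bool.and_eq_true] at h
      rw [pow_succ', act_mul, ih (by omega), F.act_h (by rw [← ih (by omega)]; exact F.act_lt _ _),
        Nat.eq_of_beq_eq_true ((h m (by omega)).2 i hi)]
  have e : Model.hp (m % 8) i = Model.hp m i := by rw [Model.hp, Model.hp, Nat.mod_mod]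
  rw [← e, ← key (m % 8) (by omega), ← pow_eq_pow_mod _ F.h8]

theorem stab_form {g : G} (hg : g • F.P = F.P) : ∃ n < 27, ∃ m < 8, g = F.w n * F.h ^ m := by
  have hgQ : g • F.Q ≠ F.P := fun e => F.ne (by
    calc F.P = g⁻¹ • (g • F.P) := (inv_smul_smul g F.P).symm
      _ = g⁻¹ • (g • F.Q) := by rw [hg, e]
      _ = F.Q := inv_smul_smul g F.Q)
  obtain ⟨p, hp, hpQ⟩ := F.rsurj _ hgQ
  obtain ⟨n, hn, rfl⟩ := F.surj p hp
  have h1 : ((F.w n)⁻¹ * g) • F.P = F.P := by rw [mul_smul, hg, inv_smul_eq_iff, F.w_fix]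
  have h2 : ((F.w n)⁻¹ * g) • F.Q = F.Q := by rw [mul_smul, inv_smul_eq_iff]; exact hpQ.symm
  obtain ⟨m, hm, hm'⟩ := F.stab _ h1 h2
  exact ⟨n, hn, m, hm, by rw [← hm', mul_inv_cancel_left]⟩

variable [IsSimpleGroup G]

theorem act_inj {g g' : G} (h : ∀ i < 28, F.act g i = F.act g' i) : g = g' := by
  have hall : ∀ R : Sylow 3 G, (g⁻¹ * g') • R = R := fun R => by
    obtain ⟨i, hi, rfl⟩ := F.pt_surj R
    rw [mul_smul, inv_smul_eq_iff, ← pt_act, ← pt_act, h i hi]
  rcases IsSimpleGroup.eq_bot_or_eq_top_of_normal (MulAction.toPermHom G (Sylow 3 G)).ker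
    inferInstance with hk | hk
  · have : g⁻¹ * g' ∈ (MulAction.toPermHom G (Sylow 3 G)).ker := by
      rw [MonoidHom.mem_ker]
      exact Equiv.ext hall
    rw [hk, Subgroup.mem_bot, inv_mul_eq_one] at this
    exact this
  · exfalso
    have hm : F.w 1 ∈ (MulAction.toPermHom G (Sylow 3 G)).ker := hk ▸ Subgroup.mem_top _
    rw [MonoidHom.mem_ker] at hm
    have := congrArg (fun e : Equiv.Perm (Sylow 3 G) => e F.Q) hm
    have h1 : F.pt 1 = F.pt 0 := by rw [F.pt_lt (by norm_num), pt_zero]; exact this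
    exact absurd (F.pt_inj (by norm_num) (by norm_num) h1) (by norm_num)

end Frame

end Cfsg.Agent.Recog.U33U
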