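import Mathlib
import Cfsg.Agent.Lib.Recog.U33U.Points

/-!
Simple groups of order 6048 without elements of order nine: the model is the only one.
-/

set_option autoImplicit false
set_option linter.style.haveILetI false
set_option linter.unusedSectionVars false

namespace Cfsg.Agent.Recog.U33U

open scoped Pointwise

theorem Model.hp_four : Model.hp 4 3 ≠ 3 := by decide +kernel

theorem Model.four_table : ((List.range 28).all fun i => Nat.blt (Model.hp 4 i) 28 &&
    Nat.beq (Model.hp 4 (Model.hp 4 i)) i) = true := by decide +kernel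

/-- The permutations of the model. -/
def modelGen : Set (Equiv.Perm (Fin 28)) :=
  {σ | (∃ n < 27, ∀ i, (σ i : ℕ) = Model.mul n i) ∨ (∀ i, (σ i : ℕ) = Model.hp 1 i) ∨
    (∀ i, (σ i : ℕ) = Model.w0 i)}

/-- The model group. -/
def modelGroup : Subgroup (Equiv.Perm (Fin 28)) := Subgroup.closure modelGen

universe u

variable {G : Type u} [Group G] [Finite G] [IsSimpleGroup G] (F : Frame G)

namespace Frame

theorem h_four : F.h ^ 4 ≠ 1 := fun e => Model.hp_four (by
  rw [← F.act_pow 4 (by norm_num), e, F.act_one (by norm_num)])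

theorem exists_moves : ∃ g : G, (g * F.h ^ 4 * g⁻¹) • F.P ≠ F.P := by
  by_contra hn
  push Not at hn
  have hle : Subgroup.normalClosure ({F.h ^ 4} : Set G) ≤ MulAction.stabilizer G F.P := by
    rw [Subgroup.normalClosure, Subgroup.closure_le]
    intro x hx
    obtain ⟨t, ht, htx⟩ := Group.mem_conjugatesOfSet_iff.1 hx
    obtain rfl := Set.mem_singleton_iff.1 ht
    obtain ⟨c, rfl⟩ := isConj_iff.1 htx
    exact MulAction.mem_stabilizer_iff.2 (hn c)
  rcases IsSimpleGroup.eq_bot_or_eq_top_of_normal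
    (Subgroup.normalClosure ({F.h ^ 4} : Set G)) Subgroup.normalClosure_normal with h | h
  · exact F.h_four ((Subgroup.mem_bot).1 (h ▸ Subgroup.subset_normalClosure (Set.mem_singleton _)))
  · haveI : Fact (Nat.Prime 3) := ⟨Nat.prime_three⟩
    obtain ⟨g, hg⟩ := MulAction.exists_smul_eq G F.P F.Q
    rw [h] at hle
    exact F.ne ((MulAction.mem_stabilizer_iff.1 (hle (Subgroup.mem_top g))).symm.trans hg)

/-- An involution interchanging the two base points. -/
theorem exists_swap : ∃ W : G, W ^ 2 = 1 ∧ W • F.P = F.Q ∧ W • F.Q = F.P := by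
  obtain ⟨g, hg⟩ := F.exists_moves
  set u := g * F.h ^ 4 * g⁻¹ with hu
  have hu2 : u * u = 1 := by
    calc u * u = g * F.h ^ 8 * g⁻¹ := by rw [hu]; group
      _ = 1 := by rw [F.h8, mul_one, mul_inv_cancel]
  obtain ⟨p, hp, hpQ⟩ := F.rsurj (u • F.P) hg
  obtain ⟨n, hn, rfl⟩ := F.surj p hp
  have hfix := F.w_fix n
  refine ⟨(F.w n)⁻¹ * u * F.w n, ?_, ?_, ?_⟩
  · rw [sq]
    calc (F.w n)⁻¹ * u * F.w n * ((F.w n)⁻¹ * u * F.w n) = (F.w n)⁻¹ * (u * u) * F.w n := by group
      _ = 1 := by rw [hu2, mul_one, inv_mul_cancel]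
  · rw [mul_smul, hfix, mul_smul, inv_smul_eq_iff]
    exact hpQ.symm
  · have hpQ' : F.w n • F.Q = u • F.P := hpQ
    rw [mul_smul, hpQ', mul_smul, smul_smul u u, hu2, one_smul, inv_smul_eq_iff, hfix]

theorem act_P {g : G} (h : F.act g 27 = 27) : g • F.P = F.P := by
  have := F.pt_act g 27
  rw [h, pt_last] at this
  exact this.symm

theorem stab_inStab {g : G} (h : F.act g 27 = 27) (f : ℕ → ℕ) (h0 : f 0 = F.act g 0)
    (h3 : f 3 = F.act g 3) (h9 : f 9 = F.act g 9) : Model.inStab f = true := by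
  obtain ⟨n, hn, m, hm, rfl⟩ := F.stab_form (F.act_P h)
  have e : ∀ i, i < 28 → F.act (F.w n * F.h ^ m) i = Model.mul n (Model.hp m i) := fun i hi => by
    rw [act_mul, F.act_pow m hi, F.act_word hn (by rw [← F.act_pow m hi]; exact F.act_lt _ _)]
  have hzero : Model.hp m 0 = 0 := by
    have h := Model.hp_table
    simp only [List.all_eq_true, List.mem_range, Bool.and_eq_true] at h
    exact Nat.eq_of_beq_eq_true (h m hm).1.2
  have hf0 : f 0 = n := by rw [h0, e 0 (by norm_num), hzero, (Model.inv_spec hn).2.2.1]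
  simp only [Model.inStab, List.any_eq_true, List.mem_range, Bool.and_eq_true, Nat.beq_eq]
  exact ⟨m, hm, by rw [hf0, h3, e 3 (by norm_num)], by rw [hf0, h9, e 9 (by norm_num)]⟩

/-- Some element acts as the involution of the model. -/
theorem exists_w0 : ∃ g : G, ∀ i < 28, F.act g i = Model.w0 i := by
  obtain ⟨W, hW2, hWP, hWQ⟩ := F.exists_swap
  have hW27 : F.act W 27 = 0 := F.act_eq (by norm_num) (by rw [pt_last, pt_zero, hWP])
  have hW0 : F.act W 0 = 27 := F.act_eq (by norm_num) (by rw [pt_last, pt_zero, hWQ])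
  have hWW : ∀ i < 28, F.act W (F.act W i) = i := fun i hi => by
    rw [← act_mul, ← sq, hW2, F.act_one hi]
  have hWi : W⁻¹ = W := inv_eq_of_mul_eq_one_right (by rw [← sq, hW2])
  obtain ⟨k, hk, hk'⟩ := F.stab (W * F.h * W⁻¹)
    (by rw [mul_smul, mul_smul, hWi, hWP, F.hQ, hWQ])
    (by rw [mul_smul, mul_smul, hWi, hWQ, F.hP, hWP])
  have hodd : k % 2 = 1 := by
    rcases Nat.mod_two_eq_zero_or_one k with h | h
    · exfalso
      refine F.h_four ?_
      have h4 : (W * F.h * W⁻¹) ^ 4 = 1 := by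
        rw [hk', ← pow_mul, show k * 4 = 8 * (k / 2) by omega, pow_mul, F.h8, one_pow]
      rw [conj_pow] at h4
      calc F.h ^ 4 = W⁻¹ * (W * F.h ^ 4 * W⁻¹) * W := by group
        _ = 1 := by rw [h4, mul_one, inv_mul_cancel]
    · exact h
  have hcomm : ∀ m : ℕ, ∀ i < 28, F.act W (Model.hp m i) = Model.hp (k * m) (F.act W i) := by
    intro m i hi
    have e : W * F.h ^ m = F.h ^ (k * m) * W := by
      rw [pow_mul, ← hk', conj_pow, inv_mul_cancel_right]
    rw [← F.act_pow m hi, ← act_mul, e, act_mul, F.act_pow _ (F.act_lt _ _)]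
  have hW_lt : ∀ r, 1 ≤ r → r < 27 → 1 ≤ F.act W r ∧ F.act W r < 27 := by
    intro r h1 h2
    refine ⟨Nat.one_le_iff_ne_zero.2 fun e => ?_, ?_⟩
    · have := hWW r (by omega)
      rw [e, hW0] at this
      omega
    · rcases Nat.lt_or_ge (F.act W r) 27 with h | h
      · exact h
      · exfalso
        have := hWW r (by omega)
        rw [show F.act W r = 27 by have := F.act_lt W r; omega, hW27] at this
        omega
  set a1 := F.act W 1 with ha1
  set a3 := F.act W 3 with ha3
  set a4 := F.act W 4 with ha4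
  set a5 := F.act W 5 with ha5
  have hperm : ∀ j < 28, ∀ x1 x3 x4 x5,
      (1 ≤ j ∧ j < 27 → (Model.rep j = 1 → x1 = a1) ∧ (Model.rep j = 3 → x3 = a3) ∧
        (Model.rep j = 4 → x4 = a4) ∧ (Model.rep j = 5 → x5 = a5)) →
      Model.perm k x1 x3 x4 x5 j = F.act W j := by
    intro j hj x1 x3 x4 x5 hx
    rcases Nat.lt_or_ge j 27 with hj' | hj'
    swap
    · obtain rfl : j = 27 := by omega
      rw [hW27]; rfl
    rcases Nat.eq_zero_or_pos j with rfl | hpos
    · rw [hW0]; rfl
    have h := Model.orbit_table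
    simp only [List.all_eq_true, List.mem_range, Bool.and_eq_true, Bool.or_eq_true, Nat.beq_eq,
      Nat.blt_eq] at h
    obtain ⟨⟨hrep, hgen⟩, -⟩ := h (j - 1) (by omega)
    rw [show j - 1 + 1 = j by omega] at hrep hgen
    obtain ⟨g1, g3, g4, g5⟩ := hx ⟨hpos, hj'⟩
    have hj27 : Nat.beq j 27 = false := by
      rw [Bool.eq_false_iff]
      simp only [ne_eq, Nat.beq_eq]
      omega
    have hj0 : Nat.beq j 0 = false := by
      rw [Bool.eq_false_iff]
      simp only [ne_eq, Nat.beq_eq]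
      omega
    have hrlt : Model.rep j < 28 := by rcases hrep with ((h | h) | h) | h <;> omega
    have e := hcomm (Model.ex j) (Model.rep j) hrlt
    rw [hgen] at e
    rw [e, Model.perm, hj27, hj0, cond_false, cond_false]
    congr 1
    rcases hrep with ((h | h) | h) | h <;> rw [h]
    · rw [g1 h, ha1]; rfl
    · rw [g3 h, ha3]; rfl
    · rw [g4 h, ha4]; rfl
    · rw [g5 h, ha5]; rfl
  have hWperm : ∀ j < 28, Model.perm k a1 a3 a4 a5 j = F.act W j := fun j hj =>
    hperm j hj a1 a3 a4 a5 fun _ => ⟨fun _ => rfl, fun _ => rfl, fun _ => rfl, fun _ => rfl⟩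
  have hp1 : Model.pass1 k a1 = true := by
    have h21 := hcomm 2 1 (by norm_num)
    rw [Model.fixed_one, ← ha1, Nat.mul_comm k 2] at h21
    simp only [Model.pass1, Bool.and_eq_true, Bool.or_eq_true, Bool.not_eq_true', Nat.beq_eq]
    refine ⟨h21.symm, ?_⟩
    by_cases hr : Model.rep a1 = 1
    · right
      rw [hperm a1 (F.act_lt _ _) a1 0 0 0 fun _ => ⟨fun _ => rfl, by omega, by omega, by omega⟩,
        ha1, hWW 1 (by norm_num)]
    · left
      rw [Bool.eq_false_iff]
      simpa only [ne_eq, Nat.beq_eq] using hr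
  have hble : ∀ {x y : ℕ}, ¬ x ≤ y → Nat.ble x y = false := fun {x y} h => by
    rw [Bool.eq_false_iff]
    simpa only [ne_eq, Nat.ble_eq] using h
  have hp3 : Model.pass3 k a1 a3 = true := by
    simp only [Model.pass3, Bool.or_eq_true, Bool.not_eq_true', Nat.beq_eq]
    by_cases hr : Model.rep a3 ≤ 3
    · right
      rw [hperm a3 (F.act_lt _ _) a1 a3 0 0 fun _ => ⟨fun _ => rfl, fun _ => rfl, by omega, by omega⟩,
        ha3, hWW 3 (by norm_num)]
    · exact Or.inl (hble hr)
  have hp4 : Model.pass4 k a1 a3 a4 = true := by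
    simp only [Model.pass4, Bool.and_eq_true, Bool.or_eq_true, Bool.not_eq_true', Nat.beq_eq]
    constructor
    · by_cases hr : Model.rep a3 ≤ 4
      · right
        rw [hperm a3 (F.act_lt _ _) a1 a3 a4 0
          fun _ => ⟨fun _ => rfl, fun _ => rfl, fun _ => rfl, by omega⟩, ha3, hWW 3 (by norm_num)]
      · exact Or.inl (hble hr)
    · by_cases hr : Model.rep a4 ≤ 4
      · right
        rw [hperm a4 (F.act_lt _ _) a1 a3 a4 0
          fun _ => ⟨fun _ => rfl, fun _ => rfl, fun _ => rfl, by omega⟩, ha4, hWW 4 (by norm_num)]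
      · exact Or.inl (hble hr)
  have hclosed : ∀ r, 1 ≤ r → r < 27 →
      Model.closedAt (Model.perm k a1 a3 a4 a5) r = true := by
    intro r hr1 hr
    set s := Model.inv (F.act W r) with hs
    have hWr := (hW_lt r hr1 hr).2
    have hs' := Model.inv_spec hWr
    have hf : ∀ i < 28, Model.comp (Model.perm k a1 a3 a4 a5) r i =
        F.act (W * F.w s * W * F.w r * W) i := by
      intro i hi
      rw [Model.comp, hWperm r (by omega), hWperm i hi, ← hs,
        hWperm (Model.mul r (F.act W i)) (Model.mul_lt_28 hr (F.act_lt _ _)),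
        hWperm _ (Model.mul_lt_28 hs'.1 (F.act_lt _ _)), act_mul, act_mul, act_mul, act_mul,
        F.act_word hr (F.act_lt _ _), F.act_word hs'.1 (F.act_lt _ _)]
    refine F.stab_inStab (g := W * F.w s * W * F.w r * W) ?_ _ (hf 0 (by norm_num))
      (hf 3 (by norm_num)) (hf 9 (by norm_num))
    rw [act_mul, act_mul, act_mul, act_mul, hW27, F.act_word hr (by norm_num),
      (Model.inv_spec hr).2.2.1, F.act_word hs'.1 (F.act_lt _ _), hs'.2.1, hW0]
  have hp5 : Model.pass5 k a1 a3 a4 a5 = true := by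
    simp only [Model.pass5, Model.closed, Bool.and_eq_true, Nat.beq_eq]
    refine ⟨⟨⟨?_, ?_⟩, ?_⟩, ((⟨⟨?_, ?_⟩, ?_⟩ : (_ ∧ _) ∧ _)), ?_⟩
    · rw [hWperm a3 (F.act_lt _ _), ha3, hWW 3 (by norm_num)]
    · rw [hWperm a4 (F.act_lt _ _), ha4, hWW 4 (by norm_num)]
    · rw [hWperm a5 (F.act_lt _ _), ha5, hWW 5 (by norm_num)]
    all_goals exact hclosed _ (by norm_num) (by norm_num)
  have hs : Model.search k = true := by
    rcases (show k = 1 ∨ k = 3 ∨ k = 5 ∨ k = 7 by omega) with rfl | rfl | rfl | rfl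
    exacts [Model.search_one, Model.search_three, Model.search_five, Model.search_seven]
  have b1 := hW_lt 1 (by norm_num) (by norm_num)
  have b3 := hW_lt 3 (by norm_num) (by norm_num)
  have b4 := hW_lt 4 (by norm_num) (by norm_num)
  have b5 := hW_lt 5 (by norm_num) (by norm_num)
  rw [← ha1] at b1; rw [← ha3] at b3; rw [← ha4] at b4; rw [← ha5] at b5
  simp only [Model.search, List.all_eq_true, List.mem_range, Bool.or_eq_true] at hs
  have e1 : a1 - 1 + 1 = a1 := by omega
  have e3 : a3 - 1 + 1 = a3 := by omega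
  have e4 : a4 - 1 + 1 = a4 := by omega
  have e5 : a5 - 1 + 1 = a5 := by omega
  have h := (hs (a1 - 1) (by omega)).resolve_left (by rw [e1, hp1]; decide) (a3 - 1) (by omega)
  rw [e1, e3] at h
  have h' := h.resolve_left (by rw [hp3]; decide) (a4 - 1) (by omega)
  rw [e4] at h'
  have h'' := h'.resolve_left (by rw [hp4]; decide) (a5 - 1) (by omega)
  rw [e5] at h''
  have hsol := h''.resolve_left (by rw [hp5]; decide)
  simp only [Model.isSol, Bool.and_eq_true, Bool.or_eq_true, Nat.beq_eq] at hsol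
  obtain ⟨⟨ek, e1'⟩, ⟨⟨u3, u4⟩, u5⟩ | ⟨⟨u3, u4⟩, u5⟩⟩ := hsol
  · refine ⟨W, fun i hi => ?_⟩
    rw [← hWperm i hi, ek, e1', u3, u4, u5]
    rfl
  · refine ⟨W * F.h ^ 4, fun i hi => ?_⟩
    have hfour := Model.four_table
    simp only [List.all_eq_true, List.mem_range, Bool.and_eq_true, Nat.beq_eq, Nat.blt_eq] at hfour
    have hsol' := Model.sol_table
    simp only [List.all_eq_true, List.mem_range, Nat.beq_eq] at hsol'
    rw [act_mul, F.act_pow 4 hi, ← hWperm _ (hfour i hi).1, ek, e1', u3, u4, u5,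
      hsol' _ (hfour i hi).1, (hfour i hi).2]

/-- The representation on the 28 points. -/
noncomputable def rep : G →* Equiv.Perm (Fin 28) where
  toFun g :=
    { toFun := fun i => ⟨F.act g i, F.act_lt g i⟩
      invFun := fun i => ⟨F.act g⁻¹ i, F.act_lt g⁻¹ i⟩
      left_inv := fun i => Fin.ext (by simp only; rw [← act_mul, inv_mul_cancel, F.act_one i.2])
      right_inv := fun i => Fin.ext (by simp only; rw [← act_mul, mul_inv_cancel, F.act_one i.2]) }
  map_one' := Equiv.ext fun i => Fin.ext (F.act_one i.2)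
  map_mul' g g' := Equiv.ext fun i => Fin.ext (F.act_mul g g' i)

theorem rep_apply (g : G) (i : Fin 28) : (F.rep g i : ℕ) = F.act g i := rfl

theorem rep_injective : Function.Injective F.rep := fun g g' h => F.act_inj fun i hi => by
  rw [← F.rep_apply g ⟨i, hi⟩, h]
  rfl

theorem rep_range : F.rep.range = modelGroup := by
  obtain ⟨g₀, hg₀⟩ := F.exists_w0
  refine le_antisymm ?_ ?_
  · set L := modelGroup.comap F.rep with hL
    have hw : ∀ n, n < 27 → F.w n ∈ L := fun n hn => Subgroup.subset_closure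
      (Or.inl ⟨n, hn, fun i => (F.rep_apply _ i).trans (F.act_word hn i.2)⟩)
    have hh : F.h ∈ L := Subgroup.subset_closure
      (Or.inr (Or.inl fun i => (F.rep_apply _ i).trans (F.act_h i.2)))
    have hg : g₀ ∈ L := Subgroup.subset_closure
      (Or.inr (Or.inr fun i => (F.rep_apply _ i).trans (hg₀ i i.2)))
    have hN : ∀ g : G, g • F.P = F.P → g ∈ L := fun g hgP => by
      obtain ⟨n, hn, m, -, rfl⟩ := F.stab_form hgP
      exact mul_mem (hw n hn) (pow_mem hh m)
    rintro _ ⟨x, rfl⟩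
    change x ∈ L
    by_cases hx : x • F.P = F.P
    · exact hN x hx
    obtain ⟨p, hp, hpQ⟩ := F.rsurj _ hx
    obtain ⟨n, hn, rfl⟩ := F.surj p hp
    have hg0P : g₀ • F.P = F.Q := by
      have := F.pt_act g₀ 27
      rw [hg₀ 27 (by norm_num), show Model.w0 27 = 0 by decide +kernel, pt_last, pt_zero] at this
      exact this.symm
    have h1 : (g₀⁻¹ * (F.w n)⁻¹ * x) • F.P = F.P := by
      rw [mul_smul, mul_smul, inv_smul_eq_iff, inv_smul_eq_iff, hg0P]
      exact hpQ.symm
    have := mul_mem (mul_mem (hw n hn) hg) (hN _ h1)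
    have e : F.w n * g₀ * (g₀⁻¹ * (F.w n)⁻¹ * x) = x := by group
    rwa [e] at this
  · rw [modelGroup, Subgroup.closure_le]
    rintro σ (⟨n, hn, hσ⟩ | hσ | hσ)
    · exact ⟨F.w n, Equiv.ext fun i => Fin.ext (((F.rep_apply _ i).trans
        (F.act_word hn i.2)).trans (hσ i).symm)⟩
    · exact ⟨F.h, Equiv.ext fun i => Fin.ext (((F.rep_apply _ i).trans
        (F.act_h i.2)).trans (hσ i).symm)⟩
    · exact ⟨g₀, Equiv.ext fun i => Fin.ext (((F.rep_apply _ i).trans
        (hg₀ i i.2)).trans (hσ i).symm)⟩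

/-- The isomorphism with the model. -/
noncomputable def equivModel : G ≃* modelGroup :=
  (MonoidHom.ofInjective F.rep_injective).trans (MulEquiv.subgroupCongr F.rep_range)

end Frame

/-- Simple groups of order 6048 without elements of order nine are isomorphic. -/
theorem nonempty_equiv {H : Type*} [Group H] [Finite H] [IsSimpleGroup H]
    (hG : Nat.card G = 6048) (h9 : ∀ g : G, orderOf g ≠ 9)
    (hH : Nat.card H = 6048) (h9' : ∀ g : H, orderOf g ≠ 9) : Nonempty (G ≃* H) := by
  obtain ⟨K⟩ := exists_tab hG h9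
  obtain ⟨K'⟩ := exists_tab hH h9'
  obtain ⟨P⟩ : Nonempty (Sylow 3 G) := inferInstance
  obtain ⟨P'⟩ : Nonempty (Sylow 3 H) := inferInstance
  obtain ⟨F⟩ := exists_frame hG h9 K
  obtain ⟨F'⟩ := exists_frame hH h9' K'
  exact ⟨F.equivModel.trans F'.equivModel.symm⟩

end Cfsg.Agent.Recog.U33U
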