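import Mathlib
import Cfsg.Agent.Lib.Recog.U33U.Rigid

/-!
Simple groups of order 6048 without elements of order nine have at most 12096 automorphisms.
-/

set_option autoImplicit false
set_option linter.style.haveILetI false
set_option linter.unusedSectionVars false

namespace Cfsg.Agent.Recog.U33U

open scoped Pointwise

universe u

variable {G : Type u} [Group G]

theorem aut_smul_smul {p : ℕ} (τ : MulAut G) (x : G) (R : Sylow p G) :
    τ • (x • R) = τ x • (τ • R) := by
  refine Sylow.ext ?_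
  simp only [Sylow.coe_subgroup_smul, Sylow.pointwise_smul_def]
  ext g
  simp only [Subgroup.mem_pointwise_smul_iff_inv_smul_mem, MulAut.smul_def, MulAut.conj_inv_apply,
    map_mul, map_inv, MulAut.inv_apply_self]

variable [Finite G] [IsSimpleGroup G] (F : Frame G)

namespace Frame

theorem conj_pow_w (m : ℕ) {n : ℕ} (hn : n < 27) :
    F.h ^ m * F.w n * (F.h ^ m)⁻¹ = F.w (Model.hp m n) ∧ Model.hp m n < 27 := by
  have key : ∀ k, k ≤ 7 → F.h ^ k * F.w n * (F.h ^ k)⁻¹ = F.w (Model.hp k n) ∧ Model.hp k n < 27 := by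
    intro k
    induction k with
    | zero =>
      intro _
      have h := Model.hp_zero
      simp only [List.all_eq_true, List.mem_range] at h
      rw [Nat.eq_of_beq_eq_true (h n (by omega)), pow_zero, one_mul, inv_one, mul_one]
      exact ⟨rfl, hn⟩
    | succ k ih =>
      intro hk
      have h := Model.hp_table
      simp only [List.all_eq_true, List.mem_range, Bool.and_eq_true] at h
      obtain ⟨e, hlt⟩ := ih (by omega)
      rw [Nat.eq_of_beq_eq_true ((h k (by omega)).2 n (by omega))]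
      refine ⟨?_, (Model.hom_spec hlt).1⟩
      rw [← F.conj_h hlt, ← e, pow_succ']
      group
  have e : Model.hp (m % 8) n = Model.hp m n := by rw [Model.hp, Model.hp, Nat.mod_mod]
  rw [← e, pow_eq_pow_mod m F.h8]
  exact key (m % 8) (by omega)

theorem two_trans {R S : Sylow 3 G} (h : R ≠ S) : ∃ g : G, g • F.P = R ∧ g • F.Q = S := by
  haveI : Fact (Nat.Prime 3) := ⟨Nat.prime_three⟩
  obtain ⟨g, hg⟩ := MulAction.exists_smul_eq G F.P R
  obtain ⟨p, hp, hpQ⟩ := F.rsurj (g⁻¹ • S) fun e => h (by rw [← hg, ← e, smul_inv_smul])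
  obtain ⟨n, hn, rfl⟩ := F.surj p hp
  refine ⟨g * F.w n, by rw [mul_smul, F.w_fix, hg], ?_⟩
  rw [mul_smul]
  exact (congrArg (g • ·) hpQ).trans (smul_inv_smul _ _)

theorem aut_image {τ : MulAut G} (hP : τ • F.P = F.P) (hQ : τ • F.Q = F.Q) :
    ∃ x ∈ Model.autPairs, τ F.a = F.w x.1 ∧ τ F.h = F.h ^ x.2 := by
  obtain ⟨j, hj, hj'⟩ := F.stab (τ F.h)
    (by nth_rw 1 [← hP]; rw [← aut_smul_smul, F.hP, hP])
    (by nth_rw 1 [← hQ]; rw [← aut_smul_smul, F.hQ, hQ])
  have hodd : j % 2 = 1 := by
    rcases Nat.mod_two_eq_zero_or_one j with h | h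
    · exfalso
      refine F.h_four (τ.injective ?_)
      rw [map_one, map_pow, hj', ← pow_mul, show j * 4 = 8 * (j / 2) by omega, pow_mul, F.h8, one_pow]
    · exact h
  have hmem : ∀ g ∈ (F.P : Subgroup G), τ g ∈ (F.P : Subgroup G) := fun g hg => by
    have e : (F.P : Subgroup G) = τ • (F.P : Subgroup G) := by
      conv_lhs => rw [← hP]
      rfl
    rw [e]
    exact Subgroup.smul_mem_pointwise_smul g τ _ hg
  have haP : F.a ∈ (F.P : Subgroup G) := by
    have := F.wmem 9
    rwa [word_nine] at this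
  have hbP : F.b ∈ (F.P : Subgroup G) := by
    have := F.wmem 3
    rwa [word_three] at this
  obtain ⟨p, hp, hp'⟩ := F.surj _ (hmem _ haP)
  obtain ⟨q, hq, hq'⟩ := F.surj _ (hmem _ hbP)
  have hp3 : 3 ≤ p := by
    by_contra hlt
    have hz : F.z = 1 := by
      have hc : Commute (τ F.a) (τ F.b) := by
        rw [← hp', ← hq', word, show p / 9 = 0 by omega, show p / 3 % 3 = 0 by omega, pow_zero,
          pow_zero, one_mul, one_mul]
        refine Commute.pow_left ?_ _
        exact ((F.heis.za.pow_right _).mul_right (F.heis.zb.pow_right _)).mul_right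
          (Commute.pow_right (Commute.refl _) _)
      have hab : F.a * F.b = F.b * F.a := τ.injective (by rw [map_mul, map_mul, hc.eq])
      have := F.heis.ba
      rw [← hab] at this
      exact left_eq_mul.1 this
    have := F.inj 1 (by norm_num) 0 (by norm_num) (by rw [word_one, word_zero, hz])
    norm_num at this
  have hb : τ F.b = F.w (Model.hp j p) := by
    rw [← F.ha, map_mul, map_mul, map_inv, hj', ← hp']
    exact (F.conj_pow_w j hp).1
  have e : F.w (Model.hp (2 * j) p) = F.w (Model.mul p (Model.mul (Model.hp j p) (Model.hp j p))) := by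
    have hlt := (F.conj_pow_w j hp).2
    rw [← (F.conj_pow_w (2 * j) hp).1, ← F.w_mul (Model.mul_lt hlt hlt), ← F.w_mul hlt, ← hb,
      show F.w p = τ F.a from hp', ← map_mul, ← map_mul, ← mul_assoc, ← F.hb, map_mul, map_mul,
      map_inv, hj', hb, ← (F.conj_pow_w j hp).1, show F.w p = τ F.a from hp', two_mul, pow_add]
    group
  refine ⟨(p, j), ?_, hp'.symm, hj'⟩
  simp only [Model.autPairs, List.mem_filter, List.pair_mem_product, List.mem_range,
    Bool.and_eq_true, Bool.not_eq_true', Nat.beq_eq]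
  refine ⟨⟨hp, ?_⟩, ?_, ?_⟩
  · rcases (show j = 1 ∨ j = 3 ∨ j = 5 ∨ j = 7 by omega) with rfl | rfl | rfl | rfl <;> simp
  · rw [Bool.eq_false_iff]
    simp only [ne_eq, Nat.ble_eq]
    omega
  · exact F.inj _ (F.conj_pow_w _ hp).2 _
      (Model.mul_lt hp (Model.mul_lt (F.conj_pow_w j hp).2 (F.conj_pow_w j hp).2)) e

theorem aut_eq {τ σ : MulAut G} (hP : τ • F.P = F.P) (hQ : τ • F.Q = F.Q)
    (hP' : σ • F.P = F.P) (hQ' : σ • F.Q = F.Q) (ha : τ F.a = σ F.a) (hh : τ F.h = σ F.h) :
    τ = σ := by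
  set ρ := σ⁻¹ * τ with hρ
  have hρa : ρ F.a = F.a := by simp [hρ, ha]
  have hρh : ρ F.h = F.h := by simp [hρ, hh]
  have hρb : ρ F.b = F.b := by rw [← F.ha, map_mul, map_mul, map_inv, hρa, hρh]
  have hρz : ρ F.z = F.z := by
    have : F.z = (F.a * F.b)⁻¹ * (F.b * F.a) := by rw [F.heis.ba, inv_mul_cancel_left]
    rw [this]
    simp only [map_mul, map_inv, hρa, hρb]
  have hρw : ∀ n, ρ (F.w n) = F.w n := fun n => by
    simp only [w, word, map_mul, map_pow, hρa, hρb, hρz]
  have hρP : ρ • F.P = F.P := by rw [hρ, mul_smul, hP, inv_smul_eq_iff, hP']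
  have hρQ : ρ • F.Q = F.Q := by rw [hρ, mul_smul, hQ, inv_smul_eq_iff, hQ']
  have hall : ∀ R : Sylow 3 G, ρ • R = R := fun R => by
    obtain ⟨i, hi, rfl⟩ := F.pt_surj R
    rcases Nat.lt_or_ge i 27 with h | h
    · rw [F.pt_lt h, aut_smul_smul, hρw, hρQ]
    · obtain rfl : i = 27 := by omega
      rw [pt_last, hρP]
  have hone : ρ = 1 := by
    refine MulEquiv.ext fun x => ?_
    refine F.act_inj fun i hi => F.act_eq (F.act_lt _ _) ?_
    rw [pt_act]
    calc ρ x • F.pt i = ρ x • (ρ • F.pt i) := by rw [hall]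
      _ = x • F.pt i := by rw [← aut_smul_smul, hall]
      _ = _ := rfl
  rw [hρ, inv_mul_eq_one] at hone
  exact hone.symm

include F in
theorem card_mulAut_le : Nat.card (MulAut G) ≤ 12096 := by
  classical
  haveI := Fintype.ofFinite (Sylow 3 G)
  have hne : ∀ σ : MulAut G, σ • F.P ≠ σ • F.Q := fun σ e => F.ne (smul_left_cancel σ e)
  let D := {x : Sylow 3 G × Sylow 3 G // x.1 ≠ x.2}
  let base : MulAut G → D := fun σ => ⟨(σ • F.P, σ • F.Q), hne σ⟩
  let g : D → G := fun d => (F.two_trans d.2).choose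
  have hg : ∀ d : D, g d • F.P = d.1.1 ∧ g d • F.Q = d.1.2 := fun d =>
    (F.two_trans d.2).choose_spec
  have hconj : ∀ (x : G) (R : Sylow 3 G), MulAut.conj x • R = x • R := fun x R => rfl
  let tw : MulAut G → MulAut G := fun σ => (MulAut.conj (g (base σ)))⁻¹ * σ
  have htw : ∀ σ, tw σ • F.P = F.P ∧ tw σ • F.Q = F.Q := fun σ => by
    constructor
    · rw [mul_smul, inv_smul_eq_iff, hconj]; exact (hg (base σ)).1.symm
    · rw [mul_smul, inv_smul_eq_iff, hconj]; exact (hg (base σ)).2.symm
  have hx := fun σ => F.aut_image (htw σ).1 (htw σ).2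
  let f : MulAut G → D × {x // x ∈ Model.autPairs.toFinset} := fun σ =>
    (base σ, ⟨(hx σ).choose, List.mem_toFinset.2 (hx σ).choose_spec.1⟩)
  have hf : Function.Injective f := by
    intro σ σ' h
    have h1 : base σ = base σ' := congrArg Prod.fst h
    have h2 : (hx σ).choose = (hx σ').choose := congrArg Subtype.val (congrArg Prod.snd h)
    have ht : tw σ = tw σ' := F.aut_eq (htw σ).1 (htw σ).2 (htw σ').1 (htw σ').2
      (by rw [(hx σ).choose_spec.2.1, (hx σ').choose_spec.2.1, h2])
      (by rw [(hx σ).choose_spec.2.2, (hx σ').choose_spec.2.2, h2])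
    simpa [tw, h1] using ht
  refine (Nat.card_le_card_of_injective f hf).trans ?_
  rw [Nat.card_prod, Nat.card_eq_fintype_card (α := D), Nat.card_eq_fintype_card, Fintype.card_coe]
  have hS : Fintype.card (Sylow 3 G) = 28 := by rw [← Nat.card_eq_fintype_card, F.card]
  have hD : Fintype.card D = 756 := by
    rw [Fintype.card_subtype_compl]
    have : Fintype.card {x : Sylow 3 G × Sylow 3 G // x.1 = x.2} = 28 := by
      rw [← hS]
      exact Fintype.card_congr
        { toFun := fun x => x.1.1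
          invFun := fun R => ⟨(R, R), rfl⟩
          left_inv := fun x => Subtype.ext (Prod.ext rfl x.2)
          right_inv := fun R => rfl }
    rw [this, Fintype.card_prod, hS]
  have hA := (List.toFinset_card_le Model.autPairs).trans Model.autPairs_length.le
  rw [hD]
  omega

end Frame

end Cfsg.Agent.Recog.U33U
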