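import Mathlib
import Cfsg.Agent.Lib.Block.OrderPrimeSelfFull
import Cfsg.Agent.Lib.Block.OrderPrimeCount

/-!
A group of order 12096 with self-centralizing Sylow 7-subgroups and full automizer is not simple.
-/

set_option autoImplicit false
set_option linter.style.haveILetI false

namespace Cfsg.Agent.Recog.U33U

open scoped ComplexConjugate
open Cfsg Cfsg.Agent.Block Cfsg.Agent.Char Cfsg.Agent.Block.OrdP

universe u

/-- Signed degrees, squares, signed values at the involution and weights. -/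
def kinds12096 : List (ℤ × ℤ × ℤ × ℤ) :=
  [(8, 64, 0, 0), (-27, 729, -3, -4032), (36, 1296, -4, 5376), (36, 1296, 0, 0), (36, 1296, 4, 5376),
    (-48, 2304, 4, -4032), (-48, 2304, 0, 0), (-48, 2304, -4, -4032), (64, 4096, -8, 12096),
    (64, 4096, -4, 3024), (64, 4096, 0, 0), (64, 4096, 4, 3024), (64, 4096, 8, 12096)]

/-- The test. -/
def chk12096 (t : ℤ × ℤ × ℤ × ℤ) : Bool :=
  !(decide (t.1 = -1) && decide (t.2.1 ≤ 12095) && decide (t.2.2.1 = -1) &&
    (List.range 115).any fun b => decide (7 * ((b : ℤ) * b) = 12096 + t.2.2.2))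

theorem chk12096_all : OrdP.allPicks chk12096 kinds12096 6 0 = true := by decide +kernel

theorem kind12096 {d : ℕ} {e A : ℤ} (hs : e = 1 ∨ e = -1) (hd2 : 2 ≤ d) (hdv : d ∣ 12096)
    (hlt : d ≤ 109) (hd : (d : ℤ) ≡ e [ZMOD 7]) (h4 : (4 : ℤ) ∣ (d : ℤ) - A)
    (h3 : 27 ∣ d → (3 : ℤ) ∣ A) (hb1 : 0 ≤ (d : ℤ) + 6 * e + 7 * A)
    (hb2 : 0 ≤ (d : ℤ) + 6 * e - 7 * A) :
    (e * (d : ℤ), (d : ℤ) ^ 2, e * A, 12096 * (e * A ^ 2) / (d : ℤ)) ∈ kinds12096 := by
  obtain ⟨q, hq | hq⟩ : ∃ q, d = 7 * q + 1 ∨ d = 7 * q + 6 := by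
    rw [Int.ModEq] at hd
    refine ⟨d / 7, ?_⟩
    rcases hs with rfl | rfl <;> omega
  all_goals
    have hq' : q ≤ 16 := by omega
    rw [Int.ModEq] at hd
    obtain rfl | rfl := hs <;> interval_cases q <;> subst hq <;> first
      | omega
      | (norm_num at hdv; done)
      | (have hA : A = 0 ∨ A = 4 ∨ A = -4 ∨ A = 8 ∨ A = -8 ∨ A = 3 ∨ A = -1 ∨ A = 2 ∨ A = -2 := by
           omega
         rcases hA with rfl | rfl | rfl | rfl | rfl | rfl | rfl | rfl | rfl <;>
           first | omega | decide | (norm_num at h3))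

variable {G : Type u} [Group G] [Finite G] [IsSimpleGroup G]

theorem ne_12096 (hna : ¬ IsMulCommutative G) (hG : Nat.card G = 12096) (P : Sylow 7 G)
    (hP : Nat.card P = 7) (hC : Nat.card (Subgroup.centralizer ((P : Subgroup G) : Set G)) = 7)
    (he : (Subgroup.centralizer ((P : Subgroup G) : Set G)).relIndex
      (Subgroup.normalizer ((P : Subgroup G) : Set G)) = 6) : False := by
  classical
  haveI : Fact (Nat.Prime 7) := ⟨by norm_num⟩
  haveI := Fintype.ofFinite G
  obtain ⟨M, hM⟩ := exists_isPModular 7 (by norm_num)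
  obtain ⟨Z, s, hcard, hτZ, hB, hZ, hrel, hcol⟩ := full hna hM (by norm_num) P hP (by rw [he])
  obtain ⟨S, hSu⟩ := exists_self P hP (by norm_num) hC he (by norm_num)
  have hr1 : ¬ 7 ∣ orderOf (1 : G) := by rw [orderOf_one]; norm_num
  have hrt : ¬ 7 ∣ orderOf S.t := by rw [S.ht]; norm_num
  choose A hA hA4 using fun χ : IrrCharacter G =>
    involution_value hna χ (x := S.t) (by rw [← S.ht]; exact pow_orderOf_eq_one _)
  have hval : ∀ χ ∈ Z, ∀ i : ℤ, S.u ^ i ≠ 1 → (χ : G → ℂ) (S.u ^ i) = (s χ : ℂ) := by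
    intro χ hχ i hi
    have h := ((hZ χ hχ).2.2 (S.u ^ i) ((P : Subgroup G).zpow_mem hSu i) hi 1 (one_mem _) hr1).1
    rwa [mul_one] at h
  -- three divides the centralizer of the involution
  set c := Nat.card (Subgroup.centralizer ({S.t} : Set G)) with hc
  have hc3 : 3 ∣ c := by
    set N := Subgroup.normalizer ((P : Subgroup G) : Set G) with hN
    have hCN := Subgroup.centralizer_le_normalizer ((P : Subgroup G) : Set G)
    have hN42 : Nat.card N = 42 := by
      have := Subgroup.card_mul_index ((Subgroup.centralizer ((P : Subgroup G) : Set G)).subgroupOf N)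
      rw [Nat.card_congr (Subgroup.subgroupOfEquivOfLe hCN).toEquiv, hC] at this
      change 7 * (Subgroup.centralizer ((P : Subgroup G) : Set G)).relIndex N = _ at this
      rw [he] at this
      omega
    have hzP : Subgroup.zpowers S.u = (P : Subgroup G) := Subgroup.eq_of_le_of_card_ge
      (Subgroup.zpowers_le.2 hSu) (by rw [Nat.card_zpowers, S.hu]; exact hP.le)
    have htN : S.t ∈ N := by
      rw [hN, ← hzP]
      refine Subgroup.mem_normalizer_iff.2 fun x => ⟨fun hx => ?_, fun hx => ?_⟩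
      · obtain ⟨i, rfl⟩ := Subgroup.mem_zpowers_iff.1 hx
        rw [S.tpow]
        exact Subgroup.zpow_mem_zpowers _ _
      · obtain ⟨i, hi⟩ := Subgroup.mem_zpowers_iff.1 hx
        have h2 : x = S.t * S.u ^ i * S.t⁻¹ := by
          rw [hi]
          calc x = (S.t * S.t) * x * (S.t * S.t)⁻¹ := by
                rw [Invol.mul_self_of_orderOf_two S.ht]; group
            _ = _ := by group
        rw [h2, S.tpow]
        exact Subgroup.zpow_mem_zpowers _ _
    haveI := Fintype.ofFinite N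
    set T := (Finset.univ : Finset (Fin 7)).image fun i : Fin 7 => S.t * S.u ^ ((i : ℕ) : ℤ)
    let K : Subgroup G := N ⊓ Subgroup.centralizer ({S.t} : Set G)
    have hmap : ∀ g ∈ N, g * S.t * g⁻¹ ∈ T := by
      intro g hg
      have hu : g⁻¹ * S.u * g ∈ Subgroup.zpowers S.u := by
        rw [hzP]
        exact (Subgroup.mem_normalizer_iff''.1 hg _).1 hSu
      obtain ⟨j, hj⟩ := Subgroup.mem_zpowers_iff.1 hu
      have hinv : (g * S.t * g⁻¹) * S.u * (g * S.t * g⁻¹)⁻¹ = S.u⁻¹ := by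
        calc (g * S.t * g⁻¹) * S.u * (g * S.t * g⁻¹)⁻¹
            = g * (S.t * (g⁻¹ * S.u * g) * S.t⁻¹) * g⁻¹ := by group
          _ = g * (g⁻¹ * S.u * g)⁻¹ * g⁻¹ := by rw [← hj, S.tpow, zpow_neg]
          _ = S.u⁻¹ := by group
      obtain ⟨i, hi⟩ := S.inverters _ hinv
      refine Finset.mem_image.2 ⟨⟨(i % 7).toNat, by omega⟩, Finset.mem_univ _, ?_⟩
      rw [hi]
      congr 1
      conv_rhs => rw [← zpow_mod_orderOf, S.hu]
      congr 1
      push_cast
      omega
    have hle : K.relIndex N ≤ 7 := by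
      have hwd : ∀ a b : N, QuotientGroup.leftRel (K.subgroupOf N) a b →
          (a : G) * S.t * (a : G)⁻¹ = b * S.t * (b : G)⁻¹ := by
        intro a b h
        have h' := QuotientGroup.leftRel_apply.1 h
        rw [Subgroup.mem_subgroupOf] at h'
        have h2 := Subgroup.mem_centralizer_singleton_iff.1 h'.2
        simp only [Subgroup.coe_mul, InvMemClass.coe_inv] at h2
        calc (a : G) * S.t * (a : G)⁻¹ = a * (S.t * ((a : G)⁻¹ * b)) * (b : G)⁻¹ := by group
          _ = a * (((a : G)⁻¹ * b) * S.t) * (b : G)⁻¹ := by rw [h2]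
          _ = (b : G) * S.t * (b : G)⁻¹ := by group
      let f : N ⧸ K.subgroupOf N → T := Quotient.lift
        (fun g : N => (⟨(g : G) * S.t * (g : G)⁻¹, hmap g g.2⟩ : T))
        (fun a b h => Subtype.ext (hwd a b h))
      have hf : Function.Injective f := by
        rintro ⟨a⟩ ⟨b⟩ h
        refine Quotient.sound (QuotientGroup.leftRel_apply.2 ?_)
        have h' : (a : G) * S.t * (a : G)⁻¹ = b * S.t * (b : G)⁻¹ := congrArg Subtype.val h
        rw [Subgroup.mem_subgroupOf]
        refine ⟨(a⁻¹ * b).2, Subgroup.mem_centralizer_singleton_iff.2 ?_⟩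
        simp only [Subgroup.coe_mul, InvMemClass.coe_inv]
        calc (a : G)⁻¹ * b * S.t = (a : G)⁻¹ * (b * S.t * (b : G)⁻¹) * b := by group
          _ = (a : G)⁻¹ * (a * S.t * (a : G)⁻¹) * b := by rw [h']
          _ = S.t * ((a : G)⁻¹ * b) := by group
      calc K.relIndex N = Nat.card (N ⧸ K.subgroupOf N) := rfl
        _ ≤ Nat.card T := Nat.card_le_card_of_injective f hf
        _ ≤ 7 := by
          rw [Nat.card_eq_fintype_card, Fintype.card_coe]
          exact Finset.card_image_le.trans (by simp)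
    have hK : Nat.card K * K.relIndex N = 42 := by
      rw [← hN42, Subgroup.relIndex, ← Nat.card_congr (Subgroup.subgroupOfEquivOfLe
        (inf_le_left : K ≤ N)).toEquiv, Subgroup.card_mul_index]
    have h7 : ¬ 7 ∣ Nat.card K := fun hd => by
      obtain ⟨⟨z, hzK⟩, hz⟩ := exists_prime_orderOf_dvd_card' 7 hd
      rw [Subgroup.orderOf_mk] at hz
      have hzP' : z ∈ (P : Subgroup G) := by
        have hp : IsPGroup 7 (Subgroup.zpowers z) := IsPGroup.of_card (n := 1)
          (by rw [Nat.card_zpowers, hz, pow_one])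
        have := IsPGroup.inf_normalizer_sylow hp P
        have hmem : z ∈ Subgroup.zpowers z ⊓ Subgroup.normalizer ((P : Subgroup G) : Set G) :=
          ⟨Subgroup.mem_zpowers z, hzK.1⟩
        exact (this.le hmem).2
      rw [← hzP] at hzP'
      obtain ⟨i, rfl⟩ := Subgroup.mem_zpowers_iff.1 hzP'
      have h2 := Subgroup.mem_centralizer_singleton_iff.1 hzK.2
      have h3 : S.u ^ i = S.u ^ (-i) := by rw [← S.tpow, ← h2, mul_inv_cancel_right]
      have h4 : S.u ^ (i + i) = 1 := by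
        rw [zpow_add]
        nth_rw 1 [h3]
        rw [← zpow_add, neg_add_cancel, zpow_zero]
      rw [← orderOf_dvd_iff_zpow_eq_one, S.hu] at h4
      have h5 : (7 : ℤ) ∣ i := by push_cast at h4; omega
      obtain ⟨j, rfl⟩ := h5
      rw [zpow_mul, show S.u ^ (7 : ℤ) = 1 by
        rw [← orderOf_dvd_iff_zpow_eq_one, S.hu]; norm_num, one_zpow, orderOf_one] at hz
      omega
    have hK6 : Nat.card K = 6 := by
      have hdvd : Nat.card K ∣ 6 := by
        have : Nat.card K ∣ 6 * 7 := ⟨_, hK.symm⟩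
        exact Nat.Coprime.dvd_of_dvd_mul_right
          ((Nat.Prime.coprime_iff_not_dvd (by norm_num)).2 h7).symm this
      have := Nat.le_of_dvd (by norm_num) hdvd
      nlinarith
    exact dvd_trans (show 3 ∣ Nat.card K by rw [hK6]; norm_num)
      (Subgroup.card_dvd_of_le inf_le_right)
  have key : ∀ χ ∈ Z,
      (s χ * (charDegree (χ : G → ℂ) : ℤ), (charDegree (χ : G → ℂ) : ℤ) ^ 2, s χ * A χ,
        12096 * (s χ * A χ ^ 2) / (charDegree (χ : G → ℂ) : ℤ)) ∈ kinds12096 := by
    intro χ hχ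
    obtain ⟨hs, hd, -⟩ := hZ χ hχ
    obtain ⟨h1, h2⟩ := inverted_bound S (by norm_num) χ (hval χ hχ) (hA χ)
    have hdv := charDeg_dvd χ
    rw [hG] at hdv
    have h3c := hcol 1
    rw [centralizer_one_eq_top, Subgroup.card_top, hG] at h3c
    simp only [normSq_one] at h3c
    have hsz : 1 + ∑ χ ∈ Z, charDegree (χ : G → ℂ) ^ 2 ≤ 12096 := by exact_mod_cast h3c
    have h3 : charDegree (χ : G → ℂ) ^ 2 ≤ ∑ ξ ∈ Z, charDegree (ξ : G → ℂ) ^ 2 :=
      Finset.single_le_sum (f := fun ξ : IrrCharacter G => charDegree (ξ : G → ℂ) ^ 2)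
        (fun ξ _ => Nat.zero_le _) hχ
    push_cast at h1 h2
    refine kind12096 hs (two_le_deg hna (fun h => hτZ (h ▸ hχ))) hdv (by nlinarith) hd (hA4 χ)
      (fun h27 => ?_) (by linarith) (by linarith)
    have hi := index_dvd χ (hA χ)
    have hm := (Subgroup.centralizer ({S.t} : Set G)).card_mul_index
    rw [hG, ← hc] at hm
    obtain ⟨k, hk⟩ := hc3
    rw [hk] at hm
    have hidx : ¬ 27 ∣ (Subgroup.centralizer ({S.t} : Set G)).index := fun ⟨j, hj⟩ => by
      rw [hj] at hm
      have : 81 * (k * j) = 12096 := by rw [← hm]; ring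
      omega
    by_contra hA3
    refine hidx ?_
    have h27' : ((27 : ℕ) : ℤ) ∣ ((Subgroup.centralizer ({S.t} : Set G)).index : ℤ) * A χ :=
      (Int.natCast_dvd_natCast.2 h27).trans hi
    have hcop : IsCoprime ((27 : ℕ) : ℤ) (A χ) := by
      have h3p : Prime (3 : ℤ) := Int.prime_three
      have := (h3p.coprime_iff_not_dvd.2 hA3).pow_left (m := 3)
      norm_num at this ⊢
      exact this
    exact Int.natCast_dvd_natCast.1 (hcop.dvd_of_dvd_mul_right h27')
  obtain ⟨g, hg⟩ : ∃ g : IrrCharacter G → ℤ × ℤ × ℤ × ℤ, g = fun χ =>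
      (s χ * (charDegree (χ : G → ℂ) : ℤ), (charDegree (χ : G → ℂ) : ℤ) ^ 2, s χ * A χ,
        12096 * (s χ * A χ ^ 2) / (charDegree (χ : G → ℂ) : ℤ)) := ⟨_, rfl⟩
  have hchk := OrdP.allPicks_sound chk12096 kinds12096 6 0 chk12096_all Z g (by omega)
    fun χ hχ => by rw [hg]; exact key χ hχ
  rw [zero_add] at hchk
  have hsum1 : (∑ χ ∈ Z, g χ).1 = -1 := by
    rw [Prod.fst_sum]
    simp only [hg]
    have h := hrel 1 hr1
    simp only [charDeg_spec'] at h
    have : (1 : ℤ) + ∑ χ ∈ Z, s χ * (charDegree (χ : G → ℂ) : ℤ) = 0 := by exact_mod_cast h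
    omega
  have hsum2 : (∑ χ ∈ Z, g χ).2.1 ≤ 12095 := by
    simp only [Prod.snd_sum, Prod.fst_sum, hg]
    have h := hcol 1
    rw [centralizer_one_eq_top, Subgroup.card_top, hG] at h
    simp only [normSq_one] at h
    have h' : 1 + ∑ χ ∈ Z, charDegree (χ : G → ℂ) ^ 2 ≤ 12096 := by exact_mod_cast h
    have : ((1 + ∑ χ ∈ Z, charDegree (χ : G → ℂ) ^ 2 : ℕ) : ℤ) ≤ ((12096 : ℕ) : ℤ) := by
      exact_mod_cast h'
    push_cast at this
    linarith
  have hsum3 : (∑ χ ∈ Z, g χ).2.2.1 = -1 := by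
    simp only [Prod.snd_sum, Prod.fst_sum, hg]
    have h := hrel S.t hrt
    simp only [hA] at h
    have : (1 : ℤ) + ∑ χ ∈ Z, s χ * A χ = 0 := by exact_mod_cast h
    omega
  have heq : (7 : ℚ) * (c : ℚ) ^ 2 = (Nat.card G : ℚ) *
      (1 + ∑ χ ∈ Z, ((s χ * A χ ^ 2 : ℤ) : ℚ) / (charDegree (χ : G → ℂ) : ℚ)) := by
    have h := S.formula S.t
    rw [S.count (by norm_num), ← Finset.sum_filter_add_sum_filter_not Finset.univ
      (fun ξ => ξ ∈ principalBlock M G),
      Finset.sum_eq_zero (s := Finset.univ.filter fun ξ => ξ ∉ principalBlock M G) (fun ξ hξ => by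
        rw [S.vanish hM ξ (Finset.mem_filter.1 hξ).2, map_zero, zero_mul, zero_mul, zero_div]),
      add_zero, show (Finset.univ.filter fun ξ => ξ ∈ principalBlock M G) =
        insert (trivialIrr G) Z by
          ext ξ; simp only [Finset.mem_filter, Finset.mem_univ, true_and, hB, Finset.mem_insert],
      Finset.sum_insert hτZ,
      Finset.sum_congr rfl (g := fun ξ : IrrCharacter G =>
        ((s ξ * A ξ ^ 2 : ℤ) : ℂ) / (charDegree (ξ : G → ℂ) : ℂ)) fun ξ hξ => by
          rw [show (ξ : G → ℂ) S.u = (s ξ : ℂ) by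
              simpa using hval ξ hξ 1 (by simpa using S.u_ne),
            map_intCast, hA, charDeg_spec']
          push_cast; ring] at h
    simp only [trivialIrr, map_one, mul_one, div_one] at h
    apply Rat.cast_injective (α := ℂ)
    push_cast
    rw [Nat.cast_pow] at h
    push_cast at h
    exact h
  have hsum4 : 7 * ((c : ℤ) * c) = 12096 + (∑ χ ∈ Z, g χ).2.2.2 := by
    simp only [Prod.snd_sum, hg]
    apply Int.cast_injective (α := ℚ)
    push_cast
    rw [Finset.sum_congr rfl (g := fun χ => 12096 * (((s χ * A χ ^ 2 : ℤ) : ℚ) /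
      (charDegree (χ : G → ℂ) : ℚ))) fun χ hχ => by
        have hdv : (charDegree (χ : G → ℂ) : ℤ) ∣ 12096 * (s χ * A χ ^ 2) :=
          Dvd.dvd.mul_right (by exact_mod_cast (hG ▸ charDeg_dvd χ)) _
        rw [Int.cast_div hdv (Int.cast_ne_zero.2 (Int.natCast_ne_zero.2 (charDeg_pos χ).ne'))]
        push_cast
        ring, ← Finset.mul_sum]
    rw [hG] at heq
    push_cast at heq ⊢
    linarith
  have hb : c < 115 := by
    by_contra hb'
    have h1 : (∑ χ ∈ Z, g χ).2.2.2 ≤ 6 * 12096 := by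
      simp only [Prod.snd_sum, hg]
      refine le_trans (Finset.sum_le_card_nsmul Z _ (12096 : ℤ) fun χ hχ => ?_) (by
        rw [show Z.card = 6 by omega, nsmul_eq_mul]; norm_num)
      have : ∀ t ∈ kinds12096, t.2.2.2 ≤ 12096 := by decide
      exact this _ (key χ hχ)
    have h2 : (115 : ℤ) ≤ c := by exact_mod_cast (show 115 ≤ c by omega)
    nlinarith
  refine absurd hchk ?_
  simp only [chk12096, Bool.not_eq_true', Bool.and_eq_true, decide_eq_true_eq, Bool.not_eq_false,
    List.any_eq_true, List.mem_range]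
  exact ⟨⟨⟨hsum1, hsum2⟩, hsum3⟩, c, hb, hsum4⟩

end Cfsg.Agent.Recog.U33U
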