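import Mathlib
import Cfsg.Agent.Lib.Recog.U33U.Not12096
import Cfsg.Agent.Lib.Fus.SmallOrders
import Cfsg.Agent.S0983

/-!
Groups of order 12096 without elements of order 9, 14 or 21.
-/

set_option autoImplicit false
set_option linter.style.haveILetI false

namespace Cfsg.Agent.Recog.U33U

open scoped Pointwise
open Cfsg

universe u

/-- The forbidden element orders. -/
def Clean (G : Type u) [Group G] : Prop := ∀ g : G, orderOf g ≠ 14 ∧ orderOf g ≠ 21

theorem Clean.subgroup {G : Type u} [Group G] (h : Clean G) (H : Subgroup G) : Clean H := fun g => by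
  rw [← Subgroup.orderOf_coe]; exact h _

variable {G : Type u} [Group G] [Finite G]

theorem seven_commute (hc : Clean G) (hd : Nat.card G ∣ 12096) {x g : G} (hx : orderOf x = 7)
    (hg : g * x = x * g) : orderOf g ∣ 7 := by
  have key : ∀ q : ℕ, q = 2 ∨ q = 3 → ¬ q ∣ orderOf g := by
    intro q hq hdv
    obtain ⟨y, hy, hyx⟩ : ∃ y : G, orderOf y = q ∧ Commute y x :=
      ⟨g ^ (orderOf g / q), by rw [orderOf_pow_orderOf_div (orderOf_pos g).ne' hdv],
        (show Commute g x from hg).pow_left _⟩
    have hcop : (orderOf y).Coprime (orderOf x) := by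
      rw [hy, hx]; rcases hq with rfl | rfl <;> norm_num
    have := hyx.orderOf_mul_eq_mul_orderOf_of_coprime hcop
    rw [hy, hx] at this
    rcases hq with rfl | rfl
    · exact (hc _).1 this
    · exact (hc _).2 this
  have h1 : orderOf g ∣ 2 ^ 6 * 3 ^ 3 * 7 := (orderOf_dvd_natCard g).trans (hd.trans (by norm_num))
  have c2 : Nat.Coprime (orderOf g) (2 ^ 6 * 3 ^ 3) := Nat.Coprime.mul_right
    (Nat.Coprime.pow_right _ ((Nat.Prime.coprime_iff_not_dvd Nat.prime_two).2 (key 2 (Or.inl rfl))).symm)
    (Nat.Coprime.pow_right _ ((Nat.Prime.coprime_iff_not_dvd Nat.prime_three).2 (key 3 (Or.inr rfl))).symm)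
  exact c2.dvd_of_dvd_mul_left h1

theorem cent_seven (hc : Clean G) (hd : Nat.card G ∣ 12096) (P : Subgroup G) (hP : Nat.card P = 7) :
    Subgroup.centralizer (P : Set G) = P := by
  haveI : Fact (Nat.Prime 7) := ⟨by norm_num⟩
  obtain ⟨x, hx⟩ := exists_prime_orderOf_dvd_card' (G := P) 7 (by rw [hP])
  rw [← Subgroup.orderOf_coe] at hx
  set C := Subgroup.centralizer (P : Set G) with hC
  have hPC : P ≤ C := by
    intro a ha
    refine Subgroup.mem_centralizer_iff.2 fun b hb => ?_
    haveI := isCyclic_of_prime_card (p := 7) hP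
    obtain ⟨g, hg⟩ := IsCyclic.exists_generator (α := P)
    obtain ⟨i, hi⟩ := Subgroup.mem_zpowers_iff.1 (hg ⟨a, ha⟩)
    obtain ⟨j, hj⟩ := Subgroup.mem_zpowers_iff.1 (hg ⟨b, hb⟩)
    have := congrArg Subtype.val (((Commute.refl g).zpow_zpow j i).eq)
    rw [hi, hj] at this
    exact this
  have hp : IsPGroup 7 C := fun g => ⟨1, by
    rw [pow_one, ← orderOf_dvd_iff_pow_eq_one, ← Subgroup.orderOf_coe]
    exact seven_commute hc hd hx (Subgroup.mem_centralizer_iff.1 g.2 x x.2).symm⟩
  obtain ⟨k, hk⟩ := IsPGroup.iff_card.1 hp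
  have hk7 : 7 ^ k ∣ 7 * 1728 := hk ▸ (Subgroup.card_subgroup_dvd_card C).trans hd
  have : k ≤ 1 := by
    by_contra hlt
    have h49 : 49 ∣ 7 * 1728 := dvd_trans (pow_dvd_pow 7 (show 2 ≤ k by omega)) hk7
    norm_num at h49
  exact (Subgroup.eq_of_le_of_card_ge hPC (by
    rw [hP, hk]; exact (Nat.pow_le_pow_right (by norm_num) this).trans (by norm_num))).symm

theorem seven_dvd_sub_one (hc : Clean G) (hd : Nat.card G ∣ 12096) {x : G} (hx : orderOf x = 7)
    {Q : Subgroup G} (hQ : x ∈ Subgroup.normalizer (Q : Set G)) (h7 : ¬ 7 ∣ Nat.card Q) :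
    Nat.card Q % 7 = 1 := by
  haveI : Fact (Nat.Prime 7) := ⟨by norm_num⟩
  let f : Subgroup.zpowers x →* MulAut Q :=
    (MulAut.conjNormal (H := Q.subgroupOf (Subgroup.normalizer (Q : Set G)))).comp
      (Subgroup.inclusion (Subgroup.zpowers_le.2 hQ)) |> fun g =>
        (MulAut.congr (Subgroup.subgroupOfEquivOfLe Subgroup.le_normalizer)).toMonoidHom.comp g
  letI : MulAction (Subgroup.zpowers x) Q := MulAction.compHom Q f
  have hp : IsPGroup 7 (Subgroup.zpowers x) :=
    IsPGroup.of_card (n := 1) (by rw [Nat.card_zpowers, hx, pow_one])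
  have hsub : MulAction.fixedPoints (Subgroup.zpowers x) Q = {1} := by
    ext q
    rw [MulAction.mem_fixedPoints, Set.mem_singleton_iff]
    constructor
    · intro h
      have h' : ((⟨x, Subgroup.mem_zpowers x⟩ : Subgroup.zpowers x) • q : Q) = q := h _
      have e : x * (q : G) * x⁻¹ = q := congrArg Subtype.val h'
      have h7q := seven_commute hc hd hx (g := (q : G)) (mul_inv_eq_iff_eq_mul.1 e).symm
      refine Subtype.ext (orderOf_eq_one_iff.1 ?_)
      rcases (Nat.dvd_prime (by norm_num : Nat.Prime 7)).1 h7q with h1 | h1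
      · exact h1
      · exact absurd (h1 ▸ Subgroup.orderOf_dvd_natCard Q q.2) h7
    · rintro rfl k
      exact map_one (f k)
  have := hp.card_modEq_card_fixedPoints Q
  rw [hsub, Nat.card_eq_fintype_card (α := ({1} : Set Q))] at this
  simpa [Nat.ModEq] using this

theorem seven_free (hG : Nat.card G = 12096) (hc : Clean G) {N : Subgroup G} [N.Normal]
    (h7 : ¬ 7 ∣ Nat.card N) : Nat.card N = 1 ∨ Nat.card N = 8 ∨ Nat.card N = 64 := by
  classical
  have key : ∀ q k : ℕ, q.Prime → q ≠ 7 → ∀ S : Sylow q N, Nat.card S = q ^ k → q ^ k % 7 = 1 := by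
    intro q k hq hq7 S hS
    haveI : Fact q.Prime := ⟨hq⟩
    haveI : Fact (Nat.Prime 7) := ⟨by norm_num⟩
    set Q : Subgroup G := (S : Subgroup N).map N.subtype with hQ
    have hQc : Nat.card Q = q ^ k := by
      rw [← hS, hQ]
      exact (Nat.card_congr (Subgroup.equivMapOfInjective _ _ N.subtype_injective).toEquiv).symm
    have hsup := Sylow.normalizer_sup_eq_top S
    have hdvd : 7 ∣ Nat.card (Subgroup.normalizer (Q : Set G)) := by
      have h := N.relIndex_sup_right (H := Subgroup.normalizer (Q : Set G))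
      rw [hsup, Subgroup.relIndex_top_right] at h
      have h1 := N.card_mul_index
      have h2 : N.relIndex (Subgroup.normalizer (Q : Set G)) ∣
          Nat.card (Subgroup.normalizer (Q : Set G)) := Subgroup.index_dvd_card _
      rw [← h] at h2
      refine Nat.dvd_trans ?_ h2
      have h3 : 7 ∣ Nat.card N * N.index := by rw [h1, hG]; norm_num
      exact ((Nat.Prime.dvd_mul (by norm_num)).1 h3).resolve_left h7
    obtain ⟨x, hx⟩ := exists_prime_orderOf_dvd_card' 7 hdvd
    rw [← Subgroup.orderOf_coe] at hx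
    rw [← hQc]
    refine seven_dvd_sub_one hc (by rw [hG]) hx x.2 fun hd => ?_
    rw [hQc] at hd
    exact hq7 ((Nat.prime_dvd_prime_iff_eq (by norm_num) hq).1
      ((Nat.Prime.prime (by norm_num : Nat.Prime 7)).dvd_of_dvd_pow hd)).symm
  have hd : Nat.card N ∣ 1728 := by
    have : Nat.card N ∣ 1728 * 7 := by
      have := Subgroup.card_subgroup_dvd_card N
      rwa [hG] at this
    exact ((Nat.Prime.coprime_iff_not_dvd (by norm_num)).2 h7).symm.dvd_of_dvd_mul_right this
  rw [show (1728 : ℕ) = 2 ^ 6 * 3 ^ 3 by norm_num] at hd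
  obtain ⟨d₁, d₂, hd₁, hd₂, he⟩ := exists_dvd_and_dvd_of_dvd_mul hd
  obtain ⟨a, ha, rfl⟩ := (Nat.dvd_prime_pow Nat.prime_two).1 hd₁
  obtain ⟨b, hb, rfl⟩ := (Nat.dvd_prime_pow Nat.prime_three).1 hd₂
  haveI : Fact (Nat.Prime 2) := ⟨Nat.prime_two⟩
  haveI : Fact (Nat.Prime 3) := ⟨Nat.prime_three⟩
  obtain ⟨S⟩ : Nonempty (Sylow 2 N) := inferInstance
  obtain ⟨T⟩ : Nonempty (Sylow 3 N) := inferInstance
  have h2 := key 2 a Nat.prime_two (by norm_num) S (by
    rw [S.card_eq_multiplicity, he, Nat.factorization_mul (by positivity) (by positivity),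
      Finsupp.add_apply, Nat.prime_two.factorization_pow, Finsupp.single_eq_same,
      Nat.factorization_eq_zero_of_not_dvd (fun h => by
        have := Nat.prime_two.prime.dvd_of_dvd_pow h
        norm_num at this : ¬ 2 ∣ 3 ^ b), add_zero])
  have h3 := key 3 b Nat.prime_three (by norm_num) T (by
    rw [T.card_eq_multiplicity, he, Nat.factorization_mul (by positivity) (by positivity),
      Finsupp.add_apply, Nat.prime_three.factorization_pow, Finsupp.single_eq_same,
      Nat.factorization_eq_zero_of_not_dvd (fun h => by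
        have := Nat.prime_three.prime.dvd_of_dvd_pow h
        norm_num at this : ¬ 3 ∣ 2 ^ a), zero_add])
  rw [he]
  interval_cases b <;> first | omega | (interval_cases a <;> first | omega | norm_num at h2 ⊢)

/-- A group of order eight has fewer than 504 automorphisms. -/
theorem card_mulAut_eight {R : Type u} [Group R] [Finite R] (hR : Nat.card R = 8) :
    Nat.card (MulAut R) < 504 := by
  classical
  have next_ : ∀ H : Subgroup R, H ≠ ⊤ → ∃ g, g ∉ H ∧ 2 * Nat.card H ≤ Nat.card (H ⊔ Subgroup.zpowers g : Subgroup R) := by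
    intro H hH
    obtain ⟨g, hg⟩ : ∃ g, g ∉ H := by
      by_contra h; push Not at h; exact hH (Subgroup.eq_top_iff' H |>.2 h)
    refine ⟨g, hg, ?_⟩
    obtain ⟨j, hj⟩ := Subgroup.card_dvd_of_le (le_sup_left : H ≤ H ⊔ Subgroup.zpowers g)
    rcases Nat.lt_or_ge j 2 with h | h
    · exfalso
      have : H = H ⊔ Subgroup.zpowers g := Subgroup.eq_of_le_of_card_ge le_sup_left (by
        rw [hj]; interval_cases j <;> simp)
      exact hg (this ▸ (le_sup_right (a := H)) (Subgroup.mem_zpowers g))
    · rw [hj, mul_comm 2]; exact Nat.mul_le_mul le_rfl h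
  obtain ⟨g, hg⟩ : ∃ g : Fin 3 → R, Subgroup.closure (Set.range g) = ⊤ := by
    have step : ∀ n, ∃ g : Fin n → R, Subgroup.closure (Set.range g) = ⊤ ∨
        2 ^ n ≤ Nat.card (Subgroup.closure (Set.range g)) := by
      intro n
      induction n with
      | zero => exact ⟨Fin.elim0, Or.inr (by simpa using Nat.card_pos)⟩
      | succ n ih =>
        obtain ⟨g, hg⟩ := ih
        by_cases ht : Subgroup.closure (Set.range g) = ⊤
        · refine ⟨Fin.cons 1 g, Or.inl (top_le_iff.1 (ht ▸ Subgroup.closure_mono ?_))⟩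
          rintro _ ⟨i, rfl⟩
          exact ⟨i.succ, by simp⟩
        · obtain ⟨r, -, hr⟩ := next_ _ ht
          refine ⟨Fin.cons r g, Or.inr ?_⟩
          have h := hg.resolve_left ht
          refine le_trans ?_ (Subgroup.card_le_of_le (show Subgroup.closure (Set.range g) ⊔
            Subgroup.zpowers r ≤ Subgroup.closure (Set.range (Fin.cons r g : Fin (n + 1) → R)) from
              sup_le (Subgroup.closure_mono (by rintro _ ⟨i, rfl⟩; exact ⟨i.succ, by simp⟩))
                (Subgroup.zpowers_le.2 (Subgroup.subset_closure ⟨0, by simp⟩))))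
          rw [pow_succ]
          omega
    obtain ⟨g, hg | hg⟩ := step 3
    · exact ⟨g, hg⟩
    · exact ⟨g, Subgroup.eq_top_of_le_card _ (by rw [hR]; exact hg)⟩
  let f : MulAut R → {v : Fin 3 → R // ∀ i, g i ≠ 1 → v i ≠ 1} := fun σ =>
    ⟨fun i => σ (g i), fun i hi e => hi (σ.injective (e.trans (map_one σ).symm))⟩
  have hf : Function.Injective f := by
    intro σ τ h
    have he : σ.toMonoidHom = τ.toMonoidHom := MonoidHom.eq_of_eqOn_dense hg (by
      rintro _ ⟨i, rfl⟩
      exact congrFun (congrArg Subtype.val h) i)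
    exact MulEquiv.ext fun r => DFunLike.congr_fun he r
  by_cases hall : ∀ i, g i ≠ 1
  · refine lt_of_le_of_lt (Nat.card_le_card_of_injective f hf) ?_
    haveI := Fintype.ofFinite R
    let e : {v : Fin 3 → R // ∀ i, g i ≠ 1 → v i ≠ 1} → (Fin 3 → {r : R // r ≠ 1}) :=
      fun v i => ⟨v.1 i, v.2 i (hall i)⟩
    have he : Function.Injective e := fun v w h =>
      Subtype.ext (funext fun i => congrArg Subtype.val (congrFun h i))
    refine lt_of_le_of_lt (Nat.card_le_card_of_injective e he) ?_
    rw [Nat.card_fun, Nat.card_eq_fintype_card, Fintype.card_subtype_compl, Fintype.card_subtype_eq,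
      ← Nat.card_eq_fintype_card, hR, Nat.card_fin]
    norm_num
  · push Not at hall
    obtain ⟨i₀, hi₀⟩ := hall
    let e : MulAut R → ({i : Fin 3 // i ≠ i₀} → R) := fun σ i => σ (g i)
    have he : Function.Injective e := by
      intro σ τ h
      refine hf (Subtype.ext (funext fun i => ?_))
      by_cases hi : i = i₀
      · show σ (g i) = τ (g i)
        rw [hi, hi₀, map_one, map_one]
      · exact congrFun h ⟨i, hi⟩
    refine lt_of_le_of_lt (Nat.card_le_card_of_injective e he) ?_
    rw [Nat.card_fun, hR, Nat.card_eq_fintype_card, Fintype.card_subtype_compl,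
      Fintype.card_subtype_eq, Fintype.card_fin]
    norm_num

/-- The simple subgroup of index two. -/
theorem exists_simple (hG : Nat.card G = 12096) (hc : Clean G) :
    ∃ S : Subgroup G, S.Normal ∧ IsSimpleGroup S ∧ Nat.card S = 6048 ∧
      ∀ g : G, (∀ s ∈ S, g * s = s * g) → g = 1 := by
  classical
  haveI : Fact (Nat.Prime 7) := ⟨by norm_num⟩
  obtain ⟨P⟩ : Nonempty (Sylow 7 G) := inferInstance
  have hP : Nat.card (P : Subgroup G) = 7 := by
    rw [P.card_eq_multiplicity, hG, show (12096 : ℕ) = 7 ^ 1 * 1728 by norm_num,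
      Nat.factorization_mul (by norm_num) (by norm_num), Finsupp.add_apply,
      Nat.Prime.factorization_pow (by norm_num), Finsupp.single_eq_same,
      Nat.factorization_eq_zero_of_not_dvd (by norm_num : ¬ 7 ∣ 1728)]
    norm_num
  set T := Subgroup.normalClosure ((P : Subgroup G) : Set G) with hT
  have hPT : (P : Subgroup G) ≤ T := Subgroup.subset_normalClosure
  have h7T : 7 ∣ Nat.card T := hP ▸ Subgroup.card_dvd_of_le hPT
  set PT : Sylow 7 T := P.subtype hPT with hPTdef
  have hPTc : Nat.card (PT : Subgroup T) = 7 := by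
    rw [hPTdef, Sylow.coe_subtype]
    exact (Nat.card_congr (Subgroup.subgroupOfEquivOfLe hPT).toEquiv).trans hP
  have hdT : Nat.card T ∣ 12096 := hG ▸ Subgroup.card_subgroup_dvd_card T
  have hcT := hc.subgroup T
  -- subgroups containing a Sylow subgroup are everything
  have htop : ∀ K : Subgroup T, K.Normal → 7 ∣ Nat.card K → K = ⊤ := by
    intro K hK hd
    obtain ⟨y, hy⟩ := exists_prime_orderOf_dvd_card' 7 hd
    rw [← Subgroup.orderOf_coe] at hy
    obtain ⟨Q, hQ⟩ := (IsPGroup.of_card (p := 7) (n := 1)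
      (show Nat.card (Subgroup.zpowers (y : T)) = 7 ^ 1 by
        rw [Nat.card_zpowers, hy, pow_one])).exists_le_sylow
    have hQK : (Q : Subgroup T) ≤ K := by
      rw [← Subgroup.eq_of_le_of_card_ge hQ (by
        rw [Nat.card_zpowers, hy]
        exact (Q.card_eq_multiplicity.trans (PT.card_eq_multiplicity.symm.trans hPTc)).le)]
      exact Subgroup.zpowers_le.2 y.2
    have hall : ∀ R : Sylow 7 T, (R : Subgroup T) ≤ K := by
      intro R
      obtain ⟨t, rfl⟩ := MulAction.exists_smul_eq T Q R
      rw [Sylow.coe_subgroup_smul, ← Subgroup.Normal.conjAct hK (ConjAct.toConjAct t)]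
      exact Subgroup.pointwise_smul_le_pointwise_smul_iff.2 hQK
    rw [eq_top_iff]
    have hTK : T ≤ K.map T.subtype := by
      conv_lhs => rw [hT, Subgroup.normalClosure]
      rw [Subgroup.closure_le]
      intro z hz
      obtain ⟨p, hp, hpz⟩ := Group.mem_conjugatesOfSet_iff.1 hz
      obtain ⟨g, rfl⟩ := isConj_iff.1 hpz
      have hgT : g * p * g⁻¹ ∈ T :=
        Subgroup.normalClosure_normal.conj_mem p (hPT hp) g
      obtain ⟨i, hi⟩ := P.isPGroup' ⟨p, hp⟩
      have hq : IsPGroup 7 (Subgroup.zpowers (⟨g * p * g⁻¹, hgT⟩ : T)) := by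
        refine IsPGroup.iff_card.2 ?_
        have hpow : (⟨g * p * g⁻¹, hgT⟩ : T) ^ 7 ^ i = 1 := Subtype.ext (by
          rw [Subgroup.coe_pow, conj_pow, show p ^ 7 ^ i = 1 from congrArg Subtype.val hi, mul_one,
            mul_inv_cancel]
          rfl)
        obtain ⟨j, -, hj⟩ := (Nat.dvd_prime_pow (Fact.out : Nat.Prime 7)).1 (orderOf_dvd_of_pow_eq_one hpow)
        exact ⟨j, by rw [Nat.card_zpowers, hj]⟩
      obtain ⟨R, hR⟩ := hq.exists_le_sylow
      exact ⟨⟨g * p * g⁻¹, hgT⟩, hall R (hR (Subgroup.mem_zpowers _)), rfl⟩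
    intro t _
    obtain ⟨k, hk, e⟩ := hTK t.2
    rwa [show t = k from Subtype.ext e.symm]
  -- the greatest normal subgroup of order prime to seven
  set 𝒦 : Set (Subgroup T) := {K | K.Normal ∧ ¬ 7 ∣ Nat.card K} with h𝒦
  obtain ⟨R, ⟨hRn, hR7⟩, hRmax⟩ := Set.Finite.exists_maximal (s := 𝒦) (Set.toFinite _)
    ⟨⊥, inferInstance, by rw [Subgroup.card_bot]; norm_num⟩
  haveI := hRn
  have hgreat : ∀ K : Subgroup T, K.Normal → ¬ 7 ∣ Nat.card K → K ≤ R := by
    intro K hK h7
    haveI := hK
    have hsup : R ⊔ K ∈ 𝒦 := by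
      refine ⟨inferInstance, fun hd => ?_⟩
      have h := K.relIndex_sup_right (H := R)
      have h1 : Nat.card K * K.relIndex (R ⊔ K) = Nat.card (R ⊔ K : Subgroup T) := by
        rw [Subgroup.relIndex, ← Nat.card_congr (Subgroup.subgroupOfEquivOfLe
          (le_sup_right : K ≤ R ⊔ K)).toEquiv, Subgroup.card_mul_index]
      rw [← h1, h] at hd
      rcases (Nat.Prime.dvd_mul (by norm_num)).1 hd with hd | hd
      · exact h7 hd
      · exact hR7 (hd.trans (Subgroup.index_dvd_card _))
    exact le_sup_right.trans (hRmax hsup le_sup_left)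
  set R' : Subgroup G := R.map T.subtype with hR'
  have hR'c : Nat.card R' = Nat.card R :=
    (Nat.card_congr (Subgroup.equivMapOfInjective _ _ T.subtype_injective).toEquiv).symm
  haveI hR'n : R'.Normal := by
    refine ⟨fun z hz g => ?_⟩
    obtain ⟨r, hr, rfl⟩ := hz
    set σ : T ≃* T := MulAut.conjNormal g
    have hle : R.map σ.toMonoidHom ≤ R := hgreat _ (hRn.map _ σ.surjective) (by
      rw [Subgroup.card_map_of_injective (f := σ.toMonoidHom) σ.injective]; exact hR7)
    exact ⟨σ r, hle ⟨r, hr, rfl⟩, by simp [σ, MulAut.conjNormal_apply]⟩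
  have hR7' : ¬ 7 ∣ Nat.card R' := by rwa [hR'c]
  have hRcard := seven_free hG hc hR7'
  rw [hR'c] at hRcard
  -- the normalizer of a Sylow subgroup
  set N := Subgroup.normalizer ((P : Subgroup G) : Set G) with hN
  have hCP := cent_seven hc (by rw [hG]) (P : Subgroup G) hP
  have hautP : Nat.card (MulAut (P : Subgroup G)) = 6 := by
    haveI := isCyclic_of_prime_card (p := 7) hP
    rw [IsCyclic.card_mulAut, hP]
    decide
  have hN42 : Nat.card N ∣ 42 := by
    have h1 := Subgroup.card_dvd_of_injective _
      (QuotientGroup.kerLift_injective (Subgroup.normalizerMonoidHom (P : Subgroup G)))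
    rw [hautP, ← Subgroup.index_eq_card] at h1
    have h2 := (Subgroup.normalizerMonoidHom (P : Subgroup G)).ker.card_mul_index
    have h3 : Nat.card (Subgroup.normalizerMonoidHom (P : Subgroup G)).ker = 7 := by
      rw [Subgroup.normalizerMonoidHom_ker, hCP,
        Nat.card_congr (Subgroup.subgroupOfEquivOfLe Subgroup.le_normalizer).toEquiv, hP]
    rw [h3] at h2
    rw [← h2, show (42 : ℕ) = 7 * 6 by norm_num]
    exact Nat.mul_dvd_mul_left 7 h1
  set NT := Subgroup.normalizer ((PT : Subgroup T) : Set T) with hNT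
  have hsupN : N ⊔ T = ⊤ := Sylow.normalizer_sup_eq_top' P hPT
  have hidx : T.relIndex N = T.index := by
    have h := T.relIndex_sup_right (H := N)
    rw [hsupN, Subgroup.relIndex_top_right] at h
    exact h.symm
  have hNTc : Nat.card NT * T.index = Nat.card N := by
    rw [← hidx, Subgroup.relIndex]
    have e : NT = N.subgroupOf T := by
      rw [hNT, hPTdef, Sylow.coe_subtype, hN]
      exact (Subgroup.subgroupOf_normalizer_eq hPT).symm
    rw [e, show Nat.card (N.subgroupOf T) = Nat.card (T.subgroupOf N) from ?_,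
      Subgroup.card_mul_index]
    rw [Nat.card_congr (Subgroup.equivMapOfInjective (N.subgroupOf T) _ T.subtype_injective).toEquiv,
      Nat.card_congr (Subgroup.equivMapOfInjective (T.subgroupOf N) _ N.subtype_injective).toEquiv,
      Subgroup.subgroupOf_map_subtype, Subgroup.subgroupOf_map_subtype, inf_comm]
  have hTi := T.card_mul_index
  rw [hG] at hTi
  have hns : 7 ∣ Nat.card NT := hPTc ▸ Subgroup.card_dvd_of_le Subgroup.le_normalizer
  have hCT := cent_seven hcT hdT (PT : Subgroup T) hPTc
  -- the quotient is simple and non-abelian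
  have hne : PT.toSubgroup ≠ NT := by
    intro e
    have hle : NT ≤ Subgroup.centralizer ((PT : Subgroup T) : Set T) := by rw [hCT, e]
    have hcpl := MonoidHom.ker_transferSylow_isComplement' PT hle
    set K := (MonoidHom.transferSylow PT hle).ker with hK
    have hK7 : Nat.card K * 7 = Nat.card T := by rw [← hPTc]; exact hcpl.card_mul
    have hK7' : ¬ 7 ∣ Nat.card K := fun hd => by
      have h49 : 7 * 7 ∣ 12096 := (Nat.mul_dvd_mul hd dvd_rfl).trans (hK7 ▸ hdT)
      norm_num at h49
    have hK1 : Nat.card K ∣ 64 :=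
      (Subgroup.card_dvd_of_le (hgreat K inferInstance hK7')).trans (by
        rcases hRcard with h | h | h <;> rw [h] <;> norm_num)
    rw [← e, hPTc] at hNTc
    have h1 : T.index ∣ 6 := by
      obtain ⟨c, hc'⟩ := hN42
      exact ⟨c, by rw [← hNTc] at hc'; nlinarith⟩
    have h2 : 12096 ∣ 64 * 7 * 6 := by
      rw [← hTi, ← hK7]
      exact Nat.mul_dvd_mul (Nat.mul_dvd_mul hK1 dvd_rfl) h1
    norm_num at h2
  have hn7 := Sylow.card_eq_index_normalizer PT
  have hmod := card_sylow_modEq_one 7 T
  rw [hn7, Nat.ModEq] at hmod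
  change NT.index % 7 = 1 % 7 at hmod
  have hTN := NT.card_mul_index
  obtain ⟨e, he⟩ := hns
  have he2 : 2 ≤ e := by
    rcases Nat.lt_or_ge e 2 with h | h
    · interval_cases e
      · exact absurd he (Nat.card_pos (α := NT)).ne'
      · exact absurd (Subgroup.eq_of_le_of_card_ge Subgroup.le_normalizer (by rw [he, hPTc])) hne
    · exact h
  have hei : e * T.index ∣ 6 := by
    have : 7 * (e * T.index) ∣ 7 * 6 := by
      rw [← mul_assoc, ← he, hNTc]; exact hN42
    exact Nat.dvd_of_mul_dvd_mul_left (by norm_num) this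
  have hTi0 : 0 < T.index := Nat.pos_of_ne_zero T.index_ne_zero_of_finite
  have hprod : e * T.index * NT.index = 1728 := by
    rw [← hTN, he] at hTi; nlinarith
  have hcases : Nat.card T = 4032 ∧ T.index = 3 ∨ Nat.card T = 6048 ∧ T.index = 2 ∨
      Nat.card T = 12096 ∧ T.index = 1 ∧ e = 6 := by
    have hle := Nat.le_of_dvd (by norm_num) hei
    have h6 : e * T.index = 6 := by
      have : e * T.index = 2 ∨ e * T.index = 3 ∨ e * T.index = 6 := by
        have h2 : 2 ≤ e * T.index := le_trans he2 (Nat.le_mul_of_pos_right e hTi0)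
        generalize e * T.index = j at hei h2 hle
        interval_cases j <;> omega
      rcases this with h | h | h
      · rw [h] at hprod; omega
      · rw [h] at hprod; omega
      · exact h
    have : T.index ≤ 3 := by nlinarith
    interval_cases T.index <;> omega
  have hRbot : R = ⊥ := by
    rcases hRcard with h | h | h
    · exact Subgroup.eq_bot_of_card_eq R h
    · exfalso
      let φ : T →* MulAut R := MulAut.conjNormal
      have hker : φ.ker ≤ R := hgreat _ inferInstance fun hd => by
        obtain ⟨k, hk⟩ := exists_prime_orderOf_dvd_card' 7 hd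
        rw [← Subgroup.orderOf_coe] at hk
        obtain ⟨r, hr⟩ := exists_prime_orderOf_dvd_card' (G := R) 2 (hp := ⟨Nat.prime_two⟩)
          (by rw [h]; norm_num)
        rw [← Subgroup.orderOf_coe] at hr
        have e1 : φ k r = r := by rw [MonoidHom.mem_ker.1 k.2]; rfl
        have e2 : (k : T) * r * (k : T)⁻¹ = r := by
          have := congrArg Subtype.val e1
          simpa [φ, MulAut.conjNormal_apply] using this
        have h7r := seven_commute hcT hdT hk (g := (r : T)) (mul_inv_eq_iff_eq_mul.1 e2).symm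
        rw [hr] at h7r
        norm_num at h7r
      have h1 := φ.ker.card_mul_index
      have h2 : φ.ker.index ≤ Nat.card (MulAut R) := by
        rw [Subgroup.index_eq_card]
        exact Nat.card_le_card_of_injective _ (QuotientGroup.kerLift_injective φ)
      have h3 := Nat.le_of_dvd (by rw [h]; norm_num) (Subgroup.card_dvd_of_le hker)
      rw [h] at h3
      have h4 := card_mulAut_eight h
      rcases hcases with ⟨hc', -⟩ | ⟨hc', -⟩ | ⟨hc', -⟩ <;> nlinarith
    · exfalso
      obtain ⟨j, hj⟩ : 64 ∣ Nat.card T := h ▸ Subgroup.card_subgroup_dvd_card R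
      rcases hcases with ⟨hc', -⟩ | ⟨hc', -⟩ | ⟨hc', hTi1, -⟩
      · -- an odd simple group
        haveI : Nontrivial (T ⧸ R) := by
          rw [← Finite.one_lt_card_iff_nontrivial, ← Subgroup.index_eq_card]
          have := R.card_mul_index
          rw [h, hc'] at this
          omega
        haveI : IsSimpleGroup (T ⧸ R) := ⟨fun K hK => by
          by_cases hd : 7 ∣ Nat.card (K.comap (QuotientGroup.mk' R))
          · right
            have := htop _ (hK.comap _) hd
            rw [← Subgroup.comap_top (QuotientGroup.mk' R)] at this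
            exact Subgroup.comap_injective (QuotientGroup.mk'_surjective R) this
          · left
            have := hgreat _ (hK.comap _) hd
            rw [← Subgroup.map_comap_eq_self_of_surjective (QuotientGroup.mk'_surjective R) K,
              eq_bot_iff]
            refine (Subgroup.map_mono this).trans ?_
            rw [QuotientGroup.map_mk'_self]⟩
        have hq : Nat.card (T ⧸ R) = 63 := by
          have := R.card_mul_index
          rw [h, hc', Subgroup.index_eq_card] at this
          omega
        refine Fus.SmallOrd.two_primes (G := T ⧸ R) (fun hcm => ?_) Nat.prime_three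
          (by norm_num : Nat.Prime 7) (a := 2) (b := 1) (by rw [hq]; norm_num)
        have := Cfsg.Agent.Char.card_prime_of_simple_of_comm (G := T ⧸ R) fun a b => hcm.1.1 a b
        rw [hq] at this
        norm_num at this
      · omega
      · haveI : Nontrivial (T ⧸ R) := by
          rw [← Finite.one_lt_card_iff_nontrivial, ← Subgroup.index_eq_card]
          have := R.card_mul_index
          rw [h, hc'] at this
          omega
        haveI : IsSimpleGroup (T ⧸ R) := ⟨fun K hK => by
          by_cases hd : 7 ∣ Nat.card (K.comap (QuotientGroup.mk' R))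
          · right
            have := htop _ (hK.comap _) hd
            rw [← Subgroup.comap_top (QuotientGroup.mk' R)] at this
            exact Subgroup.comap_injective (QuotientGroup.mk'_surjective R) this
          · left
            have := hgreat _ (hK.comap _) hd
            rw [← Subgroup.map_comap_eq_self_of_surjective (QuotientGroup.mk'_surjective R) K,
              eq_bot_iff]
            refine (Subgroup.map_mono this).trans ?_
            rw [QuotientGroup.map_mk'_self]⟩
        have hq : Nat.card (T ⧸ R) = 189 := by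
          have := R.card_mul_index
          rw [h, hc', Subgroup.index_eq_card] at this
          omega
        refine Fus.SmallOrd.two_primes (G := T ⧸ R) (fun hcm => ?_) Nat.prime_three
          (by norm_num : Nat.Prime 7) (a := 3) (b := 1) (by rw [hq]; norm_num)
        have := Cfsg.Agent.Char.card_prime_of_simple_of_comm (G := T ⧸ R) fun a b => hcm.1.1 a b
        rw [hq] at this
        norm_num at this
  haveI : Nontrivial T := by
    rw [← Finite.one_lt_card_iff_nontrivial]
    rcases hcases with ⟨h, -⟩ | ⟨h, -⟩ | ⟨h, -⟩ <;> omega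
  haveI hTs : IsSimpleGroup T := ⟨fun K hK => by
    by_cases hd : 7 ∣ Nat.card K
    · exact Or.inr (htop K hK hd)
    · exact Or.inl (eq_bot_iff.2 ((hgreat K hK hd).trans hRbot.le))⟩
  have hna : ¬ IsMulCommutative T := fun h => by
    have := Cfsg.Agent.Char.card_prime_of_simple_of_comm (G := T) fun a b => h.1.1 a b
    rcases hcases with ⟨e, -⟩ | ⟨e, -⟩ | ⟨e, -⟩ <;> rw [e] at this <;> norm_num at this
  rcases hcases with ⟨hc', -⟩ | ⟨hc', hi⟩ | ⟨hc', hi, he6⟩
  · exfalso
    rcases S0983.result hna (by rw [hc']; norm_num) (by rw [hc']; norm_num) with h | h | h | h <;>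
      omega
  · refine ⟨T, Subgroup.normalClosure_normal, hTs, hc', fun g hg => ?_⟩
    set C := Subgroup.centralizer (T : Set G) with hC
    haveI : C.Normal := Subgroup.normal_centralizer
    have hbot : C ⊓ T = ⊥ := by
      have hZ : (C.subgroupOf T) = ⊥ := by
        rcases hTs.2 _ (inferInstance : (C.subgroupOf T).Normal) with h | h
        · exact h
        · exfalso
          refine hna ⟨⟨fun a b => Subtype.ext ?_⟩⟩
          have hb : (b : G) ∈ C := Subgroup.subgroupOf_eq_top.1 h b.2
          exact (Subgroup.mem_centralizer_iff.1 hb a a.2)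
      rw [← Subgroup.subgroupOf_map_subtype, hZ, Subgroup.map_bot]
    have h2 : Nat.card C ∣ 2 := by
      have h := T.relIndex_dvd_index_of_normal C
      rw [hi, ← Subgroup.inf_relIndex_right, inf_comm, hbot, Subgroup.relIndex_bot_left] at h
      exact h
    have h7C : ¬ 7 ∣ Nat.card C := fun hd => by have := hd.trans h2; norm_num at this
    have h1 : Nat.card C = 1 := by
      rcases seven_free hG hc h7C with h | h | h
      · exact h
      all_goals rw [h] at h2; norm_num at h2
    exact Subgroup.eq_bot_iff_forall _ |>.1 (Subgroup.eq_bot_of_card_eq C h1) g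
      (Subgroup.mem_centralizer_iff.2 fun s hs => (hg s hs).symm)
  · exfalso
    refine ne_12096 (G := T) hna hc' PT hPTc (by rw [hCT, hPTc]) ?_
    rw [hCT, Subgroup.relIndex]
    have h := ((PT : Subgroup T).subgroupOf NT).card_mul_index
    rw [Nat.card_congr (Subgroup.subgroupOfEquivOfLe Subgroup.le_normalizer).toEquiv, hPTc, he,
      he6] at h
    show ((PT : Subgroup T).subgroupOf NT).index = 6
    omega

end Cfsg.Agent.Recog.U33U
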