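import Mathlib
import Cfsg.Agent.Lib.Recog.U33U.AutBound
import Cfsg.Agent.Lib.Recog.U33U.Reduce

/-!
Simple groups of order 6048 without elements of order 9, 14 or 21: no automorphism of order two
fixes an element of order seven, and extensions of index two are isomorphic.
-/

set_option autoImplicit false
set_option linter.style.haveILetI false

namespace Cfsg.Agent.Recog.U33U

open scoped Pointwise
open Cfsg

universe u v

section

variable {G : Type u} [Group G] [Finite G] [IsSimpleGroup G]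

theorem aut_eq_one (hG : Nat.card G = 6048) (h9 : ∀ g : G, orderOf g ≠ 9) (hc : Clean G)
    {τ : MulAut G} (hτ : τ * τ = 1) {x : G} (hx : orderOf x = 7) (hτx : τ x = x) : τ = 1 := by
  classical
  haveI : Fact (Nat.Prime 7) := ⟨by norm_num⟩
  haveI : Fact (Nat.Prime 3) := ⟨Nat.prime_three⟩
  obtain ⟨K⟩ := exists_tab hG h9
  obtain ⟨F⟩ := exists_frame hG h9 K
  have hd : Nat.card G ∣ 12096 := by rw [hG]; norm_num
  set X := Subgroup.zpowers x with hX
  have hXc : Nat.card X = 7 := by rw [hX, Nat.card_zpowers, hx]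
  have hCX := cent_seven hc hd X hXc
  -- an element of order three normalizing the seven-subgroup
  obtain ⟨P, hP⟩ := (IsPGroup.of_card (p := 7) (n := 1) (hXc.trans (pow_one 7).symm)).exists_le_sylow
  have hP7 : Nat.card P = 7 := by
    rw [P.card_eq_multiplicity, hG, show (6048 : ℕ) = 7 ^ 1 * 864 by norm_num,
      Nat.factorization_mul (by norm_num) (by norm_num), Finsupp.add_apply,
      Nat.Prime.factorization_pow (by norm_num), Finsupp.single_eq_same,
      Nat.factorization_eq_zero_of_not_dvd (by norm_num : ¬ 7 ∣ 864)]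
    norm_num
  have hXP : X = (P : Subgroup G) :=
    Subgroup.eq_of_le_of_card_ge hP (by rw [hXc]; exact hP7.le)
  set N := Subgroup.normalizer ((P : Subgroup G) : Set G) with hN
  have h3N : 3 ∣ Nat.card N := by
    have hm := N.card_mul_index
    rw [hG] at hm
    have hmod := card_sylow_modEq_one 7 G
    rw [Sylow.card_eq_index_normalizer P, Nat.ModEq] at hmod
    change N.index % 7 = 1 % 7 at hmod
    have h7N : 7 ∣ Nat.card N := hP7 ▸ Subgroup.card_dvd_of_le Subgroup.le_normalizer
    obtain ⟨j, hj⟩ := h7N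
    have h864 : N.index ∣ 864 := ⟨j, by rw [hj] at hm; nlinarith⟩
    by_contra h3
    have h27 : 27 ∣ N.index := by
      have h : 27 ∣ Nat.card N * N.index := by rw [hm]; norm_num
      refine Nat.Coprime.dvd_of_dvd_mul_left ?_ h
      rw [show (27 : ℕ) = 3 ^ 3 by norm_num]
      exact ((Nat.Prime.coprime_iff_not_dvd Nat.prime_three).2 h3).pow_left 3
    obtain ⟨l, hl⟩ := h27
    rw [hl] at h864 hmod
    have hl32 : l ∣ 32 := Nat.dvd_of_mul_dvd_mul_left (by norm_num : 0 < 27) h864
    have hlle := Nat.le_of_dvd (by norm_num) hl32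
    interval_cases l <;> omega
  obtain ⟨⟨k, hkN⟩, hk⟩ := exists_prime_orderOf_dvd_card' 3 h3N
  rw [Subgroup.orderOf_mk] at hk
  -- which is fixed
  have hk1 : k ≠ 1 := fun e => by rw [e, orderOf_one] at hk; omega
  have hτk : τ k = k := by
    have hkx : k * x * k⁻¹ ∈ X := by
      rw [hXP]
      exact (Subgroup.mem_normalizer_iff.1 hkN x).1 (hXP ▸ Subgroup.mem_zpowers x)
    obtain ⟨j, hj⟩ := Subgroup.mem_zpowers_iff.1 hkx
    have hm : k⁻¹ * τ k ∈ X := by
      have h1 : τ k * x * (τ k)⁻¹ = k * x * k⁻¹ := by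
        calc τ k * x * (τ k)⁻¹ = τ (k * x * k⁻¹) := by rw [map_mul, map_mul, map_inv, hτx]
          _ = k * x * k⁻¹ := by rw [← hj, map_zpow, hτx]
      rw [← hCX]
      refine Subgroup.mem_centralizer_iff.2 fun z hz => ?_
      obtain ⟨i, rfl⟩ := Subgroup.mem_zpowers_iff.1 hz
      refine ((Commute.zpow_left ?_ i)).eq
      show x * (k⁻¹ * τ k) = k⁻¹ * τ k * x
      calc x * (k⁻¹ * τ k) = k⁻¹ * (k * x * k⁻¹) * τ k := by group
        _ = k⁻¹ * (τ k * x * (τ k)⁻¹) * τ k := by rw [h1]
        _ = k⁻¹ * τ k * x := by group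
    obtain ⟨i, hi⟩ := Subgroup.mem_zpowers_iff.1 hm
    have hk' : τ k = k * x ^ i := by rw [hi, mul_inv_cancel_left]
    have h2 : τ (τ k) = k := by rw [← MulAut.mul_apply, hτ, MulAut.one_apply]
    rw [hk', map_mul, map_zpow, hτx, hk', mul_assoc, ← zpow_add, mul_eq_left,
      ← orderOf_dvd_iff_zpow_eq_one, hx] at h2
    have h7i : ((7 : ℕ) : ℤ) ∣ i := by push_cast at h2 ⊢; omega
    rw [hk', orderOf_dvd_iff_zpow_eq_one.1 (hx ▸ h7i), mul_one]
  -- its Sylow subgroup is fixed
  obtain ⟨P₁, hP₁⟩ := (IsPGroup.of_card (p := 3) (n := 1)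
    (show Nat.card (Subgroup.zpowers k) = 3 ^ 1 by rw [Nat.card_zpowers, hk, pow_one])).exists_le_sylow
  have hkP : k ∈ (P₁ : Subgroup G) := hP₁ (Subgroup.mem_zpowers k)
  have hfix₁ : τ • P₁ = P₁ := sylow_inter hG h9 K (P := τ • P₁) (Q := P₁) (g := k) (by
    rw [Sylow.pointwise_smul_def]
    rw [← hτk]
    exact Subgroup.smul_mem_pointwise_smul k τ _ hkP) hkP hk1
  -- the fixed points
  have hfree : ∀ R : Sylow 3 G, x • R ≠ R := fun R e => by
    have h1 := Subgroup.orderOf_dvd_natCard _ ((smul_iff_norm R x).1 e)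
    rw [hx, (norm_card hG h9 K R).1] at h1
    norm_num at h1
  let Fx := {R : Sylow 3 G // τ • R = R}
  letI : MulAction X Fx :=
    { smul := fun g R => ⟨(g : G) • R.1, by
        obtain ⟨i, hi⟩ := Subgroup.mem_zpowers_iff.1 g.2
        rw [aut_smul_smul, R.2, ← hi, map_zpow, hτx]⟩
      one_smul := fun R => Subtype.ext (one_smul G R.1)
      mul_smul := fun g g' R => Subtype.ext (mul_smul (g : G) g' R.1) }
  have h7F : Nat.card Fx % 7 = 0 := by
    have h := (IsPGroup.of_card (p := 7) (n := 1) (hXc.trans (pow_one 7).symm)).card_modEq_card_fixedPoints Fx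
    have he : MulAction.fixedPoints X Fx = ∅ := by
      ext R
      rw [MulAction.mem_fixedPoints, Set.mem_empty_iff_false, iff_false]
      intro hR
      exact hfree R.1 (congrArg Subtype.val (hR ⟨x, Subgroup.mem_zpowers x⟩))
    rw [he, Nat.card_coe_set_eq, Set.ncard_empty, Nat.ModEq] at h
    simpa using h
  obtain ⟨R, hR, hRne⟩ : ∃ R : Sylow 3 G, τ • R = R ∧ R ≠ P₁ := by
    by_contra hn
    push Not at hn
    have : Nat.card Fx = 1 := by
      rw [Nat.card_eq_one_iff_unique]
      exact ⟨⟨fun a b => Subtype.ext ((hn _ a.2).trans (hn _ b.2).symm)⟩, ⟨⟨P₁, hfix₁⟩⟩⟩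
    omega
  -- counted by the centralizer in the Sylow subgroup
  let C : Subgroup G := (P₁ : Subgroup G) ⊓ τ.toMonoidHom.eqLocus (MonoidHom.id G)
  have hmem : ∀ p, p ∈ C ↔ p ∈ (P₁ : Subgroup G) ∧ τ p = p := fun p => Iff.rfl
  have hw : ∀ p ∈ (P₁ : Subgroup G), p • R ≠ P₁ := fun p hp e => hRne (by
    calc R = p⁻¹ • (p • R) := (inv_smul_smul p R).symm
      _ = p⁻¹ • P₁ := by rw [e]
      _ = P₁ := (smul_iff_norm P₁ _).2 (Subgroup.le_normalizer ((P₁ : Subgroup G).inv_mem hp)))
  have hcount : Nat.card Fx = Nat.card C + 1 := by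
    let f : Option C → Fx := fun o => o.elim ⟨P₁, hfix₁⟩ fun p => ⟨(p : G) • R, by
      rw [aut_smul_smul, ((hmem p).1 p.2).2, hR]⟩
    have hinj : Function.Injective f := by
      rintro (_ | a) (_ | b) h
      · rfl
      · exact absurd (congrArg Subtype.val h).symm (hw b ((hmem _).1 b.2).1)
      · exact absurd (congrArg Subtype.val h) (hw a ((hmem _).1 a.2).1)
      · exact congrArg some (Subtype.ext (reg_inj hG h9 K (Ne.symm hRne) ((hmem _).1 a.2).1
          ((hmem _).1 b.2).1 (congrArg Subtype.val h)))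
    have hsurj : Function.Surjective f := by
      rintro ⟨S, hS⟩
      by_cases h : S = P₁
      · exact ⟨none, Subtype.ext h.symm⟩
      obtain ⟨p, hp, hpS⟩ := reg_surj hG h9 K (Ne.symm hRne) h
      have hτp : τ p ∈ (P₁ : Subgroup G) := by
        have e : (P₁ : Subgroup G) = τ • (P₁ : Subgroup G) := by
          conv_lhs => rw [← hfix₁]
          rfl
        rw [e]
        exact Subgroup.smul_mem_pointwise_smul p τ _ hp
      have e : τ p = p := reg_inj hG h9 K (Ne.symm hRne) hτp hp (by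
        conv_lhs => rw [← hR, ← aut_smul_smul, hpS, hS]
        exact hpS.symm)
      exact ⟨some ⟨p, (hmem p).2 ⟨hp, e⟩⟩, Subtype.ext hpS⟩
    rw [← Nat.card_congr (Equiv.ofBijective f ⟨hinj, hsurj⟩), Finite.card_option]
  have hC27 : Nat.card C = 27 := by
    have h1 : Nat.card C ∣ 27 := sylow_three hG P₁ ▸ Subgroup.card_dvd_of_le inf_le_left
    rw [show (27 : ℕ) = 3 ^ 3 by norm_num, Nat.dvd_prime_pow Nat.prime_three] at h1
    obtain ⟨i, hi, hi'⟩ := h1
    rw [hcount, hi'] at h7F
    interval_cases i <;> first | omega | simpa using hi'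
  have hall : ∀ S : Sylow 3 G, τ • S = S := by
    have hc28 : Nat.card Fx = Nat.card (Sylow 3 G) := by
      rw [hcount, hC27, (norm_card hG h9 K P₁).2]
    haveI := Fintype.ofFinite (Sylow 3 G)
    intro S
    have hbij : Function.Bijective (Subtype.val : Fx → Sylow 3 G) :=
      (Fintype.bijective_iff_injective_and_card _).2 ⟨Subtype.val_injective, by
        rw [← Nat.card_eq_fintype_card, ← Nat.card_eq_fintype_card, hc28]⟩
    obtain ⟨⟨S', hS'⟩, rfl⟩ := hbij.2 S
    exact hS'
  refine MulEquiv.ext fun g => F.act_inj fun i hi => F.act_eq (F.act_lt _ _) ?_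
  rw [F.pt_act]
  calc τ g • F.pt i = τ g • (τ • F.pt i) := by rw [hall]
    _ = g • F.pt i := by rw [← aut_smul_smul, hall]
    _ = _ := rfl

end

/-- An extension of index two is the automorphism group. -/
theorem equiv_mulAut {G : Type u} [Group G] [Finite G] (hG : Nat.card G = 12096) (S : Subgroup G)
    [S.Normal] [IsSimpleGroup S] (hS : Nat.card S = 6048) (h9 : ∀ s : S, orderOf s ≠ 9)
    (hC : ∀ g : G, (∀ s ∈ S, g * s = s * g) → g = 1) : Nonempty (G ≃* MulAut S) := by
  obtain ⟨K⟩ := exists_tab hS h9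
  obtain ⟨F⟩ := exists_frame hS h9 K
  haveI : Finite (MulAut S) := Finite.of_injective (fun σ => (σ : S → S)) DFunLike.coe_injective
  have hinj : Function.Injective (MulAut.conjNormal (H := S) : G →* MulAut S) :=
    (injective_iff_map_eq_one _).2 fun g hg => hC g fun s hs => by
      have h := congrArg Subtype.val (DFunLike.congr_fun hg ⟨s, hs⟩)
      rw [MulAut.conjNormal_apply, MulAut.one_apply] at h
      exact mul_inv_eq_iff_eq_mul.1 h
  have hle := F.card_mulAut_le
  have hge := Nat.card_le_card_of_injective _ hinj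
  have hb : Function.Bijective (MulAut.conjNormal (H := S) : G →* MulAut S) :=
    (Nat.bijective_iff_injective_and_card _).2 ⟨hinj, by omega⟩
  exact ⟨MulEquiv.ofBijective _ hb⟩

/-- Two such extensions are isomorphic. -/
theorem ext_unique {G : Type u} [Group G] [Finite G] {H : Type v} [Group H] [Finite H]
    (hG : Nat.card G = 12096) (S : Subgroup G) [S.Normal] [IsSimpleGroup S] (hS : Nat.card S = 6048)
    (h9 : ∀ s : S, orderOf s ≠ 9) (hC : ∀ g : G, (∀ s ∈ S, g * s = s * g) → g = 1)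
    (hH : Nat.card H = 12096) (T : Subgroup H) [T.Normal] [IsSimpleGroup T] (hT : Nat.card T = 6048)
    (h9' : ∀ t : T, orderOf t ≠ 9) (hC' : ∀ g : H, (∀ t ∈ T, g * t = t * g) → g = 1) :
    Nonempty (G ≃* H) := by
  obtain ⟨e₁⟩ := equiv_mulAut hG S hS h9 hC
  obtain ⟨e₂⟩ := equiv_mulAut hH T hT h9' hC'
  obtain ⟨e⟩ := nonempty_equiv (G := S) (H := T) hS h9 hT h9'
  exact ⟨e₁.trans ((MulAut.congr e).trans e₂.symm)⟩

end Cfsg.Agent.Recog.U33U
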