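import Mathlib
import Cfsg.Agent.Lib.Recog.U33U.Outer
import Cfsg.Agent.Lib.Recog.SpectrumPSU3Three
import Cfsg.Agent.Lib.Lie.Chev.G2Two
import Cfsg.Agent.S0280
import Cfsg.Agent.S0283
import Cfsg.Agent.S1057
import Cfsg.Agent.S1059

/-!
The group of type G₂ over the field with two elements: its element orders avoid 9, 14 and 21, and
it is the only group of its order with this property.
-/

set_option autoImplicit false
set_option linter.style.haveILetI false

namespace Cfsg.Agent.Recog.U33U

open Cfsg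

universe u v

theorem gTwoTwo_facts {F : Type v} [Field F] [Fintype F] (hF : Fintype.card F = 2) :
    Nat.card ↥(Cfsg.Lie.chevG2.group F) = 12096 ∧
    (∀ g : ↥(Cfsg.Lie.chevG2.group F), orderOf g ≠ 9) ∧ Clean ↥(Cfsg.Lie.chevG2.group F) ∧
    ∃ S : Subgroup ↥(Cfsg.Lie.chevG2.group F), S.Normal ∧ IsSimpleGroup S ∧ Nat.card S = 6048 ∧
      ∀ g, (∀ s ∈ S, g * s = s * g) → g = 1 := by
  classical
  haveI : CharP F 2 := charP_of_card_eq_prime (hp := ⟨Nat.prime_two⟩) hF
  have hF2 : ∀ t : F, t = 0 ∨ t = 1 := by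
    intro t
    by_contra h
    push Not at h
    have hs : ({0, 1, t} : Finset F).card ≤ Fintype.card F := Finset.card_le_univ _
    rw [hF, Finset.card_insert_of_notMem (by simp [h.1.symm]),
      Finset.card_insert_of_notMem (by simp [h.2.symm]), Finset.card_singleton] at hs
    omega
  have hM : Nat.card ↥(Cfsg.Lie.chevG2.group F) = 12096 := by
    rw [Cfsg.Agent.S1059.result hF]
    norm_num
  haveI : Finite ↥(Cfsg.Lie.chevG2.group F) := Nat.finite_of_card_ne_zero (by rw [hM]; norm_num)
  haveI : Fact (Nat.Prime 3) := ⟨Nat.prime_three⟩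
  letI : Fintype (GaloisField 3 2) := Fintype.ofFinite _
  have hK : Fintype.card (GaloisField 3 2) = 9 := by
    rw [← Nat.card_eq_fintype_card, GaloisField.card 3 2 two_ne_zero]
    norm_num
  set S := commutator ↥(Cfsg.Lie.chevG2.group F) with hS
  obtain ⟨e⟩ := Cfsg.Agent.S1057.result (F := F) (K := GaloisField 3 2) hF hK
  haveI : IsSimpleGroup (Cfsg.PSU 3 (GaloisField 3 2) 3) :=
    Cfsg.Agent.S0283.result (by rw [hK]; norm_num) 3 le_rfl (by norm_num)
  have hU : Nat.card (Cfsg.PSU 3 (GaloisField 3 2) 3) = 6048 := by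
    have h := Cfsg.Agent.S0280.result (F := GaloisField 3 2) (q := 3) (by rw [hK]; norm_num) 3 (by norm_num)
    rw [show Nat.gcd 3 (3 + 1) = 1 by decide] at h
    norm_num [Finset.prod_range_succ, Nat.even_iff] at h
    rw [Nat.card_eq_fintype_card]
    omega
  have hSc : Nat.card S = 6048 := (Nat.card_congr e.toEquiv).trans hU
  haveI : Nontrivial S := by rw [← Finite.one_lt_card_iff_nontrivial, hSc]; norm_num
  haveI hSs : IsSimpleGroup S := e.isSimpleGroup
  have hord : ∀ s : S, orderOf s ∈ ({1, 2, 3, 4, 6, 7, 8, 12} : Set ℕ) := fun s => by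
    rw [← Cfsg.Agent.SpectrumPSU3Three.range_orderOf hK]
    exact ⟨e s, e.orderOf_eq s⟩
  have hS9 : ∀ s : S, orderOf s ≠ 9 := fun s h => by have := hord s; rw [h] at this; simp at this
  have hScl : Clean S := fun s =>
    ⟨fun h => by have := hord s; rw [h] at this; simp at this,
      fun h => by have := hord s; rw [h] at this; simp at this⟩
  have hidx : S.index = 2 := by
    have := S.card_mul_index
    rw [hSc, hM] at this
    omega
  have hsq : ∀ g : ↥(Cfsg.Lie.chevG2.group F), g ^ 2 ∈ S := fun g => by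
    have := S.pow_index_mem g
    rwa [hidx] at this
  have hSna : ¬ IsMulCommutative S := fun h => by
    have := Cfsg.Agent.Char.card_prime_of_simple_of_comm (G := S) fun a b => h.1.1 a b
    rw [hSc] at this
    norm_num at this
  have hcent : ∀ g : ↥(Cfsg.Lie.chevG2.group F),
      (∀ s ∈ S, g * s = s * g) → g = 1 := by
    set C := Subgroup.centralizer (S : Set ↥(Cfsg.Lie.chevG2.group F)) with hC
    haveI : C.Normal := Subgroup.normal_centralizer
    have hbot : C ⊓ S = ⊥ := by
      have hZ : (C.subgroupOf S) = ⊥ := by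
        rcases hSs.2 _ (inferInstance : (C.subgroupOf S).Normal) with h | h
        · exact h
        · exfalso
          refine hSna ⟨⟨fun a b => Subtype.ext ?_⟩⟩
          exact (Subgroup.mem_centralizer_iff.1 (Subgroup.subgroupOf_eq_top.1 h b.2) a a.2)
      rw [← Subgroup.subgroupOf_map_subtype, hZ, Subgroup.map_bot]
    have h2 : Nat.card C ∣ 2 := by
      have h := S.relIndex_dvd_index_of_normal C
      rw [hidx, ← Subgroup.inf_relIndex_right, inf_comm, hbot, Subgroup.relIndex_bot_left] at h
      exact h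
    intro g hg
    have hgC : g ∈ C := Subgroup.mem_centralizer_iff.2 fun s hs => (hg s hs).symm
    have hcenter : ∀ m : ↥(Cfsg.Lie.chevG2.group F), g * m = m * g := by
      intro m
      by_contra hne
      have hm : m * g * m⁻¹ ∈ C := Subgroup.Normal.conj_mem inferInstance g hgC m
      have hg1 : g ≠ 1 := fun e => hne (by rw [e, one_mul, mul_one])
      have hne' : m * g * m⁻¹ ≠ g := fun e => hne (mul_inv_eq_iff_eq_mul.1 e).symm
      have h1' : m * g * m⁻¹ ≠ 1 := fun e => hg1 (by simpa using e)
      haveI := Fintype.ofFinite C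
      have : 3 ≤ Nat.card C := by
        rw [Nat.card_eq_fintype_card]
        calc 3 = ({1, ⟨g, hgC⟩, ⟨_, hm⟩} : Finset C).card := by
              rw [Finset.card_insert_of_notMem (by
                  simp only [Finset.mem_insert, Finset.mem_singleton, not_or]
                  exact ⟨fun e => hg1 (congrArg Subtype.val e).symm,
                    fun e => h1' (congrArg Subtype.val e).symm⟩),
                Finset.card_insert_of_notMem (by
                  simp only [Finset.mem_singleton]
                  exact fun e => hne' (congrArg Subtype.val e).symm), Finset.card_singleton]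
          _ ≤ _ := Finset.card_le_univ _
      have := Nat.le_of_dvd (by norm_num) h2
      omega
    refine Subtype.ext (Cfsg.Agent.Lie.Chev.G2Two.eq_one_of_commute hF2 fun i => ?_)
    exact congrArg Subtype.val
      (hcenter ⟨_, Cfsg.Agent.Lie.Chev.G2Two.wd_mem_group
        (Cfsg.Agent.Lie.Chev.G2Two.conj_spec (F := F) i).1⟩)
  refine ⟨hM, fun g hg => ?_, fun g => ⟨fun hg => ?_, fun hg => ?_⟩,
    S, inferInstance, hSs, hSc, hcent⟩
  · refine hS9 ⟨g ^ 2, hsq g⟩ ?_
    rw [← Subgroup.orderOf_coe, Subgroup.coe_mk, orderOf_pow' g two_ne_zero, hg]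
    norm_num
  · have hx : orderOf (⟨g ^ 2, hsq g⟩ : S) = 7 := by
      rw [← Subgroup.orderOf_coe, Subgroup.coe_mk, orderOf_pow' g two_ne_zero, hg]
      norm_num
    set τ : MulAut S := MulAut.conjNormal (g ^ 7) with hτ
    have hτ1 : τ = 1 := aut_eq_one hSc hS9 hScl (τ := τ) (by
        rw [hτ, ← map_mul, ← pow_add, show 7 + 7 = orderOf g by rw [hg], pow_orderOf_eq_one, map_one]) hx (by
        refine Subtype.ext ?_
        rw [hτ, MulAut.conjNormal_apply]
        rw [show g ^ 7 * g ^ 2 = g ^ 2 * g ^ 7 from (Commute.pow_pow (Commute.refl g) 7 2).eq,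
          mul_inv_cancel_right])
    have h7 : g ^ 7 = 1 := hcent _ fun s hs => by
      have h := congrArg Subtype.val (DFunLike.congr_fun hτ1 ⟨s, hs⟩)
      rw [hτ, MulAut.conjNormal_apply, MulAut.one_apply] at h
      exact mul_inv_eq_iff_eq_mul.1 h
    have := orderOf_dvd_of_pow_eq_one h7
    rw [hg] at this
    norm_num at this
  · refine (hScl ⟨g ^ 2, hsq g⟩).2 ?_
    rw [← Subgroup.orderOf_coe, Subgroup.coe_mk, orderOf_pow' g two_ne_zero, hg]
    norm_num

/-- Recognition by order and element orders. -/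
theorem gTwoTwo_recognition {G : Type u} [Group G] [Finite G] {F : Type v} [Field F] [Fintype F]
    (hF : Fintype.card F = 2) :
    Nonempty (G ≃* ↥(Cfsg.Lie.chevG2.group F)) ↔
      (Set.range (orderOf : G → ℕ) = Set.range (orderOf : ↥(Cfsg.Lie.chevG2.group F) → ℕ) ∧
        Nat.card G = Nat.card ↥(Cfsg.Lie.chevG2.group F)) := by
  obtain ⟨hM, h9, hcl, S, hSn, hSs, hSc, hScent⟩ := gTwoTwo_facts hF
  haveI : Finite ↥(Cfsg.Lie.chevG2.group F) := Nat.finite_of_card_ne_zero (by rw [hM]; norm_num)
  constructor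
  · rintro ⟨e⟩
    refine ⟨?_, Nat.card_congr e.toEquiv⟩
    ext n
    constructor
    · rintro ⟨g, rfl⟩; exact ⟨e g, e.orderOf_eq g⟩
    · rintro ⟨g, rfl⟩; exact ⟨e.symm g, e.symm.orderOf_eq g⟩
  · rintro ⟨hr, hc⟩
    have hmem : ∀ g : G, ∃ m : ↥(Cfsg.Lie.chevG2.group F), orderOf m = orderOf g := fun g =>
      (Set.ext_iff.1 hr (orderOf g)).1 ⟨g, rfl⟩
    have hcG : Clean G := fun g => by
      obtain ⟨m, hm⟩ := hmem g
      rw [← hm]
      exact hcl m
    have h9G : ∀ g : G, orderOf g ≠ 9 := fun g => by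
      obtain ⟨m, hm⟩ := hmem g
      rw [← hm]
      exact h9 m
    rw [hM] at hc
    obtain ⟨T, hTn, hTs, hTc, hTcent⟩ := exists_simple hc hcG
    exact ext_unique hc T hTc (fun t => by rw [← Subgroup.orderOf_coe]; exact h9G _) hTcent
      hM S hSc (fun s => by rw [← Subgroup.orderOf_coe]; exact h9 _) hScent

end Cfsg.Agent.Recog.U33U
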